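import Groth.Agent.FlatMorOne.FlatLocusOpen

/-! Flat finitely presented modules have flat models of finite type over `ℤ`. -/

universe u

open TensorProduct

namespace Groth.FlatMorOne

attribute [local instance] Algebra.TensorProduct.rightAlgebra

variable {R₀ R S₀ S M₀ M : Type u} [CommRing R₀] [CommRing R] [Algebra R₀ R] [CommRing S₀]
  [Algebra R₀ S₀] [CommRing S] [Algebra R S] [Algebra S₀ S] [Algebra R₀ S] [IsScalarTower R₀ R S]
  [IsScalarTower R₀ S₀ S] [hpush : Algebra.IsPushout R₀ R S₀ S]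
  [AddCommGroup M₀] [Module R₀ M₀] [Module S₀ M₀] [IsScalarTower R₀ S₀ M₀]
  [AddCommGroup M] [Module S M] [Module R M] [IsScalarTower R S M] [Module S₀ M] [IsScalarTower S₀ S M]
  {f₀ : M₀ →ₗ[S₀] M} (hf₀ : IsBaseChange S f₀)

include hpush in
/-- A stage is a pushout as well. -/
theorem isPushout_stage (B : Type u) [CommRing B] [Algebra R₀ B] [Algebra B R] [IsScalarTower R₀ B R]
    [Algebra B S] [IsScalarTower B R S] [Algebra (SOf R₀ S₀ B) S]
    (h : ∀ x, algebraMap (SOf R₀ S₀ B) S x = stageAlgHom R₀ R S₀ S B x)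
    [IsScalarTower B (SOf R₀ S₀ B) S] : Algebra.IsPushout B R (SOf R₀ S₀ B) S := by
  have : IsScalarTower S₀ (SOf R₀ S₀ B) S := IsScalarTower.of_algebraMap_eq fun s => by
    rw [h, AlgHom.commutes]
  have : IsScalarTower R₀ (SOf R₀ S₀ B) S := IsScalarTower.of_algebraMap_eq fun r => by
    rw [IsScalarTower.algebraMap_apply R₀ S₀ (SOf R₀ S₀ B), ← IsScalarTower.algebraMap_apply S₀ (SOf R₀ S₀ B) S,
      ← IsScalarTower.algebraMap_apply]
  have : IsScalarTower R₀ B S := IsScalarTower.of_algebraMap_eq fun r => by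
    rw [IsScalarTower.algebraMap_apply B R S, ← IsScalarTower.algebraMap_apply R₀ B R,
      ← IsScalarTower.algebraMap_apply R₀ R S]
  have : Algebra.IsPushout R₀ B S₀ (SOf R₀ S₀ B) := TensorProduct.isPushout
  exact (Algebra.IsPushout.comp_iff (R := R₀) (S := B) (R' := S₀) (S' := SOf R₀ S₀ B) (T := R) (T' := S)).mp hpush

include hpush hf₀ in
theorem exists_model_isBaseChange (B : Type u) [CommRing B] [Algebra R₀ B] [Algebra B R]
    [IsScalarTower R₀ B R] [Module B M] [IsScalarTower B R M] [Algebra (SOf R₀ S₀ B) S]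
    (h : ∀ x, algebraMap (SOf R₀ S₀ B) S x = stageAlgHom R₀ R S₀ S B x)
    [Module (SOf R₀ S₀ B) M] [IsScalarTower (SOf R₀ S₀ B) S M] :
    ∃ f : MOf R₀ S₀ M₀ B →ₗ[SOf R₀ S₀ B] M, IsBaseChange S f := by
  have : IsScalarTower S₀ (SOf R₀ S₀ B) S := IsScalarTower.of_algebraMap_eq fun s => by
    rw [h, AlgHom.commutes]
  have : IsScalarTower S₀ (SOf R₀ S₀ B) M := IsScalarTower.of_algebraMap_smul fun s m => by
    rw [← algebraMap_smul S (algebraMap S₀ (SOf R₀ S₀ B) s), ← IsScalarTower.algebraMap_apply, algebraMap_smul]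
  let f : MOf R₀ S₀ M₀ B →ₗ[SOf R₀ S₀ B] M :=
    { toFun := stageLinearMap (R₀ := R₀) (R := R) hf₀ B
      map_add' := map_add _
      map_smul' := fun s x => by
        rw [stageLinearMap_smul, ← h]
        exact algebraMap_smul S s _ }
  refine ⟨f, IsBaseChange.of_comp (TensorProduct.isBaseChange S₀ M₀ (SOf R₀ S₀ B)) ?_⟩
  have hcomp : (f.restrictScalars S₀) ∘ₗ TensorProduct.mk S₀ (SOf R₀ S₀ B) M₀ 1 = f₀ := by
    refine LinearMap.ext fun m => ?_
    show pushoutModuleEquiv hf₀ (mMap R₀ S₀ M₀ (IsScalarTower.toAlgHom R₀ B R) (betaOf R₀ S₀ M₀ B m)) = f₀ m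
    rw [mMap_betaOf, betaOf_apply, pushoutModuleEquiv_tmul, map_one, one_smul]
  rw [hcomp]
  exact hf₀

set_option synthInstance.maxHeartbeats 200000 in
set_option maxHeartbeats 1000000 in
/-- A flat finitely presented module over a finitely presented algebra has a flat model over a finite
type `ℤ`-algebra. -/
theorem exists_flat_model (R : Type u) [CommRing R] (S : Type u) [CommRing S] [Algebra R S]
    [Algebra.FinitePresentation R S] (M : Type u)
    [AddCommGroup M] [Module S M] [Module R M] [IsScalarTower R S M]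
    [Module.FinitePresentation S M] [Module.Flat R M] :
    ∃ (R₁ : Type u) (_ : CommRing R₁) (_ : Algebra R₁ R) (S₁ : Type u) (_ : CommRing S₁)
      (_ : Algebra R₁ S₁) (_ : Algebra S₁ S) (_ : Algebra R₁ S) (_ : IsScalarTower R₁ R S)
      (_ : IsScalarTower R₁ S₁ S) (M₁ : Type u) (_ : AddCommGroup M₁) (_ : Module S₁ M₁)
      (_ : Module R₁ M₁) (_ : IsScalarTower R₁ S₁ M₁) (_ : Module S₁ M) (_ : IsScalarTower S₁ S M)
      (f : M₁ →ₗ[S₁] M),
      Algebra.FiniteType ℤ R₁ ∧ Algebra.FiniteType R₁ S₁ ∧ Module.Finite S₁ M₁ ∧ Module.Flat R₁ M₁ ∧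
        Algebra.IsPushout R₁ R S₁ S ∧ IsBaseChange S f := by
  obtain ⟨R₀, hR₀, S₀, _, _, _, _, hS₀, hpush, M₀, _, _, _, _, _, _, f₀, hM₀, hf₀⟩ := exists_models R S M
  have : IsNoetherianRing R₀ := Algebra.FiniteType.isNoetherianRing ℤ R₀
  obtain ⟨A, hA, hflat⟩ := exists_stage_flat_global (R₀ := R₀) (R := R) hf₀
  letI : Algebra (SOf R₀ S₀ A) S := (stageAlgHom R₀ R S₀ S A).toRingHom.toAlgebra
  letI : Module (SOf R₀ S₀ A) M := Module.compHom M (algebraMap (SOf R₀ S₀ A) S)
  have : IsScalarTower (SOf R₀ S₀ A) S M := IsScalarTower.of_algebraMap_smul fun _ _ => rfl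
  have : IsScalarTower A (SOf R₀ S₀ A) S := IsScalarTower.of_algebraMap_eq fun a => by
    show _ = stageAlgHom R₀ R S₀ S A (a ⊗ₜ 1)
    simp only [stageAlgHom, AlgHom.comp_apply, sMap_tmul, AlgEquiv.coe_toAlgHom, pushoutAlgEquiv_tmul,
      map_one, mul_one]
    rfl
  obtain ⟨f, hf⟩ := exists_model_isBaseChange (R₀ := R₀) (R := R) hf₀ A (fun _ => rfl)
  have hAft : Algebra.FiniteType R₀ A := (Subalgebra.fg_iff_finiteType A).mp hA
  exact ⟨A, inferInstance, inferInstance, SOf R₀ S₀ A, inferInstance, inferInstance, inferInstance,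
    inferInstance, inferInstance, inferInstance, MOf R₀ S₀ M₀ A, inferInstance, inferInstance,
    inferInstance, inferInstance, inferInstance, inferInstance, f, hR₀.trans hAft, inferInstance,
    inferInstance, hflat A hA le_rfl, isPushout_stage (R₀ := R₀) (R := R) A (fun _ => rfl), hf⟩

set_option synthInstance.maxHeartbeats 200000 in
set_option maxHeartbeats 1000000 in
/-- A flat finitely presented algebra has a flat model over a finite type `ℤ`-algebra. -/
theorem exists_flat_model_algebra (R : Type u) [CommRing R] (S : Type u) [CommRing S] [Algebra R S]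
    [Algebra.FinitePresentation R S] [Module.Flat R S] :
    ∃ (R₁ : Type u) (_ : CommRing R₁) (_ : Algebra R₁ R) (S₁ : Type u) (_ : CommRing S₁)
      (_ : Algebra R₁ S₁) (_ : Algebra S₁ S) (_ : Algebra R₁ S) (_ : IsScalarTower R₁ R S)
      (_ : IsScalarTower R₁ S₁ S),
      Algebra.FiniteType ℤ R₁ ∧ Algebra.FiniteType R₁ S₁ ∧ Module.Flat R₁ S₁ ∧
        Algebra.IsPushout R₁ R S₁ S := by
  have : Module.FinitePresentation S S := inferInstance
  obtain ⟨R₀, hR₀, S₀, _, _, _, _, hS₀, hpush, -⟩ := exists_models R S S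
  have : IsNoetherianRing R₀ := Algebra.FiniteType.isNoetherianRing ℤ R₀
  have hf₀ : IsBaseChange S (Algebra.linearMap S₀ S) := IsBaseChange.linearMap ..
  obtain ⟨A, hA, hflat⟩ := exists_stage_flat_global (R₀ := R₀) (R := R) hf₀
  letI : Algebra (SOf R₀ S₀ A) S := (stageAlgHom R₀ R S₀ S A).toRingHom.toAlgebra
  have : IsScalarTower A (SOf R₀ S₀ A) S := IsScalarTower.of_algebraMap_eq fun a => by
    show _ = stageAlgHom R₀ R S₀ S A (a ⊗ₜ 1)
    simp only [stageAlgHom, AlgHom.comp_apply, sMap_tmul, AlgEquiv.coe_toAlgHom, pushoutAlgEquiv_tmul,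
      map_one, mul_one]
    rfl
  have hAft : Algebra.FiniteType R₀ A := (Subalgebra.fg_iff_finiteType A).mp hA
  have := hflat A hA le_rfl
  have : Module.Flat A (SOf R₀ S₀ A) := Module.Flat.of_linearEquiv
    ((AlgebraTensorModule.rid S₀ (SOf R₀ S₀ A) (SOf R₀ S₀ A)).restrictScalars A).symm
  exact ⟨A, inferInstance, inferInstance, SOf R₀ S₀ A, inferInstance, inferInstance, inferInstance,
    inferInstance, inferInstance, inferInstance, hR₀.trans hAft, inferInstance, this,
    isPushout_stage (R₀ := R₀) (R := R) A (fun _ => rfl)⟩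

end Groth.FlatMorOne
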