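import Mathlib.RingTheory.LocalRing.Module
import Mathlib.LinearAlgebra.TensorProduct.Vanishing
import Mathlib.LinearAlgebra.TensorProduct.Basis
import Mathlib.Algebra.Module.Projective
import Mathlib.RingTheory.Flat.Basic
import Mathlib.LinearAlgebra.TensorProduct.Prod

/-! Universal injectivity over a local ring: maps from projective modules to flat modules which are
injective modulo the maximal ideal. -/

open TensorProduct IsLocalRing

namespace Groth.FlatMorOne

variable {R : Type*} [CommRing R] [IsLocalRing R]

/-- A family in a flat module, independent modulo the maximal ideal, stays independent with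
coefficients in an arbitrary module. -/
theorem eq_zero_of_sum_tmul_eq_zero {N : Type*} [AddCommGroup N] [Module R N] [Module.Flat R N]
    {Q : Type*} [AddCommGroup Q] [Module R Q] {ι : Type*} (v : ι → N)
    (hv : LinearIndependent (ResidueField R) (TensorProduct.mk R (ResidueField R) N 1 ∘ v))
    (s : Finset ι) (q : ι → Q) (h : ∑ i ∈ s, q i ⊗ₜ[R] v i = 0) : ∀ i ∈ s, q i = 0 := by
  classical
  induction s using Finset.induction generalizing v with
  | empty => simp
  | insert n s hn ih =>
    have h' : ∑ i : {i // i ∈ insert n s}, q i.1 ⊗ₜ[R] v i.1 = 0 := by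
      rw [Finset.sum_coe_sort (insert n s) fun i => q i ⊗ₜ[R] v i]; exact h
    obtain ⟨k, a, y, hay, hqa⟩ := vanishesTrivially_of_sum_tmul_eq_zero_of_rTensor_injective R
      (Module.Flat.rTensor_preserves_injective_linearMap _ (Submodule.injective_subtype _)) h'
    have : v n ∉ maximalIdeal R • (⊤ : Submodule R N) := by
      simpa only [← LinearMap.ker_tensorProductMk] using! hv.ne_zero n
    obtain ⟨j, hj⟩ : ∃ j, IsUnit (a ⟨n, Finset.mem_insert_self ..⟩ j) := by
      contrapose! this
      have e : v n = _ := hay ⟨n, Finset.mem_insert_self ..⟩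
      rw [e]
      exact sum_mem fun _ _ ↦ Submodule.smul_mem_smul (this _) ⟨⟩
    let a' (i : ι) : R := if hi : i ∈ insert n s then a ⟨i, hi⟩ j else 0
    let c (i : ι) : R := -(↑hj.unit⁻¹ * if i = n then 0 else a' i)
    have hqn : q n = ∑ i ∈ s, c i • q i := by
      have e1 : ∑ i ∈ insert n s, a' i • q i = 0 := by
        rw [← Finset.sum_coe_sort (insert n s) fun i => a' i • q i]
        convert hqa j using 2 with i
        simp only [a', dif_pos i.2]
      have e2 : (↑hj.unit⁻¹ : R) • ∑ i ∈ insert n s, a' i • q i = 0 := by rw [e1, smul_zero]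
      rw [Finset.sum_insert hn, smul_add, smul_smul] at e2
      have e3 : a' n = a ⟨n, Finset.mem_insert_self ..⟩ j := dif_pos (Finset.mem_insert_self ..)
      rw [e3, hj.val_inv_mul, one_smul, add_eq_zero_iff_eq_neg] at e2
      rw [e2, Finset.smul_sum, ← Finset.sum_neg_distrib]
      refine Finset.sum_congr rfl fun i hi => ?_
      simp only [c, if_neg (ne_of_mem_of_not_mem hi hn), neg_smul, smul_smul]
    have key := ih (v + (c · • v n)) ?_ ?_
    · intro i hi
      rcases Finset.mem_insert.mp hi with rfl | hi
      · rw [hqn]
        exact Finset.sum_eq_zero fun i hi => by rw [key i hi, smul_zero]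
      · exact key i hi
    · convert! (linearIndependent_add_smul_iff
        (c := fun i => residue R (c i)) (i := n) ?_).mpr hv
      · ext; simp [tmul_add]; rfl
      · simp [c, Function.comp]
    · rw [Finset.sum_insert hn, hqn, sum_tmul] at h
      simp only [Pi.add_apply, tmul_add, Finset.sum_add_distrib, ← smul_tmul]
      rw [add_comm, h]

/-- A map from a free module to a flat module over a local ring which is injective modulo the
maximal ideal is universally injective. -/
theorem rTensor_injective_of_free {F : Type*} [AddCommGroup F] [Module R F] [Module.Free R F]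
    {N : Type*} [AddCommGroup N] [Module R N] [Module.Flat R N] (u : F →ₗ[R] N)
    (h : Function.Injective (LinearMap.lTensor (ResidueField R) u))
    (Q : Type*) [AddCommGroup Q] [Module R Q] : Function.Injective (LinearMap.rTensor Q u) := by
  classical
  let b := Module.Free.chooseBasis R F
  have hv : LinearIndependent (ResidueField R)
      (TensorProduct.mk R (ResidueField R) N 1 ∘ (u ∘ b)) := by
    have := (b.baseChange (ResidueField R)).linearIndependent.map'
      (u.baseChange (ResidueField R)) (LinearMap.ker_eq_bot.mpr h)
    convert! this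
    ext i
    simp
  rw [injective_iff_map_eq_zero]
  intro z hz
  obtain ⟨g, rfl⟩ := (TensorProduct.equivFinsuppOfBasisLeft (N := Q) b).symm.surjective z
  suffices g = 0 by simp [this]
  have e : ∑ i ∈ g.support, g i ⊗ₜ[R] (u ∘ b) i = 0 := by
    have := congrArg (TensorProduct.comm R N Q) hz
    rw [TensorProduct.equivFinsuppOfBasisLeft_symm_apply] at this
    simpa [Finsupp.sum, map_sum] using this
  ext i
  by_cases hi : i ∈ g.support
  · exact eq_zero_of_sum_tmul_eq_zero _ hv _ _ e i hi
  · simpa using hi

/-- A product of two flat modules is flat. -/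
theorem flat_prod {R : Type*} [CommRing R] (N F : Type*) [AddCommGroup N] [Module R N]
    [Module.Flat R N] [AddCommGroup F] [Module R F] [Module.Flat R F] : Module.Flat R (N × F) := by
  rw [Module.Flat.iff_rTensor_injective']
  intro I
  let e₁ := TensorProduct.prodRight R R I N F
  let e₂ := TensorProduct.prodRight R R R N F
  have e : e₂.toLinearMap ∘ₗ I.subtype.rTensor (N × F) =
      ((I.subtype.rTensor N).prodMap (I.subtype.rTensor F)) ∘ₗ e₁.toLinearMap := by
    ext <;> simp [e₁, e₂]
  have hi : Function.Injective
      (((I.subtype.rTensor N).prodMap (I.subtype.rTensor F)) ∘ₗ e₁.toLinearMap) :=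
    (Function.Injective.prodMap
      (Module.Flat.rTensor_preserves_injective_linearMap _ Subtype.val_injective)
      (Module.Flat.rTensor_preserves_injective_linearMap _ Subtype.val_injective)).comp e₁.injective
  rw [← e] at hi
  exact Function.Injective.of_comp (f := e₂) hi

/-- A map from a projective module to a flat module over a local ring which is injective modulo the
maximal ideal is universally injective. -/
theorem rTensor_injective_of_projective {M : Type*} [AddCommGroup M] [Module R M]
    [Module.Projective R M] {N : Type*} [AddCommGroup N] [Module R N] [Module.Flat R N]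
    (u : M →ₗ[R] N) (h : Function.Injective (LinearMap.lTensor (ResidueField R) u))
    (Q : Type*) [AddCommGroup Q] [Module R Q] : Function.Injective (LinearMap.rTensor Q u) := by
  obtain ⟨s, hs⟩ := (inferInstance : Module.Projective R M).out
  let π := Finsupp.linearCombination R (id : M → M)
  have hπs : π ∘ₗ s = LinearMap.id := LinearMap.ext hs
  let u' : (M →₀ R) →ₗ[R] N × (M →₀ R) := (u ∘ₗ π).prod (LinearMap.id - s ∘ₗ π)
  have h' : Function.Injective (u'.lTensor (ResidueField R)) := by
    rw [injective_iff_map_eq_zero]
    intro x hx
    have h1 : LinearMap.fst R N (M →₀ R) ∘ₗ u' = u ∘ₗ π := LinearMap.fst_prod _ _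
    have h2 : LinearMap.snd R N (M →₀ R) ∘ₗ u' = LinearMap.id - s ∘ₗ π := LinearMap.snd_prod _ _
    have a1 := congrArg (fun f => LinearMap.lTensor (ResidueField R) f x) h1
    have a2 := congrArg (fun f => LinearMap.lTensor (ResidueField R) f x) h2
    simp only [LinearMap.lTensor_comp, LinearMap.lTensor_sub, LinearMap.lTensor_id,
      LinearMap.comp_apply, LinearMap.sub_apply, LinearMap.id_apply, hx, map_zero] at a1 a2
    rw [h (a₁ := π.lTensor _ x) (a₂ := 0) (by rw [map_zero]; exact a1.symm), map_zero,
      sub_zero] at a2
    exact a2.symm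
  have := flat_prod (R := R) N (M →₀ R)
  have H := rTensor_injective_of_free u' h' Q
  rw [injective_iff_map_eq_zero]
  intro z hz
  have hs' : Function.Injective (s.rTensor Q) := by
    refine Function.HasLeftInverse.injective ⟨π.rTensor Q, fun w => ?_⟩
    rw [← LinearMap.rTensor_comp_apply, hπs, LinearMap.rTensor_id, LinearMap.id_apply]
  apply hs'
  apply H
  have e : u' ∘ₗ s = LinearMap.inl R N (M →₀ R) ∘ₗ u := by
    ext1 x
    have : π (s x) = x := hs x
    simp [u', this]
  rw [map_zero, map_zero, ← LinearMap.rTensor_comp_apply, e, LinearMap.rTensor_comp_apply, hz,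
    map_zero]

end Groth.FlatMorOne
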