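import Groth.Agent.FlatMorOne.LocalCriterion
import Groth.Agent.FlatMorOne.UnivInj
import Mathlib.RingTheory.Flat.FaithfullyFlat.Basic
import Mathlib.RingTheory.Flat.Stability
import Mathlib.RingTheory.Localization.BaseChange
import Mathlib.RingTheory.Localization.Submodule
import Mathlib.RingTheory.Artinian.Ring

/-! Consequences of the local criterion of flatness. -/

open TensorProduct

namespace Groth.FlatMorOne

section BaseChange

variable {R : Type*} [CommRing R] {T : Type*} [CommRing T] [Algebra R T]

theorem lTensor_baseChange_injective_iff {A : Type*} [AddCommGroup A] [Module R A] [Module T A]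
    [IsScalarTower R T A] {X Y : Type*} [AddCommGroup X] [Module R X] [AddCommGroup Y] [Module R Y]
    (f : X →ₗ[R] Y) :
    Function.Injective ((f.baseChange T).lTensor A) ↔ Function.Injective (f.lTensor A) := by
  let eX := TensorProduct.AlgebraTensorModule.cancelBaseChange R T T A X
  let eY := TensorProduct.AlgebraTensorModule.cancelBaseChange R T T A Y
  have e : ∀ x, eY ((f.baseChange T).lTensor A x) = f.lTensor A (eX x) := by
    intro x
    induction x with
    | zero => simp
    | tmul q w =>
      induction w with
      | zero => simp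
      | tmul t m => simp [eX, eY]
      | add w₁ w₂ h₁ h₂ => simp only [tmul_add, map_add, h₁, h₂]
    | add x y hx hy => simp only [map_add, hx, hy]
  constructor
  · intro h x y hxy
    obtain ⟨x, rfl⟩ := eX.surjective x
    obtain ⟨y, rfl⟩ := eX.surjective y
    rw [← e, ← e] at hxy
    rw [h (eY.injective hxy)]
  · intro h x y hxy
    apply eX.injective
    apply h
    rw [← e, ← e, hxy]

/-- If a module over `T` is flat over `R` and faithfully flat over `T` then `T` is flat over `R`. -/
theorem flat_of_faithfullyFlat_module (M : Type*) [AddCommGroup M] [Module R M] [Module T M]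
    [IsScalarTower R T M] [Module.Flat R M] [Module.FaithfullyFlat T M] : Module.Flat R T := by
  rw [Module.Flat.iff_lTensor_injective]
  intro J _
  have h : Function.Injective ((J.subtype.baseChange T).lTensor M) :=
    (lTensor_baseChange_injective_iff J.subtype).mpr
      (Module.Flat.lTensor_preserves_injective_linearMap _ Subtype.val_injective)
  exact (Module.FaithfullyFlat.lTensor_injective_iff_injective T M _).mp h

end BaseChange

section Nilpotent

variable {R S M : Type*} [CommRing R] [CommRing S] [Algebra R S]
  [AddCommGroup M] [Module S M] [Module R M] [IsScalarTower R S M] [Module.Flat R M]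

/-- If `M` is flat over `R`, then `IS ⊗_S M → M` is injective. -/
theorem rTensor_map_injective_of_flat (I : Ideal R) :
    Function.Injective ((I.map (algebraMap R S)).subtype.rTensor M) := by
  let J := I.map (algebraMap R S)
  let eM := TensorProduct.lid S M
  let g : I ⊗[R] M →ₗ[R] J ⊗[S] M :=
    TensorProduct.lift
      { toFun := fun a => (((TensorProduct.mk S J M) ⟨algebraMap R S a, Ideal.mem_map_of_mem _ a.2⟩).restrictScalars R)
        map_add' := fun a b => by
          ext m
          show (⟨algebraMap R S ↑(a + b), _⟩ : J) ⊗ₜ[S] m = _ ⊗ₜ[S] m + _ ⊗ₜ[S] m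
          rw [← add_tmul]
          congr 1
          exact Subtype.ext (map_add _ _ _)
        map_smul' := fun r a => by
          ext m
          show (⟨algebraMap R S ↑(r • a), _⟩ : J) ⊗ₜ[S] m = r • (_ ⊗ₜ[S] m)
          rw [TensorProduct.smul_tmul']
          congr 1
          exact Subtype.ext (by simp [Algebra.smul_def]) }
  have hg : Function.Surjective g := by
    intro z
    induction z with
    | zero => exact ⟨0, map_zero g⟩
    | add a b ha hb =>
      obtain ⟨a, rfl⟩ := ha; obtain ⟨b, rfl⟩ := hb
      exact ⟨a + b, map_add g a b⟩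
    | tmul j m =>
      obtain ⟨j, hj⟩ := j
      induction hj using Submodule.span_induction generalizing m with
      | mem x hx =>
        obtain ⟨a, ha, rfl⟩ := hx
        exact ⟨(⟨a, ha⟩ : I) ⊗ₜ m, rfl⟩
      | zero => exact ⟨0, by rw [map_zero]; exact (zero_tmul J m).symm⟩
      | add x y hx hy ihx ihy =>
        obtain ⟨a, ha⟩ := ihx m; obtain ⟨b, hb⟩ := ihy m
        exact ⟨a + b, by rw [map_add, ha, hb, ← add_tmul]; rfl⟩
      | smul s x hx ih =>
        obtain ⟨a, ha⟩ := ih (s • m)
        refine ⟨a, ha.trans ?_⟩
        rw [tmul_smul, TensorProduct.smul_tmul']; rfl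
  have hc : ∀ z, eM (J.subtype.rTensor M (g z)) = TensorProduct.lid R M (I.subtype.rTensor M z) := by
    intro z
    induction z with
    | zero => simp
    | add a b ha hb => simp only [map_add, ha, hb]
    | tmul a m => simp [g, eM]
  rw [injective_iff_map_eq_zero]
  intro z hz
  obtain ⟨z, rfl⟩ := hg z
  have : TensorProduct.lid R M (I.subtype.rTensor M z) = 0 := by rw [← hc, hz, map_zero]
  rw [(injective_iff_map_eq_zero _).mp
    (Module.Flat.rTensor_preserves_injective_linearMap I.subtype Subtype.val_injective) z
    ((LinearEquiv.map_eq_zero_iff _).mp this), map_zero]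

/-- Fibrewise criterion of flatness along a nilpotent ideal. -/
theorem flat_of_isNilpotent (I : Ideal R) (hI : IsNilpotent I)
    [Module.Flat (S ⧸ I.map (algebraMap R S)) ((S ⧸ I.map (algebraMap R S)) ⊗[S] M)] :
    Module.Flat S M := by
  obtain ⟨n, hn⟩ := hI
  rw [Module.Flat.iff_lTensor_injective]
  intro J _
  refine TorZero.lTensor_injective (Q := S ⧸ J) (torZero_of_pow_smul_eq_zero _
    (rTensor_map_injective_of_flat I) n _ fun a ha x => ?_)
    Subtype.val_injective (LinearMap.exact_subtype_mkQ J) (Submodule.mkQ_surjective J)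
  have : a = 0 := by
    rw [← Ideal.map_pow, hn, Submodule.zero_eq_bot, Ideal.map_bot, Ideal.mem_bot] at ha
    exact ha
  rw [this, zero_smul]

end Nilpotent

section Localization

variable {R S M : Type*} [CommRing R] [CommRing S] [Algebra R S]
  [AddCommGroup M] [Module S M] [Module R M] [IsScalarTower R S M]

theorem lTensor_localizedModule_injective (T : Submonoid S) {X Y : Type*} [AddCommGroup X]
    [Module R X] [AddCommGroup Y] [Module R Y] {f : X →ₗ[R] Y}
    (h : Function.Injective (f.lTensor M)) :
    Function.Injective (f.lTensor (LocalizedModule T M)) := by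
  let A := Localization T
  let fM : M ⊗[R] X →ₗ[S] M ⊗[R] Y := AlgebraTensorModule.map LinearMap.id f
  let e₀ : LocalizedModule T M ≃ₗ[R] A ⊗[S] M :=
    (LocalizedModule.equivTensorProduct T M).restrictScalars R
  let eX : LocalizedModule T M ⊗[R] X ≃ₗ[R] A ⊗[S] (M ⊗[R] X) :=
    (e₀.rTensor X).trans ((TensorProduct.AlgebraTensorModule.assoc R S S A M X).restrictScalars R)
  let eY : LocalizedModule T M ⊗[R] Y ≃ₗ[R] A ⊗[S] (M ⊗[R] Y) :=
    (e₀.rTensor Y).trans ((TensorProduct.AlgebraTensorModule.assoc R S S A M Y).restrictScalars R)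
  have e : ∀ z, eY (f.lTensor _ z) = fM.lTensor A (eX z) := by
    intro z
    induction z with
    | zero => simp
    | add a b ha hb => simp only [map_add, ha, hb]
    | tmul w x =>
      obtain ⟨w, rfl⟩ := e₀.symm.surjective w
      induction w with
      | zero => simp [eX, eY]
      | add a b ha hb => simp only [map_add, add_tmul, ha, hb]
      | tmul a m => simp [eX, eY, fM]
  have : Module.Flat S A := IsLocalization.flat A T
  have hf : Function.Injective (fM.lTensor A) :=
    Module.Flat.lTensor_preserves_injective_linearMap _ h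
  intro x y hxy
  exact eX.injective (hf (by rw [← e, ← e, hxy]))

/-- Flatness of `M_q` from flatness modulo all powers of an ideal of `R` contained in `q`. -/
theorem flat_localizedModule_of_forall_pow [IsNoetherianRing R] [IsNoetherianRing S]
    [Module.Finite S M] (I : Ideal R)
    (h : ∀ n : ℕ, 0 < n → Module.Flat (R ⧸ I ^ n) ((R ⧸ I ^ n) ⊗[R] M))
    (q : Ideal S) [q.IsPrime] (hq : I.map (algebraMap R S) ≤ q) :
    Module.Flat R (LocalizedModule q.primeCompl M) := by
  refine flat_of_forall_flat_mod_pow (S := Localization.AtPrime q) I ?_ fun k hk J _ => ?_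
  · rw [IsLocalRing.jacobson_eq_maximalIdeal _ bot_ne_top, Ideal.map_le_iff_le_comap]
    intro a ha
    rw [Ideal.mem_comap, IsScalarTower.algebraMap_apply R S (Localization.AtPrime q)]
    exact (IsLocalization.AtPrime.to_map_mem_maximal_iff (Localization.AtPrime q) q _).mpr
      (hq (Ideal.mem_map_of_mem _ ha))
  · have := h k hk
    exact lTensor_localizedModule_injective _ (injective_lTensor_of_flat_quotient (I ^ k) J)

end Localization

section Local

variable {R : Type*} [CommRing R] [IsLocalRing R]

theorem lTensor_injective_of_residueField {M N : Type*} [AddCommGroup M] [Module R M]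
    [AddCommGroup N] [Module R N] (u : N →ₗ[R] M)
    (h : Function.Injective (u.lTensor (IsLocalRing.ResidueField R)))
    (P : Type*) [AddCommGroup P] [Module R P] (hP : ∀ a ∈ IsLocalRing.maximalIdeal R, ∀ x : P, a • x = 0) :
    Function.Injective (u.lTensor P) := by
  let : Module (IsLocalRing.ResidueField R) P :=
    (Module.IsTorsionBySet.module (I := IsLocalRing.maximalIdeal R) fun x a => hP a a.2 x :
      Module (R ⧸ IsLocalRing.maximalIdeal R) P)
  have : IsScalarTower R (IsLocalRing.ResidueField R) P :=
    ⟨fun r c x => by
      obtain ⟨c, rfl⟩ := IsLocalRing.residue_surjective c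
      rw [Algebra.smul_def, ← IsLocalRing.ResidueField.algebraMap_eq, ← map_mul]
      exact mul_smul r c x⟩
  exact (lTensor_baseChange_injective_iff (T := IsLocalRing.ResidueField R) u).mp
    (Module.Flat.lTensor_preserves_injective_linearMap _ h)

variable (S : Type*) [CommRing S] [IsLocalRing S] [IsNoetherianRing S] [Algebra R S]
  [IsLocalHom (algebraMap R S)] {M : Type*} [AddCommGroup M] [Module R M] [Module.Flat R M]
  {N : Type*} [AddCommGroup N] [Module R N] [Module S N] [IsScalarTower R S N] [Module.Finite S N]

include S in
theorem rTensor_injective_of_finite (u : N →ₗ[R] M)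
    (h : Function.Injective (u.lTensor (IsLocalRing.ResidueField R)))
    (Q : Type*) [AddCommGroup Q] [Module R Q] [Module.Finite R Q] :
    Function.Injective (u.rTensor Q) := by
  let m := IsLocalRing.maximalIdeal R
  have := finite_tensor_left (R := R) (S := S) (M := N) (J := Q)
  rw [injective_iff_map_eq_zero]
  intro z hz
  have step : ∀ n : ℕ, ∃ w : N ⊗[R] ↥(m ^ n • (⊤ : Submodule R Q)),
      (m ^ n • (⊤ : Submodule R Q)).subtype.lTensor N w = z := by
    intro n
    induction n with
    | zero =>
      have e : m ^ 0 • (⊤ : Submodule R Q) = ⊤ := by simp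
      have hsurj : Function.Surjective (m ^ 0 • (⊤ : Submodule R Q)).subtype := fun x =>
        ⟨⟨x, by rw [e]; trivial⟩, rfl⟩
      exact LinearMap.lTensor_surjective N hsurj z
    | succ n ih =>
      obtain ⟨w, hw⟩ := ih
      let X := m ^ n • (⊤ : Submodule R Q)
      let Y := m ^ (n + 1) • (⊤ : Submodule R Q)
      have hYX : Y ≤ X := Submodule.smul_mono (Ideal.pow_le_pow_right (Nat.le_succ n)) le_rfl
      let π : X →ₗ[R] X ⧸ Y.comap X.subtype := (Y.comap X.subtype).mkQ
      have h0 : u.rTensor X w = 0 := by
        apply Module.Flat.lTensor_preserves_injective_linearMap (M := M) X.subtype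
          Subtype.val_injective
        rw [map_zero, ← hz, ← hw, ← LinearMap.comp_apply, LinearMap.lTensor_comp_rTensor,
          ← LinearMap.rTensor_comp_lTensor, LinearMap.comp_apply]
      have hP : Function.Injective (u.rTensor (X ⧸ Y.comap X.subtype)) := by
        refine (LinearMap.lTensor_inj_iff_rTensor_inj _ _).mp
          (lTensor_injective_of_residueField u h _ fun a ha x => ?_)
        obtain ⟨⟨x, hx⟩, rfl⟩ := Submodule.mkQ_surjective _ x
        rw [← map_smul, Submodule.mkQ_apply, Submodule.Quotient.mk_eq_zero, Submodule.mem_comap]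
        show a • x ∈ m ^ (n + 1) • (⊤ : Submodule R Q)
        rw [pow_succ', ← smul_eq_mul, Submodule.smul_assoc]
        exact Submodule.smul_mem_smul ha hx
      have h1 : π.lTensor N w = 0 := by
        apply hP
        rw [map_zero, ← LinearMap.comp_apply, LinearMap.rTensor_comp_lTensor,
          ← LinearMap.lTensor_comp_rTensor, LinearMap.comp_apply, h0, map_zero]
      obtain ⟨v, hv⟩ := (lTensor_exact N (LinearMap.exact_subtype_mkQ _)
        (Submodule.mkQ_surjective _) w).mp h1
      refine ⟨(X.subtype.comp (Y.comap X.subtype).subtype |>.codRestrict Y fun x => x.2).lTensor N v, ?_⟩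
      rw [← hw, ← hv, ← LinearMap.lTensor_comp_apply, ← LinearMap.lTensor_comp_apply]
      rfl
  suffices z ∈ (⨅ n : ℕ, (m.map (algebraMap R S)) ^ n • (⊤ : Submodule S (N ⊗[R] Q))) by
    rwa [Ideal.iInf_pow_smul_eq_bot_of_le_jacobson _
      (map_le_jacobson_of_isLocalHom (IsLocalRing.maximalIdeal.isMaximal R).ne_top),
      Submodule.mem_bot] at this
  rw [Submodule.mem_iInf]
  intro n
  obtain ⟨w, rfl⟩ := step n
  rw [← Ideal.map_pow]
  exact range_lTensor_smul_top_le _ le_rfl w

include S in
theorem injective_and_flat_coker (u : N →ₗ[R] M)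
    (h : Function.Injective (u.lTensor (IsLocalRing.ResidueField R))) :
    Function.Injective u ∧ Module.Flat R (M ⧸ LinearMap.range u) := by
  have hR : Function.Injective (u.rTensor R) := rTensor_injective_of_finite S u h R
  have hu : Function.Injective u := by
    intro x y hxy
    apply (TensorProduct.rid R N).symm.injective
    apply hR
    simp [hxy]
  refine ⟨hu, Module.Flat.iff_lTensor_injective.mpr fun J _ => ?_⟩
  exact lTensor_injective_of_exact_of_exact_of_rTensor_injective
    (LinearMap.exact_map_mkQ_range u) (Submodule.mkQ_surjective _)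
    (LinearMap.exact_subtype_mkQ J) (Submodule.mkQ_surjective J)
    (rTensor_injective_of_finite S u h (R ⧸ J))
    (Module.Flat.lTensor_preserves_injective_linearMap _ Subtype.val_injective)

end Local

end Groth.FlatMorOne
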