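import Groth.Agent.FlatMorOne.TorZero
import Mathlib.RingTheory.Filtration
import Mathlib.RingTheory.TensorProduct.Finite
import Mathlib.RingTheory.Flat.Localization
import Mathlib.RingTheory.Noetherian.Basic

/-! The local criterion of flatness over Noetherian rings. -/

open TensorProduct

namespace Groth.FlatMorOne

variable {R : Type*} [CommRing R]

/-- `Module.Finite` for `M ⊗[R] J` over `S`. -/
theorem finite_tensor_left {S M J : Type*} [CommRing S] [Algebra R S] [AddCommGroup M] [Module R M]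
    [Module S M] [IsScalarTower R S M] [Module.Finite S M] [AddCommGroup J] [Module R J]
    [Module.Finite R J] : Module.Finite S (M ⊗[R] J) :=
  Module.Finite.equiv (TensorProduct.AlgebraTensorModule.cancelBaseChange R S S M J)

theorem range_lTensor_smul_top_le {S M J : Type*} [CommRing S] [Algebra R S] [AddCommGroup M]
    [Module R M] [Module S M] [IsScalarTower R S M] [AddCommGroup J] [Module R J] (I : Ideal R)
    {K : Submodule R J} (hK : K ≤ I • ⊤) (w : M ⊗[R] K) :
    K.subtype.lTensor M w ∈ (I.map (algebraMap R S)) • (⊤ : Submodule S (M ⊗[R] J)) := by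
  induction w with
  | zero => simp
  | add a b ha hb => rw [map_add]; exact add_mem ha hb
  | tmul m x =>
    obtain ⟨x, hx⟩ := x
    have hx' := hK hx
    rw [LinearMap.lTensor_tmul, Submodule.subtype_apply]
    show m ⊗ₜ[R] x ∈ _
    clear hx
    induction hx' using Submodule.smul_induction_on' with
    | smul a ha y _ =>
      rw [tmul_smul, ← algebraMap_smul S a]
      exact Submodule.smul_mem_smul (Ideal.mem_map_of_mem _ ha) trivial
    | add y _ z _ hy hz => rw [tmul_add]; exact add_mem hy hz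

/-- Flatness modulo all powers of an ideal in the Jacobson radical gives flatness. -/
theorem flat_of_forall_flat_mod_pow {S M : Type*} [CommRing S] [IsNoetherianRing R]
    [IsNoetherianRing S] [Algebra R S] [AddCommGroup M] [Module R M] [Module S M]
    [IsScalarTower R S M] [Module.Finite S M] (I : Ideal R)
    (hI : I.map (algebraMap R S) ≤ Ideal.jacobson ⊥)
    (h : ∀ k : ℕ, 0 < k → ∀ J : Ideal R, I ^ k ≤ J →
      Function.Injective
        ((Submodule.map (I ^ k).mkQ J).subtype.lTensor M)) :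
    Module.Flat R M := by
  rw [Module.Flat.iff_lTensor_injective]
  intro J hJ
  have : Module.Finite R J := Module.Finite.iff_fg.mpr hJ
  have := finite_tensor_left (R := R) (S := S) (M := M) (J := J)
  rw [injective_iff_map_eq_zero]
  intro z hz
  suffices z ∈ (⨅ n : ℕ, (I.map (algebraMap R S)) ^ n • (⊤ : Submodule S (M ⊗[R] J))) by
    rwa [Ideal.iInf_pow_smul_eq_bot_of_le_jacobson _ hI, Submodule.mem_bot] at this
  rw [Submodule.mem_iInf]
  intro n
  obtain ⟨k₀, hk₀⟩ := Ideal.exists_pow_inf_eq_pow_smul (M := R) I J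
  let k := n + k₀ + 1
  let φ : J →ₗ[R] ↥(Submodule.map (I ^ k).mkQ (J ⊔ I ^ k)) :=
    ((I ^ k).mkQ.comp J.subtype).codRestrict _ fun x =>
      ⟨x, Submodule.mem_sup_left x.2, by rfl⟩
  have hφ : Function.Surjective φ := by
    rintro ⟨_, y, hy, rfl⟩
    obtain ⟨a, ha, b, hb, rfl⟩ := Submodule.mem_sup.mp hy
    refine ⟨⟨a, ha⟩, Subtype.ext ?_⟩
    show (I ^ k).mkQ a = (I ^ k).mkQ (a + b)
    rw [map_add, Submodule.mkQ_apply (I ^ k) b, (Submodule.Quotient.mk_eq_zero _).mpr hb, add_zero]
  have hker : LinearMap.ker φ ≤ I ^ n • (⊤ : Submodule R J) := by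
    intro x hx
    have hx' : (x : R) ∈ I ^ k := by
      have := congrArg Subtype.val (LinearMap.mem_ker.mp hx)
      exact (Submodule.Quotient.mk_eq_zero (I ^ k)).mp this
    apply (Submodule.mem_smul_top_iff (I ^ n) J x).mpr
    have h1 : (x : R) ∈ I ^ k • (⊤ : Submodule R R) ⊓ J := by
      rw [smul_eq_mul, Ideal.mul_top]; exact ⟨hx', x.2⟩
    rw [hk₀ k (by omega)] at h1
    exact Submodule.smul_mono (Ideal.pow_le_pow_right (by omega)) inf_le_right h1
  have hz' : φ.lTensor M z = 0 := by
    apply h k (by omega) (J ⊔ I ^ k) le_sup_right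
    have e : (Submodule.map (I ^ k).mkQ (J ⊔ I ^ k)).subtype ∘ₗ φ = (I ^ k).mkQ ∘ₗ J.subtype := rfl
    rw [map_zero, ← LinearMap.lTensor_comp_apply, e, LinearMap.lTensor_comp_apply, hz, map_zero]
  obtain ⟨w, rfl⟩ := (lTensor_exact M (LinearMap.exact_subtype_ker_map φ) hφ z).mp hz'
  rw [← Ideal.map_pow]
  exact range_lTensor_smul_top_le (I ^ n) hker w

/-- Flatness of all `M/I^k M` over `R/I^k` in the shape used above. -/
theorem injective_lTensor_of_flat_quotient {M : Type*} [AddCommGroup M] [Module R M] (𝔞 : Ideal R)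
    [Module.Flat (R ⧸ 𝔞) ((R ⧸ 𝔞) ⊗[R] M)] (J : Ideal R) :
    Function.Injective
      ((Submodule.map 𝔞.mkQ J).subtype.lTensor M) := by
  let J' : Ideal (R ⧸ 𝔞) := J.map (Ideal.Quotient.mk 𝔞)
  have h := (rTensor_baseChange_injective_iff (R := R) (M := M) J'.subtype).mp
    (Module.Flat.rTensor_preserves_injective_linearMap _ Subtype.val_injective)
  rw [LinearMap.lTensor_inj_iff_rTensor_inj]
  let e : ↥(Submodule.map 𝔞.mkQ J) →ₗ[R] J' :=
    { toFun := fun x => ⟨x.1, by
        obtain ⟨y, hy, hy'⟩ := x.2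
        rw [← hy']; exact Ideal.mem_map_of_mem _ hy⟩
      map_add' := fun _ _ => rfl
      map_smul' := fun _ _ => rfl }
  have he : Function.Bijective e := by
    refine ⟨fun x y hxy => Subtype.ext (congrArg Subtype.val hxy :), fun x => ?_⟩
    obtain ⟨y, hy, hy'⟩ := (Ideal.mem_map_iff_of_surjective _ Ideal.Quotient.mk_surjective).mp x.2
    exact ⟨⟨x.1, y, hy, hy'⟩, rfl⟩
  have hc : (Submodule.map 𝔞.mkQ J).subtype = (J'.subtype.restrictScalars R) ∘ₗ
      (LinearEquiv.ofBijective e he).toLinearMap := rfl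
  rw [hc, LinearMap.rTensor_comp]
  exact h.comp ((LinearEquiv.ofBijective e he).rTensor M).injective

/-- The local criterion of flatness. -/
theorem flat_of_rTensor_injective {S M : Type*} [CommRing S] [IsNoetherianRing R]
    [IsNoetherianRing S] [Algebra R S] [AddCommGroup M] [Module R M] [Module S M]
    [IsScalarTower R S M] [Module.Finite S M] (I : Ideal R)
    (hI : I.map (algebraMap R S) ≤ Ideal.jacobson ⊥)
    (h1 : Function.Injective (I.subtype.rTensor M))
    [Module.Flat (R ⧸ I) ((R ⧸ I) ⊗[R] M)] : Module.Flat R M := by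
  refine flat_of_forall_flat_mod_pow (S := S) I hI fun k _ J _ => ?_
  refine TorZero.lTensor_injective (Q := (R ⧸ I ^ k) ⧸ Submodule.map (I ^ k).mkQ J)
    (torZero_of_pow_smul_eq_zero I h1 k _ fun a ha x => ?_)
    Subtype.val_injective (LinearMap.exact_subtype_mkQ _) (Submodule.mkQ_surjective _)
  obtain ⟨x, rfl⟩ := Submodule.mkQ_surjective _ x
  obtain ⟨x, rfl⟩ := Submodule.mkQ_surjective _ x
  have : a • x ∈ I ^ k := by rw [smul_eq_mul]; exact Ideal.mul_mem_right _ _ ha
  rw [← map_smul, ← map_smul, Submodule.mkQ_apply (I ^ k), (Submodule.Quotient.mk_eq_zero _).mpr this,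
    map_zero]

theorem flat_residue_quotient (R : Type*) [CommRing R] [IsLocalRing R] (X : Type*) [AddCommGroup X]
    [Module (R ⧸ IsLocalRing.maximalIdeal R) X] :
    Module.Flat (R ⧸ IsLocalRing.maximalIdeal R) X :=
  letI := Ideal.Quotient.field (IsLocalRing.maximalIdeal R)
  inferInstance

theorem map_le_jacobson_of_isLocalHom {R S : Type*} [CommRing R] [CommRing S] [IsLocalRing R]
    [IsLocalRing S] [Algebra R S] [IsLocalHom (algebraMap R S)] {I : Ideal R} (hI : I ≠ ⊤) :
    I.map (algebraMap R S) ≤ Ideal.jacobson ⊥ := by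
  rw [IsLocalRing.jacobson_eq_maximalIdeal _ bot_ne_top, Ideal.map_le_iff_le_comap]
  intro a ha hu
  exact (IsLocalRing.le_maximalIdeal hI ha) (isUnit_of_map_unit _ a hu)

end Groth.FlatMorOne
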