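import Mathlib.RingTheory.Extension.Presentation.Core
import Mathlib.Algebra.Module.FinitePresentation
import Mathlib.RingTheory.IsTensorProduct
import Mathlib.RingTheory.Adjoin.Tower

/-! Models of finitely presented algebras and modules over finite type `ℤ`-subalgebras. -/

universe u

open TensorProduct

namespace Groth.FlatMorOne

attribute [local instance] Algebra.TensorProduct.rightAlgebra

/-- The base change of a quotient of a free module by the span of finitely many vectors. -/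
theorem isBaseChange_quotient_span {S₀ S : Type u} [CommRing S₀] [CommRing S] [Algebra S₀ S]
    {n : ℕ} {σ : Type*} (k₀ : σ → Fin n → S₀) {M : Type u} [AddCommGroup M] [Module S₀ M] [Module S M]
    [IsScalarTower S₀ S M] (K : Submodule S (Fin n → S)) (e : M ≃ₗ[S] (Fin n → S) ⧸ K)
    (hK : K = Submodule.span S (Set.range fun j => fun i => algebraMap S₀ S (k₀ j i))) :
    ∃ f : ((Fin n → S₀) ⧸ Submodule.span S₀ (Set.range k₀)) →ₗ[S₀] M, IsBaseChange S f := by
  classical
  let K₀ := Submodule.span S₀ (Set.range k₀)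
  let b : Fin n → (Fin n → S) := fun i => Pi.single i 1
  let π : (Fin n → S) →ₗ[S] M := e.symm.toLinearMap ∘ₗ K.mkQ
  let π₀ : (Fin n → S₀) →ₗ[S₀] M :=
    (π.restrictScalars S₀) ∘ₗ LinearMap.pi fun i => (Algebra.linearMap S₀ S) ∘ₗ LinearMap.proj i
  have hπ₀ : K₀ ≤ LinearMap.ker π₀ := by
    rw [Submodule.span_le]
    rintro _ ⟨j, rfl⟩
    show π (fun i => algebraMap S₀ S (k₀ j i)) = 0
    simp only [π, LinearMap.comp_apply, LinearEquiv.coe_coe, LinearEquiv.map_eq_zero_iff,
      Submodule.mkQ_apply, Submodule.Quotient.mk_eq_zero, hK]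
    exact Submodule.subset_span ⟨j, rfl⟩
  let f : ((Fin n → S₀) ⧸ K₀) →ₗ[S₀] M := K₀.liftQ π₀ hπ₀
  refine ⟨f, ?_⟩
  let F : S ⊗[S₀] ((Fin n → S₀) ⧸ K₀) →ₗ[S] M := f.liftBaseChange S
  let c : Fin n → S ⊗[S₀] ((Fin n → S₀) ⧸ K₀) := fun i => 1 ⊗ₜ K₀.mkQ (Pi.single i 1)
  let Φ : (Fin n → S) →ₗ[S] S ⊗[S₀] ((Fin n → S₀) ⧸ K₀) := Fintype.linearCombination S c
  have hΦmap : ∀ v : Fin n → S₀, Φ (fun i => algebraMap S₀ S (v i)) = 1 ⊗ₜ K₀.mkQ v := by
    intro v
    rw [Fintype.linearCombination_apply]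
    conv_rhs => rw [pi_eq_sum_univ' v]
    rw [map_sum, tmul_sum]
    refine Finset.sum_congr rfl fun i _ => ?_
    rw [map_smul, tmul_smul, algebraMap_smul]
  have hΦK : ∀ v ∈ K, Φ v = 0 := by
    intro v hv
    rw [hK] at hv
    induction hv using Submodule.span_induction with
    | mem w hw =>
      obtain ⟨j, rfl⟩ := hw
      rw [hΦmap, show K₀.mkQ (k₀ j) = 0 from
        (Submodule.Quotient.mk_eq_zero _).mpr (Submodule.subset_span ⟨j, rfl⟩), tmul_zero]
    | zero => rw [map_zero]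
    | add x y _ _ hx hy => rw [map_add, hx, hy, add_zero]
    | smul r x _ hx => rw [map_smul, hx, smul_zero]
  have hFΦ : ∀ v, F (Φ v) = π v := by
    intro v
    conv_rhs => rw [pi_eq_sum_univ' v]
    rw [Fintype.linearCombination_apply, map_sum, map_sum]
    refine Finset.sum_congr rfl fun i _ => ?_
    rw [map_smul, map_smul]
    congr 1
    show (1 : S) • π (fun k => algebraMap S₀ S ((Pi.single i (1 : S₀) : Fin n → S₀) k)) = _
    rw [one_smul]
    congr 1
    funext k
    by_cases h : k = i <;> simp [Pi.single_apply, h]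
  have hΦsurj : ∀ z, ∃ v, Φ v = z := by
    intro z
    induction z with
    | zero => exact ⟨0, map_zero _⟩
    | tmul s x =>
      obtain ⟨v, rfl⟩ := K₀.mkQ_surjective x
      exact ⟨s • fun i => algebraMap S₀ S (v i), by rw [map_smul, hΦmap, smul_tmul', smul_eq_mul, mul_one]⟩
    | add x y hx hy =>
      obtain ⟨v, rfl⟩ := hx
      obtain ⟨w, rfl⟩ := hy
      exact ⟨v + w, map_add _ _ _⟩
  have hbij : Function.Bijective F := by
    refine ⟨(injective_iff_map_eq_zero F).mpr fun z hz => ?_, fun m => ?_⟩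
    · obtain ⟨v, rfl⟩ := hΦsurj z
      rw [hFΦ] at hz
      refine hΦK v ?_
      rw [← Submodule.Quotient.mk_eq_zero]
      exact e.symm.map_eq_zero_iff.mp hz
    · obtain ⟨v, hv⟩ := (e.symm.surjective.comp K.mkQ_surjective) m
      exact ⟨Φ v, (hFΦ v).trans hv⟩
  refine IsBaseChange.of_equiv (LinearEquiv.ofBijective F hbij) fun x => ?_
  simp [F]

/-- The model of a presentation is a pushout. -/
theorem isPushout_modelOfHasCoeffs {R S : Type u} [CommRing R] [CommRing S] [Algebra R S] {ι σ : Type*}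
    (P : Algebra.Presentation R S ι σ) {R₀ : Type u} [CommRing R₀] [Algebra R₀ R] [Algebra R₀ S]
    [IsScalarTower R₀ R S] [P.HasCoeffs R₀] [Algebra (P.ModelOfHasCoeffs R₀) S]
    [IsScalarTower R₀ (P.ModelOfHasCoeffs R₀) S]
    (h : ∀ x, algebraMap (P.ModelOfHasCoeffs R₀) S x = P.tensorModelOfHasCoeffsEquiv R₀ (1 ⊗ₜ x)) :
    Algebra.IsPushout R₀ R (P.ModelOfHasCoeffs R₀) S :=
  Algebra.IsPushout.of_equiv (S' := R ⊗[R₀] P.ModelOfHasCoeffs R₀) (P.tensorModelOfHasCoeffsEquiv R₀)
    (RingHom.ext fun x => (h x).symm)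

set_option synthInstance.maxHeartbeats 200000 in
/-- A finitely presented algebra and module descend to a finite type `ℤ`-subalgebra, which can be
chosen to contain any given finite set. -/
theorem exists_models (R : Type u) [CommRing R] (S : Type u) [CommRing S] [Algebra R S]
    [Algebra.FinitePresentation R S] (M : Type u) [AddCommGroup M] [Module S M]
    [Module.FinitePresentation S M] :
    ∃ (R₀ : Subalgebra ℤ R), Algebra.FiniteType ℤ R₀ ∧
      ∃ (S₀ : Type u) (_ : CommRing S₀) (_ : Algebra R₀ S₀) (_ : Algebra S₀ S)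
        (_ : IsScalarTower R₀ S₀ S), Algebra.FinitePresentation R₀ S₀ ∧ Algebra.IsPushout R₀ R S₀ S ∧
        ∃ (M₀ : Type u) (_ : AddCommGroup M₀) (_ : Module S₀ M₀) (_ : Module R₀ M₀)
          (_ : IsScalarTower R₀ S₀ M₀) (_ : Module S₀ M) (_ : IsScalarTower S₀ S M) (f : M₀ →ₗ[S₀] M),
          Module.FinitePresentation S₀ M₀ ∧ IsBaseChange S f := by
  classical
  let P := Algebra.Presentation.ofFinitePresentation R S
  obtain ⟨n, K, e, hK⟩ := Module.FinitePresentation.exists_fin (R := S) (M := M)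
  obtain ⟨t, ht⟩ := hK
  choose lift hlift using fun x : S => P.algebraMap_surjective x
  let coe : Set R := P.coeffs ∪ ⋃ (v ∈ (t : Set (Fin n → S))) (i : Fin n), ((lift (v i)).coeffs : Set R)
  have hfin : coe.Finite := P.finite_coeffs.union
    (t.finite_toSet.biUnion fun v _ => Set.finite_iUnion fun i => Finset.finite_toSet _)
  let R₀ : Subalgebra ℤ R := Algebra.adjoin ℤ coe
  have hR₀ : Algebra.FiniteType ℤ R₀ := .adjoin_of_finite hfin
  have hP : P.HasCoeffs R₀ := ⟨fun x hx => ⟨⟨x, Algebra.subset_adjoin (Or.inl hx)⟩, rfl⟩⟩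
  let S₀ := P.ModelOfHasCoeffs R₀
  let j : S₀ →ₐ[R₀] S := (((P.tensorModelOfHasCoeffsEquiv R₀).toAlgHom).restrictScalars R₀).comp
    (Algebra.TensorProduct.includeRight : S₀ →ₐ[R₀] R ⊗[R₀] S₀)
  letI : Algebra S₀ S := j.toRingHom.toAlgebra
  have htower : IsScalarTower R₀ S₀ S := IsScalarTower.of_algebraMap_eq fun r => (j.commutes r).symm
  have hpush : Algebra.IsPushout R₀ R S₀ S := isPushout_modelOfHasCoeffs P fun _ => rfl
  letI : Module S₀ M := Module.compHom M (algebraMap S₀ S)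
  have : IsScalarTower S₀ S M := IsScalarTower.of_algebraMap_smul fun _ _ => rfl
  have hrange : ∀ v ∈ t, ∀ i, ∃ s₀ : S₀, algebraMap S₀ S s₀ = v i := by
    intro v hv i
    obtain ⟨p₀, hp₀⟩ : lift (v i) ∈ Set.range (MvPolynomial.map (algebraMap R₀ R)) := by
      rw [MvPolynomial.mem_range_map_iff_coeffs_subset]
      intro x hx
      exact ⟨⟨x, Algebra.subset_adjoin (Or.inr (Set.mem_biUnion hv (Set.mem_iUnion.mpr ⟨i, hx⟩)))⟩, rfl⟩
    refine ⟨Ideal.Quotient.mk _ p₀, ?_⟩
    show P.tensorModelOfHasCoeffsEquiv R₀ (1 ⊗ₜ Ideal.Quotient.mk _ p₀) = v i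
    rw [Algebra.Presentation.tensorModelOfHasCoeffsEquiv_tmul, map_one, one_mul,
      ← MvPolynomial.aeval_map_algebraMap R, hp₀, ← Algebra.Generators.algebraMap_apply, hlift]
  choose! v₀ hv₀ using hrange
  let k₀ : t → Fin n → S₀ := fun v i => v₀ v.1 i
  have hK' : K = Submodule.span S (Set.range fun j => fun i => algebraMap S₀ S (k₀ j i)) := by
    rw [← ht]
    refine congrArg (Submodule.span S) ?_
    ext v
    exact ⟨fun hv => ⟨⟨v, hv⟩, funext fun i => hv₀ v hv i⟩, by
      rintro ⟨⟨w, hw⟩, rfl⟩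
      have : (fun i => algebraMap S₀ S (k₀ ⟨w, hw⟩ i)) = w := funext fun i => hv₀ w hw i
      simp only [this]
      exact Finset.mem_coe.mpr hw⟩
  obtain ⟨f, hf⟩ := isBaseChange_quotient_span k₀ K e hK'
  refine ⟨R₀, hR₀, S₀, inferInstance, inferInstance, inferInstance, htower, inferInstance, hpush,
    (Fin n → S₀) ⧸ Submodule.span S₀ (Set.range k₀), inferInstance, inferInstance, inferInstance,
    inferInstance, inferInstance, inferInstance, f, ?_, hf⟩
  exact Module.finitePresentation_of_surjective (Submodule.mkQ _) (Submodule.mkQ_surjective _)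
    (by rw [Submodule.ker_mkQ]; exact Submodule.fg_span (Set.finite_range k₀))

end Groth.FlatMorOne
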