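import Groth.Agent.FlatMorOne.FlatLocusBaseChange
import Groth.Agent.FlatMorOne.FlatLocusModels

/-! Openness of the flat locus for finitely presented modules, and flat models. -/

universe u

open TensorProduct

namespace Groth.FlatMorOne

attribute [local instance] Algebra.TensorProduct.rightAlgebra

/-- Transport along an equality of primes. -/
theorem flat_localized_of_eq {R S M : Type u} [CommRing R] [CommRing S] [Algebra R S] [AddCommGroup M]
    [Module R M] [Module S M] [IsScalarTower R S M] {q q' : Ideal S} [q.IsPrime] [q'.IsPrime] (h : q = q')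
    [hq : Module.Flat R (LocalizedModule q.primeCompl M)] :
    Module.Flat R (LocalizedModule q'.primeCompl M) := by
  subst h
  exact hq

section Model

variable {R₀ R S₀ S M₀ M : Type u} [CommRing R₀] [CommRing R] [Algebra R₀ R] [CommRing S₀]
  [Algebra R₀ S₀] [CommRing S] [Algebra R S] [Algebra S₀ S] [Algebra R₀ S] [IsScalarTower R₀ R S]
  [IsScalarTower R₀ S₀ S] [hpush : Algebra.IsPushout R₀ R S₀ S]
  [AddCommGroup M₀] [Module R₀ M₀] [Module S₀ M₀] [IsScalarTower R₀ S₀ M₀]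
  [AddCommGroup M] [Module S M] [Module R M] [IsScalarTower R S M] [Module S₀ M] [IsScalarTower S₀ S M]
  {f₀ : M₀ →ₗ[S₀] M} (hf₀ : IsBaseChange S f₀)

variable (R₀ R S₀ S) in
/-- The pushout as an algebra over the model. -/
noncomputable def pushoutAlgEquiv : SOf R₀ S₀ R ≃ₐ[S₀] S :=
  AlgEquiv.ofRingEquiv (f := (Algebra.IsPushout.equiv R₀ R S₀ S).toRingEquiv) fun s => by
    show Algebra.IsPushout.equiv R₀ R S₀ S ((1 : R) ⊗ₜ s) = _
    rw [Algebra.IsPushout.equiv_tmul, map_one, one_mul]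

theorem pushoutAlgEquiv_tmul (r : R) (s : S₀) :
    pushoutAlgEquiv R₀ R S₀ S (r ⊗ₜ s) = algebraMap R S r * algebraMap S₀ S s := by
  show Algebra.IsPushout.equiv R₀ R S₀ S (r ⊗ₜ s) = _
  rw [Algebra.IsPushout.equiv_tmul]

/-- The base changed module is the base change to the pushout. -/
noncomputable def pushoutModuleEquiv : MOf R₀ S₀ M₀ R ≃ₗ[S₀] M :=
  ((pushoutAlgEquiv R₀ R S₀ S).toLinearEquiv.rTensor M₀).trans (hf₀.equiv.restrictScalars S₀)

theorem pushoutModuleEquiv_tmul (x : SOf R₀ S₀ R) (m : M₀) :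
    pushoutModuleEquiv hf₀ (x ⊗ₜ[S₀] m) = pushoutAlgEquiv R₀ R S₀ S x • f₀ m := by
  simp [pushoutModuleEquiv, IsBaseChange.equiv_tmul]

theorem pushoutModuleEquiv_smul (x : SOf R₀ S₀ R) (m : MOf R₀ S₀ M₀ R) :
    pushoutModuleEquiv hf₀ (x • m) = pushoutAlgEquiv R₀ R S₀ S x • pushoutModuleEquiv hf₀ m := by
  induction m using TensorProduct.induction_on with
  | zero => simp
  | tmul t m => rw [smul_tmul', smul_eq_mul, pushoutModuleEquiv_tmul, pushoutModuleEquiv_tmul, map_mul, mul_smul]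
  | add a b ha hb => simp only [smul_add, map_add, ha, hb]

theorem pushoutAlgEquiv_algebraMap (r : R) :
    pushoutAlgEquiv R₀ R S₀ S (algebraMap R (SOf R₀ S₀ R) r) = algebraMap R S r := by
  rw [Algebra.TensorProduct.algebraMap_apply, Algebra.algebraMap_self, RingHom.id_apply,
    pushoutAlgEquiv_tmul, map_one, mul_one]

/-- The base changed module as a module over the base. -/
noncomputable def pushoutModuleEquiv' : MOf R₀ S₀ M₀ R ≃ₗ[R] M :=
  { pushoutModuleEquiv hf₀ with
    map_smul' := fun r m => by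
      show pushoutModuleEquiv hf₀ (r • m) = r • pushoutModuleEquiv hf₀ m
      rw [← algebraMap_smul (SOf R₀ S₀ R) r m, pushoutModuleEquiv_smul, pushoutAlgEquiv_algebraMap,
        algebraMap_smul] }

section

variable (B : Type u) [CommRing B] [Algebra R₀ B] [Algebra B R] [IsScalarTower R₀ B R]

variable (R₀ R S₀ S) in
/-- The map of a stage to the algebra. -/
noncomputable def stageAlgHom : SOf R₀ S₀ B →ₐ[S₀] S :=
  (pushoutAlgEquiv R₀ R S₀ S).toAlgHom.comp (sMap R₀ S₀ (IsScalarTower.toAlgHom R₀ B R))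

/-- The map of a stage to the top stage. -/
noncomputable def stageToTop : MOf R₀ S₀ M₀ B →ₗ[B] MOf R₀ S₀ M₀ R where
  toFun := mMap R₀ S₀ M₀ (IsScalarTower.toAlgHom R₀ B R)
  map_add' := map_add _
  map_smul' b x := by
    rw [mMap_smul_base]
    exact algebraMap_smul R b _

variable [Module B M] [IsScalarTower B R M]

/-- The map of a stage to the module. -/
noncomputable def stageLinearMap : MOf R₀ S₀ M₀ B →ₗ[B] M :=
  (pushoutModuleEquiv' hf₀).toLinearMap.restrictScalars B ∘ₗ stageToTop (R₀ := R₀) (R := R) B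

theorem stageLinearMap_smul (s : SOf R₀ S₀ B) (x : MOf R₀ S₀ M₀ B) :
    stageLinearMap (R₀ := R₀) (R := R) hf₀ B (s • x) =
      stageAlgHom R₀ R S₀ S B s • stageLinearMap (R₀ := R₀) (R := R) hf₀ B x :=
  (congrArg (pushoutModuleEquiv' hf₀) (mMap_smul R₀ S₀ M₀ (IsScalarTower.toAlgHom R₀ B R) s x)).trans
    (pushoutModuleEquiv_smul hf₀ _ _)

theorem isBaseChange_stageToTop : IsBaseChange R (stageToTop (R₀ := R₀) (R := R) (S₀ := S₀) (M₀ := M₀) B) := by
  refine IsBaseChange.of_comp (isBaseChange_betaOf R₀ S₀ M₀ B) ?_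
  have : (stageToTop (R₀ := R₀) (R := R) (S₀ := S₀) (M₀ := M₀) B).restrictScalars R₀ ∘ₗ
      betaOf R₀ S₀ M₀ B = betaOf R₀ S₀ M₀ R :=
    LinearMap.ext fun m => mMap_betaOf R₀ S₀ M₀ (IsScalarTower.toAlgHom R₀ B R) m
  rw [this]
  exact isBaseChange_betaOf R₀ S₀ M₀ R

theorem isBaseChange_stageLinearMap :
    IsBaseChange R (stageLinearMap (R₀ := R₀) (R := R) hf₀ B) :=
  (isBaseChange_stageToTop (R₀ := R₀) (R := R) (S₀ := S₀) (M₀ := M₀) B).comp
    (IsBaseChange.ofEquiv (pushoutModuleEquiv' hf₀))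

end

include hpush hf₀ in
theorem flat_localized_SOf (q : Ideal S) [q.IsPrime]
    [Module.Flat R (LocalizedModule q.primeCompl M)] :
    Module.Flat R (LocalizedModule (q.comap (pushoutAlgEquiv R₀ R S₀ S)).primeCompl (MOf R₀ S₀ M₀ R)) := by
  let σ : S →+* SOf R₀ S₀ R := (pushoutAlgEquiv R₀ R S₀ S).symm.toAlgHom.toRingHom
  have hq : (q.comap (pushoutAlgEquiv R₀ R S₀ S)).comap σ = q := by
    ext x
    simp [σ]
  have : Module.Flat R (LocalizedModule ((q.comap (pushoutAlgEquiv R₀ R S₀ S)).comap σ).primeCompl M) :=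
    flat_localized_of_eq hq.symm
  refine flat_localized_baseChange (B := R) σ (IsBaseChange.ofEquiv (pushoutModuleEquiv' hf₀).symm)
    (fun s m => ?_) _
  apply (pushoutModuleEquiv' hf₀).injective
  show pushoutModuleEquiv' hf₀ ((pushoutModuleEquiv' hf₀).symm (s • m)) =
    pushoutModuleEquiv hf₀ (σ s • (pushoutModuleEquiv' hf₀).symm m)
  refine ((pushoutModuleEquiv' hf₀).apply_symm_apply (s • m)).trans
    (Eq.trans ?_ (pushoutModuleEquiv_smul hf₀ (σ s) _).symm)
  exact (congrArg₂ (· • ·) ((pushoutAlgEquiv R₀ R S₀ S).apply_symm_apply s)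
    ((pushoutModuleEquiv' hf₀).apply_symm_apply m)).symm

variable [IsNoetherianRing R₀] [Algebra.FiniteType R₀ S₀] [Module.Finite S₀ M₀]

include hpush hf₀ in
set_option synthInstance.maxHeartbeats 200000 in
/-- At every prime where the module is flat there is a stage which is flat at the prime below; this
persists to larger stages. -/
theorem exists_stage_flat_at (q : PrimeSpectrum S)
    (hq : Module.Flat R (LocalizedModule q.asIdeal.primeCompl M)) :
    ∃ A : Subalgebra R₀ R, A.FG ∧ ∀ B : Subalgebra R₀ R, B.FG → A ≤ B →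
      Module.Flat B (LocalizedModule (q.asIdeal.comap (stageAlgHom R₀ R S₀ S B)).primeCompl (MOf R₀ S₀ M₀ B)) := by
  have := flat_localized_SOf (R₀ := R₀) (R := R) hf₀ q.asIdeal
  obtain ⟨A, hA, h⟩ := exists_stage_flat R₀ S₀ M₀ (q.asIdeal.comap (pushoutAlgEquiv R₀ R S₀ S))
  refine ⟨A, hA, fun B hB hAB => ?_⟩
  have := h B hB hAB
  exact flat_localized_of_eq (hq := this) (Ideal.comap_comap _ _)

set_option synthInstance.maxHeartbeats 200000 in
include hpush hf₀ in
theorem isOpen_flatLocus_of_model :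
    IsOpen {q : PrimeSpectrum S | Module.Flat R (LocalizedModule q.asIdeal.primeCompl M)} := by
  rw [isOpen_iff_forall_mem_open]
  intro q hq
  obtain ⟨A, hA, h⟩ := exists_stage_flat_at (R₀ := R₀) (R := R) hf₀ q hq
  have : IsNoetherianRing A := isNoetherianRing_of_fg hA
  let U := {b : PrimeSpectrum (SOf R₀ S₀ A) |
    Module.Flat A (LocalizedModule b.asIdeal.primeCompl (MOf R₀ S₀ M₀ A))}
  refine ⟨PrimeSpectrum.comap (stageAlgHom R₀ R S₀ S A).toRingHom ⁻¹' U, fun b hb => ?_,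
    isOpen_flatLocus_of_isNoetherianRing.preimage (PrimeSpectrum.continuous_comap _), h A hA le_rfl⟩
  have : Module.Flat A (LocalizedModule (b.asIdeal.comap (stageAlgHom R₀ R S₀ S A).toRingHom).primeCompl
      (MOf R₀ S₀ M₀ A)) := hb
  exact flat_localized_baseChange (stageAlgHom R₀ R S₀ S A).toRingHom (isBaseChange_stageLinearMap hf₀ A)
    (stageLinearMap_smul hf₀ A) b.asIdeal

end Model

section Stages

variable {R₀ S₀ M₀ : Type u} [CommRing R₀] [CommRing S₀] [Algebra R₀ S₀]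
  [AddCommGroup M₀] [Module R₀ M₀] [Module S₀ M₀] [IsScalarTower R₀ S₀ M₀]

/-- Flatness at a prime persists to larger stages. -/
theorem flat_localized_stage {A B : Type u} [CommRing A] [Algebra R₀ A] [CommRing B] [Algebra R₀ B]
    [Algebra A B] [IsScalarTower R₀ A B] (q : Ideal (SOf R₀ S₀ B)) [q.IsPrime]
    [Module.Flat A (LocalizedModule (q.comap (sMap R₀ S₀ (IsScalarTower.toAlgHom R₀ A B)).toRingHom).primeCompl
      (MOf R₀ S₀ M₀ A))] :
    Module.Flat B (LocalizedModule q.primeCompl (MOf R₀ S₀ M₀ B)) :=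
  flat_localized_baseChange (sMap R₀ S₀ (IsScalarTower.toAlgHom R₀ A B)).toRingHom
    (isBaseChange_stageToTop (R₀ := R₀) (R := B) (S₀ := S₀) (M₀ := M₀) A)
    (fun s m => mMap_smul R₀ S₀ M₀ (IsScalarTower.toAlgHom R₀ A B) s m) q

theorem exists_sMap_eq_zero {R : Type u} [CommRing R] [Algebra R₀ R] {A : Subalgebra R₀ R} (hA : A.FG)
    {x : SOf R₀ S₀ A} (hx : sMap R₀ S₀ A.val x = 0) :
    ∃ (B : Subalgebra R₀ R) (hAB : A ≤ B), B.FG ∧ sMap R₀ S₀ (Subalgebra.inclusion hAB) x = 0 := by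
  have hval : ∀ {P Q : Type u} [CommRing P] [Algebra R₀ P] [CommRing Q] [Algebra R₀ Q] (φ : P →ₐ[R₀] Q)
      (y : SOf R₀ S₀ P), sMap R₀ S₀ φ y = φ.toLinearMap.rTensor S₀ y := by
    intro P Q _ _ _ _ φ y
    induction y using TensorProduct.induction_on with
    | zero => simp
    | tmul a s => simp
    | add a b ha hb => simp only [map_add, ha, hb]
  rw [hval, ← map_zero (A.val.toLinearMap.rTensor S₀)] at hx
  obtain ⟨B, hAB, hB, h'⟩ := TensorProduct.Algebra.eq_of_fg_of_subtype_eq hA hx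
  exact ⟨B, hAB, hB, by rw [hval, h', map_zero]⟩

end Stages

section Global

variable {R₀ R S₀ S M₀ M : Type u} [CommRing R₀] [CommRing R] [Algebra R₀ R] [CommRing S₀]
  [Algebra R₀ S₀] [CommRing S] [Algebra R S] [Algebra S₀ S] [Algebra R₀ S] [IsScalarTower R₀ R S]
  [IsScalarTower R₀ S₀ S] [hpush : Algebra.IsPushout R₀ R S₀ S]
  [AddCommGroup M₀] [Module R₀ M₀] [Module S₀ M₀] [IsScalarTower R₀ S₀ M₀]
  [AddCommGroup M] [Module S M] [Module R M] [IsScalarTower R S M] [Module S₀ M] [IsScalarTower S₀ S M]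
  {f₀ : M₀ →ₗ[S₀] M} (hf₀ : IsBaseChange S f₀)
  [IsNoetherianRing R₀] [Algebra.FiniteType R₀ S₀] [Module.Finite S₀ M₀]

set_option synthInstance.maxHeartbeats 200000 in
set_option maxHeartbeats 2000000 in
include hpush hf₀ in
/-- A flat finitely presented module is flat at some finitely generated stage and at all larger ones. -/
theorem exists_stage_flat_global [Module.Flat R M] :
    ∃ A : Subalgebra R₀ R, A.FG ∧ ∀ B : Subalgebra R₀ R, B.FG → A ≤ B →
      Module.Flat B (MOf R₀ S₀ M₀ B) := by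
  classical
  choose A hA hflat using fun q : PrimeSpectrum S =>
    exists_stage_flat_at (R₀ := R₀) (R := R) hf₀ q (flat_localized_of_flat _)
  have hN : ∀ q, IsNoetherianRing (A q) := fun q => isNoetherianRing_of_fg (hA q)
  let U : ∀ q, Set (PrimeSpectrum (SOf R₀ S₀ (A q))) := fun q =>
    {b | Module.Flat (A q) (LocalizedModule b.asIdeal.primeCompl (MOf R₀ S₀ M₀ (A q)))}
  let V : PrimeSpectrum S → Set (PrimeSpectrum S) := fun q =>
    PrimeSpectrum.comap (stageAlgHom R₀ R S₀ S (A q)).toRingHom ⁻¹' U q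
  obtain ⟨t, ht⟩ := isCompact_univ.elim_finite_subcover V (fun q => by
      have := hN q
      exact isOpen_flatLocus_of_isNoetherianRing.preimage (PrimeSpectrum.continuous_comap _))
    (fun q _ => Set.mem_iUnion.mpr ⟨q, hflat q (A q) (hA q) le_rfl⟩)
  let A₁ := t.sup A
  have hA₁ : A₁.FG := Finset.sup_induction Subalgebra.fg_bot (fun A hA B hB => hA.sup hB) fun q _ => hA q
  have : IsNoetherianRing A₁ := isNoetherianRing_of_fg hA₁
  let U₁ := {b : PrimeSpectrum (SOf R₀ S₀ A₁) |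
    Module.Flat A₁ (LocalizedModule b.asIdeal.primeCompl (MOf R₀ S₀ M₀ A₁))}
  have hU₁ : ∀ q : PrimeSpectrum S, PrimeSpectrum.comap (stageAlgHom R₀ R S₀ S A₁).toRingHom q ∈ U₁ := by
    intro q
    obtain ⟨i, hi, hqi⟩ := Set.mem_iUnion₂.mp (ht (Set.mem_univ q))
    let : Algebra (A i) A₁ := (Subalgebra.inclusion (Finset.le_sup hi : A i ≤ A₁)).toRingHom.toAlgebra
    have : IsScalarTower R₀ (A i) A₁ := IsScalarTower.of_algebraMap_eq fun r => rfl
    have hcomp : (stageAlgHom R₀ R S₀ S A₁).toRingHom.comp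
        (sMap R₀ S₀ (IsScalarTower.toAlgHom R₀ (A i) A₁)).toRingHom =
          (stageAlgHom R₀ R S₀ S (A i)).toRingHom := by
      refine RingHom.ext fun x => ?_
      show pushoutAlgEquiv R₀ R S₀ S (sMap R₀ S₀ _ (sMap R₀ S₀ _ x)) = pushoutAlgEquiv R₀ R S₀ S (sMap R₀ S₀ _ x)
      rw [sMap_sMap]
      rfl
    have : Module.Flat (A i) (LocalizedModule ((q.asIdeal.comap (stageAlgHom R₀ R S₀ S A₁).toRingHom).comap
        (sMap R₀ S₀ (IsScalarTower.toAlgHom R₀ (A i) A₁)).toRingHom).primeCompl (MOf R₀ S₀ M₀ (A i))) :=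
      flat_localized_of_eq (hq := hqi) (by rw [Ideal.comap_comap, hcomp]; rfl)
    show Module.Flat A₁ (LocalizedModule (q.asIdeal.comap (stageAlgHom R₀ R S₀ S A₁).toRingHom).primeCompl _)
    exact flat_localized_stage (A := A i) _
  obtain ⟨J, hJ⟩ := (PrimeSpectrum.isClosed_iff_zeroLocus_ideal _).mp
    (isOpen_flatLocus_of_isNoetherianRing (R := A₁) (S := SOf R₀ S₀ A₁) (M := MOf R₀ S₀ M₀ A₁)).isClosed_compl
  have hJtop : J.map (sMap R₀ S₀ A₁.val).toRingHom = ⊤ := by
    by_contra hne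
    obtain ⟨m, hm, hle⟩ := Ideal.exists_le_maximal _ hne
    let q : PrimeSpectrum S := ⟨m.comap (pushoutAlgEquiv R₀ R S₀ S).symm.toAlgHom.toRingHom, inferInstance⟩
    have h1 : PrimeSpectrum.comap (stageAlgHom R₀ R S₀ S A₁).toRingHom q ∈ PrimeSpectrum.zeroLocus (J : Set _) := by
      intro x hx
      show (pushoutAlgEquiv R₀ R S₀ S).symm (pushoutAlgEquiv R₀ R S₀ S (sMap R₀ S₀ A₁.val x)) ∈ m
      rw [AlgEquiv.symm_apply_apply]
      exact hle (Ideal.mem_map_of_mem _ hx)
    rw [← hJ] at h1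
    exact h1 (hU₁ q)
  obtain ⟨n, c, y, hy⟩ := (Submodule.mem_span_set').mp
    (show (1 : SOf R₀ S₀ R) ∈ Submodule.span _ ((sMap R₀ S₀ A₁.val) '' (J : Set _)) from
      hJtop ▸ Submodule.mem_top (x := (1 : SOf R₀ S₀ R)))
  choose x hx hxy using fun i => (y i).2
  choose Ac hAc c' hc' using fun i => exists_sMap_eq R₀ S₀ (c i)
  let A₂ := A₁ ⊔ Finset.univ.sup Ac
  have hA₂ : A₂.FG := hA₁.sup (Finset.sup_induction Subalgebra.fg_bot (fun A hA B hB => hA.sup hB) fun i _ => hAc i)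
  have hle : ∀ i, Ac i ≤ A₂ := fun i => le_sup_of_le_right (Finset.le_sup (Finset.mem_univ i))
  let d : SOf R₀ S₀ A₂ := ∑ i, sMap R₀ S₀ (Subalgebra.inclusion (hle i)) (c' i) *
    sMap R₀ S₀ (Subalgebra.inclusion (le_sup_left : A₁ ≤ A₂)) (x i) - 1
  have hd : sMap R₀ S₀ A₂.val d = 0 := by
    simp only [d, map_sub, map_sum, map_mul, map_one, sMap_sMap, Subalgebra.val_comp_inclusion, hc', hxy]
    rw [sub_eq_zero]
    simpa only [smul_eq_mul] using hy
  obtain ⟨A₃, h23, hA₃, hd₃⟩ := exists_sMap_eq_zero hA₂ hd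
  refine ⟨A₃, hA₃, fun B hB h3B => ?_⟩
  have h1B : A₁ ≤ B := le_sup_left.trans (h23.trans h3B)
  let : Algebra A₁ B := (Subalgebra.inclusion h1B).toRingHom.toAlgebra
  have : IsScalarTower R₀ A₁ B := IsScalarTower.of_algebraMap_eq fun r => rfl
  refine flat_of_forall_flat_localized (S := SOf R₀ S₀ B) fun b => ?_
  have hbU : PrimeSpectrum.comap (sMap R₀ S₀ (IsScalarTower.toAlgHom R₀ A₁ B)).toRingHom b ∈ U₁ := by
    by_contra hb
    have hb' : PrimeSpectrum.comap (sMap R₀ S₀ (IsScalarTower.toAlgHom R₀ A₁ B)).toRingHom b ∈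
        PrimeSpectrum.zeroLocus (J : Set _) := by
      rw [← hJ]
      exact hb
    have h0 := congrArg (sMap R₀ S₀ (Subalgebra.inclusion h3B)) hd₃
    simp only [d, map_sub, map_sum, map_mul, map_one, map_zero, sMap_sMap, sub_eq_zero] at h0
    apply b.isPrime.ne_top
    rw [Ideal.eq_top_iff_one, ← h0]
    exact Submodule.sum_mem _ fun i _ => Ideal.mul_mem_left _ _ (hb' (hx i))
  have : Module.Flat A₁ (LocalizedModule (b.asIdeal.comap
      (sMap R₀ S₀ (IsScalarTower.toAlgHom R₀ A₁ B)).toRingHom).primeCompl (MOf R₀ S₀ M₀ A₁)) := hbU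
  exact flat_localized_stage (A := A₁) _

end Global

set_option synthInstance.maxHeartbeats 200000 in
/-- The flat locus of a finitely presented module over a finitely presented algebra is open. -/
theorem isOpen_flatLocus (R S M : Type u) [CommRing R] [CommRing S] [Algebra R S]
    [Algebra.FinitePresentation R S] [AddCommGroup M] [Module S M] [Module R M] [IsScalarTower R S M]
    [Module.FinitePresentation S M] :
    IsOpen {q : PrimeSpectrum S | Module.Flat R (LocalizedModule q.asIdeal.primeCompl M)} := by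
  obtain ⟨R₀, hR₀, S₀, _, _, _, _, hS₀, hpush, M₀, _, _, _, _, _, _, f, hM₀, hf⟩ := exists_models R S M
  have : IsNoetherianRing R₀ := Algebra.FiniteType.isNoetherianRing ℤ R₀
  exact isOpen_flatLocus_of_model (R₀ := R₀) hf

end Groth.FlatMorOne
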