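import Groth.Agent.FlatMorOne.FlatLocusScheme
import Groth.Agent.PropsBasic.LociBaseChange.Scheme
import Groth.Agent.QCohMod.PullbackSections

/-! Flatness of quasi-coherent modules is stable under base change. -/

universe u

open CategoryTheory AlgebraicGeometry TensorProduct Groth.QCohMod Groth.Flatmor4

namespace Groth.FlatMorOne

variable {X S X' S' : Scheme.{u}} {f : X ⟶ S} {g : S' ⟶ S} {f' : X' ⟶ S'} {g' : X' ⟶ X}

theorem isFlatOverAt_baseChange (H : IsPullback g' f' f g) (F : X.Modules) [F.IsQuasicoherent] (x' : X')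
    (hF : FlatMod.IsFlatOverAt f F (g' x')) :
    FlatMod.IsFlatOverAt f' ((Scheme.Modules.pullback g').obj F) x' := by
  haveI : ((Scheme.Modules.pullback g').obj F).IsQuasicoherent := inferInstance
  obtain ⟨V, V', U, W, eU, eV, eWU, eWV, hV, hV', hU, hW, hx, hpo⟩ := Groth.PropsBasic.Loci.exists_chart H x'
  let F' := (Scheme.Modules.pullback g').obj F
  letI := (f.appLE V U eU).hom.toAlgebra
  letI := (g.appLE V V' eV).hom.toAlgebra
  letI := sectionsAlg g' eWU
  letI := (f'.appLE V' W eWV).hom.toAlgebra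
  letI : Algebra Γ(S, V) Γ(X', W) := ((g'.appLE U W eWU).hom.comp (f.appLE V U eU).hom).toAlgebra
  haveI : IsScalarTower Γ(S, V) Γ(X, U) Γ(X', W) := .of_algebraMap_eq' rfl
  haveI : IsScalarTower Γ(S, V) Γ(S', V') Γ(X', W) := .of_algebraMap_eq fun a => congr($(hpo.w) a)
  haveI : Algebra.IsPushout Γ(S, V) Γ(X, U) Γ(S', V') Γ(X', W) := CommRingCat.isPushout_iff_isPushout.mp hpo
  haveI : Algebra.IsPushout Γ(S, V) Γ(S', V') Γ(X, U) Γ(X', W) := .symm inferInstance
  letI := sectionModule f F eU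
  haveI : IsScalarTower Γ(S, V) Γ(X, U) Γ(F, U) := .of_algebraMap_smul fun _ _ => rfl
  letI := sectionModule f' F' eWV
  haveI : IsScalarTower Γ(S', V') Γ(X', W) Γ(F', W) := .of_algebraMap_smul fun _ _ => rfl
  letI : Module Γ(S, V) Γ(F', W) := Module.compHom _ (g.appLE V V' eV).hom
  haveI : IsScalarTower Γ(S, V) Γ(S', V') Γ(F', W) := .of_algebraMap_smul fun _ _ => rfl
  have h1 := (isFlatOverAt_iff_localized f F hU hV eU ⟨g' x', eWU hx⟩).mp hF
  refine (isFlatOverAt_iff_localized f' F' hW hV' eWV ⟨x', hx⟩).mpr ?_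
  have hcomap : (hW.primeIdealOf ⟨x', hx⟩).asIdeal.comap (g'.appLE U W eWU).hom =
      (hU.primeIdealOf ⟨g' x', eWU hx⟩).asIdeal :=
    congrArg PrimeSpectrum.asIdeal (IsAffineOpen.comap_primeIdealOf_appLE U hU W hW eWU hx)
  let P := pullSecEquiv g' F eWU hU hW
  haveI : IsScalarTower Γ(S', V') Γ(X', W) (Γ(X', W) ⊗[Γ(X, U)] Γ(F, U)) := inferInstance
  let e : Γ(S', V') ⊗[Γ(S, V)] Γ(F, U) ≃ₗ[Γ(S', V')] Γ(F', W) :=
    (Algebra.IsPushout.cancelBaseChange Γ(S, V) Γ(S', V') Γ(X, U) Γ(X', W) Γ(F, U)).symm ≪≫ₗ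
      P.restrictScalars Γ(S', V')
  let β : Γ(F, U) →ₗ[Γ(S, V)] Γ(F', W) :=
    (e.toLinearMap.restrictScalars Γ(S, V)).comp (TensorProduct.mk Γ(S, V) Γ(S', V') Γ(F, U) 1)
  have hσ : ∀ (s : Γ(X, U)) m, β (s • m) = (g'.appLE U W eWU).hom s • β m := by
    intro s m
    have hβ : ∀ m, β m = P (1 ⊗ₜ m) := fun m => by
      show P ((Algebra.IsPushout.cancelBaseChange Γ(S, V) Γ(S', V') Γ(X, U) Γ(X', W) Γ(F, U)).symm (1 ⊗ₜ m)) = _
      rw [Algebra.IsPushout.cancelBaseChange_symm_tmul, map_one]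
    rw [hβ, hβ, ← map_smul, tmul_smul, ← algebraMap_smul Γ(X', W) s]
    rfl
  haveI : Module.Flat Γ(S, V)
      (LocalizedModule ((hW.primeIdealOf ⟨x', hx⟩).asIdeal.comap (g'.appLE U W eWU).hom).primeCompl Γ(F, U)) :=
    flat_localized_of_eq hcomap.symm (hq := h1)
  exact flat_localized_baseChange (g'.appLE U W eWU).hom (IsBaseChange.of_equiv e fun m => rfl) hσ _

/-- Flatness over the base is stable under base change. -/
theorem isFlatOver_baseChange (H : IsPullback g' f' f g) (F : X.Modules) [F.IsQuasicoherent]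
    (hF : FlatMod.IsFlatOver f F) : FlatMod.IsFlatOver f' ((Scheme.Modules.pullback g').obj F) :=
  fun x' => isFlatOverAt_baseChange H F x' (hF _)

end Groth.FlatMorOne
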