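import Groth.Agent.FlatMorOne.GoodStage
import Groth.Agent.PropsBasic2.Misc

/-! Flatness over the limit descends to a stage. -/

set_option backward.isDefEq.respectTransparency false
set_option backward.defeqAttrib.useBackward true

universe u

open CategoryTheory CategoryTheory.Limits AlgebraicGeometry Groth.QCohMod Groth.Limits

namespace Groth.FlatMorOne

/-- Flatness at a point is stable under base change, with the pullback along the composite. -/
theorem isFlatOverAt_of_square {X₀ : Scheme.{u}} (F : X₀.Modules) [F.IsQuasicoherent] {X Y Xi Yi : Scheme.{u}}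
    {f : X ⟶ Y} {fi : Xi ⟶ Yi} {qX : X ⟶ X₀} {pX : Xi ⟶ X₀} {vX : X ⟶ Xi} {vY : Y ⟶ Yi}
    (H : IsPullback vX f fi vY) (hq : vX ≫ pX = qX) (x : X)
    (h : FlatMod.IsFlatOverAt fi ((Scheme.Modules.pullback pX).obj F) (vX x)) :
    FlatMod.IsFlatOverAt f ((Scheme.Modules.pullback qX).obj F) x := by
  subst hq
  exact (isFlatOverAt_congr f ((Scheme.Modules.pullbackComp vX pX).app F) x).mp
    (isFlatOverAt_baseChange H _ x h)

variable {I : Type u} [SmallCategory I] [IsCofiltered I] {D : I ⥤ Scheme.{u}} {c : Cone D}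
  [∀ (i j : I) (φ : i ⟶ j), IsAffineHom (D.map φ)] {i₀ : I} {X₀ Y₀ : Scheme.{u}}
  (f₀ : X₀ ⟶ Y₀) (g₀ : Y₀ ⟶ D.obj i₀)

/-- The morphism of stages. -/
noncomputable abbrev stageHom {j : I} (φ : j ⟶ i₀) :
    pullback (f₀ ≫ g₀) (D.map φ) ⟶ pullback g₀ (D.map φ) :=
  pullback.lift (pullback.fst _ _ ≫ f₀) (pullback.snd _ _) (by rw [Category.assoc, pullback.condition])

theorem isPullback_stageHom {j : I} (φ : j ⟶ i₀) :
    IsPullback (pullback.fst (f₀ ≫ g₀) (D.map φ)) (stageHom f₀ g₀ φ) f₀ (pullback.fst g₀ (D.map φ)) :=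
  IsPullback.of_bot (by rw [pullback.lift_snd]; exact IsPullback.of_hasPullback _ _)
    (pullback.lift_fst _ _ _).symm (IsPullback.of_hasPullback g₀ (D.map φ))

/-- Flatness over a limit descends to a stage. -/
theorem exists_stage_isFlatOver (hc : IsLimit c) [CompactSpace (D.obj i₀)]
    [LocallyOfFinitePresentation g₀] [LocallyOfFinitePresentation (f₀ ≫ g₀)] [QuasiCompact (f₀ ≫ g₀)]
    (F : X₀.Modules) [F.IsQuasicoherent] (hF : CohB1.IsFP F) {X Y : Scheme.{u}} {f : X ⟶ Y} {g : Y ⟶ c.pt}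
    {qY : Y ⟶ Y₀} {qX : X ⟶ X₀} (hY : IsPullback qY g g₀ (c.π.app i₀)) (hX : IsPullback qX f f₀ qY)
    (h : FlatMod.IsFlatOver f ((Scheme.Modules.pullback qX).obj F)) :
    ∃ (i : I) (φ : i ⟶ i₀), FlatMod.IsFlatOver (stageHom f₀ g₀ φ)
      ((Scheme.Modules.pullback (pullback.fst (f₀ ≫ g₀) (D.map φ))).obj F) := by
  classical
  have : LocallyOfFinitePresentation f₀ := Groth.PropsBasic2.lfp_of_comp f₀ g₀
  have : CompactSpace X₀ := QuasiCompact.compactSpace_of_compactSpace (f₀ ≫ g₀)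
  have (k : Over i₀) : CompactSpace ((stages D (f₀ ≫ g₀)).obj k) := compactSpace_stage D (f₀ ≫ g₀) k.hom
  let C := stagesCone D (f₀ ≫ g₀) (c := c)
  have hC : IsLimit C := isLimitStagesCone D (f₀ ≫ g₀) hc
  have : CompactSpace C.pt := compactSpace_pt (stages D (f₀ ≫ g₀)) C hC (i := Over.mk (𝟙 i₀))
  let U : ∀ k : Over i₀, Set ((stages D (f₀ ≫ g₀)).obj k) := fun k =>
    {z | FlatMod.IsFlatOverAt (stageHom f₀ g₀ k.hom)
      ((Scheme.Modules.pullback (pullback.fst (f₀ ≫ g₀) (D.map k.hom))).obj F) z}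
  have hU : ∀ k, IsOpen (U k) := fun k => by
    have : LocallyOfFinitePresentation (stageHom f₀ g₀ k.hom) :=
      MorphismProperty.of_isPullback (isPullback_stageHom f₀ g₀ k.hom) ‹LocallyOfFinitePresentation f₀›
    exact isOpen_isFlatOverAt _ _ (isFP_pullback _ F hF)
  have hmono : ∀ {k l : Over i₀} (m : l ⟶ k) (z : (stages D (f₀ ≫ g₀)).obj l),
      (stages D (f₀ ≫ g₀)).map m z ∈ U k → z ∈ U l := by
    intro k l m z hz
    let v : pullback g₀ (D.map l.hom) ⟶ pullback g₀ (D.map k.hom) :=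
      pullback.lift (pullback.fst _ _) (pullback.snd _ _ ≫ D.map m.left)
        (by rw [Category.assoc, ← D.map_comp, Over.w m, pullback.condition])
    refine isFlatOverAt_of_square F (vX := (stages D (f₀ ≫ g₀)).map m) (vY := v) ?_ (pullback.lift_fst _ _ _) z hz
    refine IsPullback.of_right ?_ ?_ (isPullback_stageHom f₀ g₀ k.hom)
    · have e1 : (stages D (f₀ ≫ g₀)).map m ≫ pullback.fst (f₀ ≫ g₀) (D.map k.hom) =
          pullback.fst (f₀ ≫ g₀) (D.map l.hom) := pullback.lift_fst _ _ _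
      rw [e1, pullback.lift_fst]
      exact isPullback_stageHom f₀ g₀ l.hom
    · have e1 : (stages D (f₀ ≫ g₀)).map m ≫ pullback.fst (f₀ ≫ g₀) (D.map k.hom) =
          pullback.fst (f₀ ≫ g₀) (D.map l.hom) := pullback.lift_fst _ _ _
      have e2 : (stages D (f₀ ≫ g₀)).map m ≫ pullback.snd (f₀ ≫ g₀) (D.map k.hom) =
          pullback.snd (f₀ ≫ g₀) (D.map l.hom) ≫ D.map m.left := pullback.lift_snd _ _ _
      apply pullback.hom_ext
      · simp only [Category.assoc, pullback.lift_fst, v]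
        rw [reassoc_of% e1]
      · simp only [Category.assoc, pullback.lift_snd, pullback.lift_snd_assoc, v]
        exact e2
  have hcov : ∀ z : C.pt, ∃ k, C.π.app k z ∈ U k := by
    intro z
    let e := (hX.paste_vert hY).isoPullback
    let xX : X := e.inv z
    have hz : e.hom xX = z := by
      rw [← Scheme.Hom.comp_apply, e.inv_hom_id]
      rfl
    have key : ∀ {P T : Scheme.{u}} (p : P ⟶ T) (q : P ⟶ X₀) (w : P),
        GoodAt p ((Scheme.Modules.pullback q).map (kernel.ι (𝟙 F))) w ↔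
          FlatMod.IsFlatOverAt p ((Scheme.Modules.pullback q).obj F) w := fun p q w =>
      goodAt_kernel_id_iff p ((Scheme.Modules.pullback q).map_isZero (isZero_kernel_of_mono _)) _ w
    obtain ⟨i, φ, Xi, Yi, fi, gi, pY, pX, vY, vX, hYi, hXi, hvY, hvYg, hvX, hvXf, hgood⟩ :=
      exists_stage_goodAt hc f₀ g₀ hF (isFP_kernel_id F) (kernel.ι (𝟙 F)) hY hX xX ((key f qX xX).mpr (h xX))
    let eY := hYi.isoPullback
    let eX := (hXi.paste_vert hYi).isoPullback
    have he1 : eX.hom ≫ pullback.fst (f₀ ≫ g₀) (D.map φ) = pX := (hXi.paste_vert hYi).isoPullback_hom_fst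
    have he2 : eX.hom ≫ pullback.snd (f₀ ≫ g₀) (D.map φ) = fi ≫ gi := (hXi.paste_vert hYi).isoPullback_hom_snd
    have hsq : eX.hom ≫ stageHom f₀ g₀ φ = fi ≫ eY.hom := by
      apply pullback.hom_ext
      · simp only [Category.assoc, pullback.lift_fst, eY, IsPullback.isoPullback_hom_fst]
        rw [reassoc_of% he1, hXi.w]
      · simp only [Category.assoc, pullback.lift_snd, eY, IsPullback.isoPullback_hom_snd]
        exact he2
    refine ⟨Over.mk φ, ?_⟩
    have hmor : (e.hom ≫ C.π.app (Over.mk φ) : X ⟶ pullback (f₀ ≫ g₀) (D.map φ)) = vX ≫ eX.hom := by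
      refine pullback.hom_ext (g := D.map φ) ?_ ?_
      · rw [Category.assoc, Category.assoc, he1, hvX]
        exact (congrArg (e.hom ≫ ·) (pullback.lift_fst _ _ _)).trans (hX.paste_vert hY).isoPullback_hom_fst
      · rw [Category.assoc, Category.assoc, he2, reassoc_of% hvXf, hvYg]
        refine (congrArg (e.hom ≫ ·) (pullback.lift_snd _ _ _)).trans ?_
        rw [← Category.assoc, (hX.paste_vert hY).isoPullback_hom_snd, Category.assoc]
        rfl
    have hpt : C.π.app (Over.mk φ) z = eX.hom (vX xX) := by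
      rw [← hz]
      exact congr($hmor xX)
    show FlatMod.IsFlatOverAt (stageHom f₀ g₀ φ) _ (C.π.app (Over.mk φ) z)
    rw [hpt]
    refine isFlatOverAt_of_square F (fi := fi) (pX := pX) (vX := eX.inv) (vY := eY.inv) ?_ ?_ (eX.hom (vX xX)) ?_
    · exact IsPullback.of_horiz_isIso ⟨by rw [Iso.eq_comp_inv, Category.assoc, ← hsq, Iso.inv_hom_id_assoc]⟩
    · exact (Iso.inv_comp_eq _).mpr he1.symm
    · rw [← Scheme.Hom.comp_apply, eX.hom_inv_id]
      exact (key fi pX (vX xX)).mp hgood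
  choose k hk using hcov
  obtain ⟨t, ht⟩ := isCompact_univ.elim_finite_subcover (fun z : C.pt => {w : C.pt | C.π.app (k z) w ∈ U (k z)})
    (fun z => (hU (k z)).preimage (C.π.app (k z)).continuous) (fun z _ => Set.mem_iUnion.mpr ⟨z, hk z⟩)
  obtain ⟨l, hl⟩ := IsCofiltered.inf_objs_exists (t.image k)
  have hempty : ⇑(C.π.app l) ⁻¹' (U l)ᶜ = ∅ := by
    refine Set.eq_empty_of_forall_notMem fun z hz => ?_
    obtain ⟨z', hz', hzz'⟩ := Set.mem_iUnion₂.mp (ht (Set.mem_univ z))
    obtain ⟨m⟩ := hl (Finset.mem_image_of_mem k hz')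
    refine hz (hmono m _ ?_)
    rw [π_map_apply (stages D (f₀ ≫ g₀)) C m z]
    exact hzz'
  obtain ⟨j, m, hj⟩ := exists_preimage_eq_empty (stages D (f₀ ≫ g₀)) C hC
    ((pc_of_isClosed (hU l).isClosed_compl).qcImage) hempty
  refine ⟨j.left, j.hom, fun z => hmono m z ?_⟩
  by_contra hz
  exact (Set.eq_empty_iff_forall_notMem.mp hj z) hz

end Groth.FlatMorOne
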