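import Mathlib.AlgebraicGeometry.IdealSheaf.Functorial
import Mathlib.AlgebraicGeometry.Morphisms.QuasiSeparated
import Mathlib.RingTheory.Localization.Finiteness

/-! Quasi-coherent ideals of finite type with prescribed support on a quasi-compact quasi-separated scheme. -/

universe u

open CategoryTheory Limits AlgebraicGeometry TopologicalSpace

namespace Groth.FlatMorOne

variable {X : Scheme.{u}}

/-- The largest ideal sheaf agreeing with `L` on the open `O`. -/
noncomputable def extendFrom (O : X.Opens) (L : X.IdealSheafData) : X.IdealSheafData :=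
  (L.comap O.ι).map O.ι

theorem le_extendFrom (O : X.Opens) (L : X.IdealSheafData) : L ≤ extendFrom O L :=
  L.le_map_comap O.ι

theorem comap_extendFrom (O : X.Opens) [QuasiCompact O.ι] (L : X.IdealSheafData) :
    (extendFrom O L).comap O.ι = L.comap O.ι := by
  refine le_antisymm (Scheme.IdealSheafData.comap_map_le _ _) ?_
  exact Scheme.IdealSheafData.comap_mono O.ι (le_extendFrom O L)

theorem ideal_eq_of_comap_eq {O : X.Opens} {L L' : X.IdealSheafData}
    (h : L.comap O.ι = L'.comap O.ι) {B : X.affineOpens} (hB : B.1 ≤ O) :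
    L.ideal B = L'.ideal B := by
  have hB' : IsAffineOpen (O.ι ⁻¹ᵁ B.1) := B.2.preimage_of_isOpenImmersion O.ι (by simpa using hB)
  have himg : O.ι ''ᵁ (O.ι ⁻¹ᵁ B.1) = B.1 := by
    rw [Scheme.Hom.image_preimage_eq_opensRange_inf, Scheme.Opens.opensRange_ι]
    exact inf_eq_right.mpr hB
  have h1 := congr($(h).ideal ⟨_, hB'⟩)
  rw [Scheme.IdealSheafData.ideal_comap_of_isOpenImmersion,
    Scheme.IdealSheafData.ideal_comap_of_isOpenImmersion] at h1
  have h2 : L.ideal ⟨_, hB'.image_of_isOpenImmersion O.ι⟩ = L'.ideal ⟨_, hB'.image_of_isOpenImmersion O.ι⟩ :=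
    Ideal.comap_injective_of_surjective _
      (ConcreteCategory.bijective_of_isIso (O.ι.appIso (O.ι ⁻¹ᵁ B.1)).inv).2 h1
  have h3 : (⟨_, hB'.image_of_isOpenImmersion O.ι⟩ : X.affineOpens) = B := Subtype.ext himg
  rwa [h3] at h2

theorem ideal_extendFrom_eq (O : X.Opens) [QuasiCompact O.ι] (L : X.IdealSheafData)
    {B : X.affineOpens} (hB : B.1 ≤ O) : (extendFrom O L).ideal B = L.ideal B :=
  ideal_eq_of_comap_eq (comap_extendFrom O L) hB

/-- Membership in `extendFrom O L` can be checked on the affine opens contained in `O`. -/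
theorem mem_extendFrom_iff (O : X.Opens) [QuasiCompact O.ι] (L : X.IdealSheafData)
    (A : X.affineOpens) (a : Γ(X, A.1)) :
    a ∈ (extendFrom O L).ideal A ↔ ∀ (B : X.affineOpens) (hBA : B.1 ≤ A.1), B.1 ≤ O →
      (X.presheaf.map (homOfLE hBA).op).hom a ∈ L.ideal B := by
  constructor
  · intro ha B hBA hBO
    rw [← ideal_extendFrom_eq O L hBO]
    exact (extendFrom O L).ideal_le_comap_ideal (U := B) (V := A) hBA ha
  · intro h
    let φ := (L.comap O.ι).subschemeι ≫ O.ι
    show a ∈ φ.ker.ideal A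
    rw [Scheme.Hom.ker_apply, RingHom.mem_ker]
    apply TopCat.Sheaf.eq_of_locally_eq' (Scheme.sheaf _)
      (fun B : {B : X.affineOpens // B.1 ≤ A.1 ∧ B.1 ≤ O} => φ ⁻¹ᵁ B.1.1) (φ ⁻¹ᵁ A.1)
      (fun B => homOfLE (φ.preimage_mono B.2.1))
    · intro z hz
      obtain ⟨_, ⟨V, hV, rfl⟩, hzV, hVle⟩ :=
        X.isBasis_affineOpens.exists_subset_of_mem_open
          (show φ z ∈ A.1 ⊓ O from ⟨hz, ((L.comap O.ι).subschemeι z).2⟩) (A.1 ⊓ O).isOpen
      exact Opens.mem_iSup.mpr ⟨⟨⟨V, hV⟩, le_trans hVle inf_le_left, le_trans hVle inf_le_right⟩, hzV⟩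
    · intro B
      refine Eq.trans ?_ (map_zero _).symm
      have hb := h B.1 B.2.1 B.2.2
      rw [← ideal_extendFrom_eq O L B.2.2] at hb
      change _ ∈ φ.ker.ideal B.1 at hb
      rw [Scheme.Hom.ker_apply, RingHom.mem_ker] at hb
      refine Eq.trans ?_ hb
      exact congr($((φ.naturality (homOfLE B.2.1).op).symm) a)

variable [CompactSpace X] [QuasiSeparatedSpace X]

theorem quasiCompact_ι {O : X.Opens} (hO : IsCompact (O : Set X)) : QuasiCompact O.ι := by
  have : CompactSpace O.toScheme := isCompact_iff_compactSpace.mp hO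
  exact quasiCompact_of_compactSpace O.ι

/-- The ideal sheaf on `X`, extended from an affine open `V`, with a prescribed ideal of sections on `V`. -/
theorem exists_idealSheaf_of_ideal (V : X.affineOpens) (q : Ideal Γ(X, V.1)) :
    ∃ L : X.IdealSheafData, L.ideal V = q ∧ extendFrom V.1 L = L := by
  obtain ⟨V, hV⟩ := V
  change IsAffineOpen V at hV
  have := quasiCompact_ι hV.isCompact
  let f₀ : Spec (CommRingCat.of (Γ(X, V) ⧸ q)) ⟶ V.toScheme :=
    Spec.map (CommRingCat.ofHom (Ideal.Quotient.mk q)) ≫ hV.isoSpec.inv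
  let f := f₀ ≫ V.ι
  refine ⟨f.ker, ?_, le_antisymm ?_ (le_extendFrom _ _)⟩
  · have hfac : f = Spec.map (CommRingCat.ofHom (Ideal.Quotient.mk q)) ≫ hV.fromSpec := by
      simp only [f, f₀, Category.assoc]; exact congrArg _ hV.isoSpec_inv_ι
    have htop : (⊤ : (Spec (CommRingCat.of (Γ(X, V) ⧸ q))).Opens) ≤ f ⁻¹ᵁ V := fun z _ => (f₀ z).2
    rw [Scheme.Hom.ker_apply]
    ext a
    have key : (f.appLE V ⊤ htop).hom a =
        (Scheme.ΓSpecIso (CommRingCat.of (Γ(X, V) ⧸ q))).inv (Ideal.Quotient.mk q a) := by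
      have h1 : f.appLE V ⊤ htop =
          CommRingCat.ofHom (Ideal.Quotient.mk q) ≫ (Scheme.ΓSpecIso _).inv := by
        have h2 : hV.fromSpec.appLE V ⊤ hV.fromSpec_preimage_self.ge =
            (Scheme.ΓSpecIso Γ(X, V)).inv := by
          rw [Scheme.Hom.appLE, IsAffineOpen.fromSpec_app_self, Category.assoc, ← Functor.map_comp]
          exact (congrArg (_ ≫ ·) ((congrArg _ (Subsingleton.elim _ (𝟙 _))).trans (CategoryTheory.Functor.map_id _ _))).trans (Category.comp_id _)
        simp only [hfac]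
        rw [← Scheme.Hom.appLE_comp_appLE _ _ V ⊤ ⊤ hV.fromSpec_preimage_self.ge le_top, h2,
          Scheme.ΓSpecIso_inv_naturality]
        simp only [Scheme.Hom.appLE, homOfLE_leOfHom]
        exact congrArg (_ ≫ ·) ((congrArg (_ ≫ ·) ((congrArg _ (Subsingleton.elim _ (𝟙 _))).trans
          (CategoryTheory.Functor.map_id _ _))).trans (Category.comp_id _))
      rw [h1]; rfl
    rw [RingHom.mem_ker, ← Ideal.Quotient.eq_zero_iff_mem,
      ← map_eq_zero_iff _ (ConcreteCategory.bijective_of_isIso (Scheme.ΓSpecIso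
        (CommRingCat.of (Γ(X, V) ⧸ q))).inv).1, ← key, Scheme.Hom.appLE, CommRingCat.hom_comp,
      RingHom.comp_apply]
    have hiso : IsIso ((Spec (CommRingCat.of (Γ(X, V) ⧸ q))).presheaf.map (homOfLE htop).op) := by
      have : homOfLE htop = eqToHom (top_le_iff.mp htop).symm := Subsingleton.elim _ _
      rw [this]; infer_instance
    exact (map_eq_zero_iff _ (ConcreteCategory.bijective_of_isIso _).1).symm
  · rw [← Scheme.IdealSheafData.map_bot, Scheme.IdealSheafData.le_map_iff_comap_le]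
    show (extendFrom V ((⊥ : Scheme.IdealSheafData _).map f)).comap (f₀ ≫ V.ι) ≤ ⊥
    rw [Scheme.IdealSheafData.comap_comp, comap_extendFrom, ← Scheme.IdealSheafData.comap_comp]
    exact Scheme.IdealSheafData.comap_map_le _ _

/-- Membership in an ideal sheaf is local. -/
theorem mem_ideal_of_locally (K : X.IdealSheafData) (A : X.affineOpens) (a : Γ(X, A.1))
    (h : ∀ x ∈ A.1, ∃ (B : X.affineOpens) (hBA : B.1 ≤ A.1), x ∈ B.1 ∧
      (X.presheaf.map (homOfLE hBA).op).hom a ∈ K.ideal B) : a ∈ K.ideal A := by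
  choose B hBA hxB hB using h
  let φ := K.subschemeι
  rw [← K.ker_subschemeι, Scheme.Hom.ker_apply, RingHom.mem_ker]
  apply TopCat.Sheaf.eq_of_locally_eq' (Scheme.sheaf _)
    (fun x : A.1 => φ ⁻¹ᵁ (B x.1 x.2).1) (φ ⁻¹ᵁ A.1)
    (fun x => homOfLE (φ.preimage_mono (hBA x.1 x.2)))
  · intro z hz
    exact Opens.mem_iSup.mpr ⟨⟨φ z, hz⟩, hxB _ hz⟩
  · intro x
    refine Eq.trans ?_ (map_zero _).symm
    have hb := hB x.1 x.2
    rw [← K.ker_subschemeι, Scheme.Hom.ker_apply, RingHom.mem_ker] at hb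
    refine Eq.trans ?_ hb
    exact congr($((φ.naturality (homOfLE (hBA x.1 x.2)).op).symm) a)

theorem support_inter_eq {K I : X.IdealSheafData} {B : X.affineOpens}
    (h : K.ideal B = I.ideal B) : (K.support : Set X) ∩ B.1 = (I.support : Set X) ∩ B.1 := by
  rw [Scheme.IdealSheafData.coe_support_inter, Scheme.IdealSheafData.coe_support_inter, h]

/-- If the support of `K` is contained in that of `I` over `B` then `I` is in the radical of `K` over `B`. -/
theorem ideal_le_radical {K I : X.IdealSheafData} {B : X.affineOpens}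
    (h : (K.support : Set X) ∩ B.1 ⊆ (I.support : Set X)) : I.ideal B ≤ (K.ideal B).radical := by
  rw [Ideal.radical_eq_sInf, le_sInf_iff]
  rintro P ⟨hKP, hP⟩ a ha
  have hmem : B.2.fromSpec ⟨P, hP⟩ ∈ B.1 := by
    rw [← SetLike.mem_coe, ← B.2.range_fromSpec]
    exact ⟨_, rfl⟩
  have h1 : B.2.fromSpec ⟨P, hP⟩ ∈ (K.support : Set X) := by
    rw [SetLike.mem_coe, Scheme.IdealSheafData.mem_support_iff_of_mem hmem]
    exact (Set.ext_iff.mp (B.2.fromSpec_preimage_zeroLocus (K.ideal B)) ⟨P, hP⟩).mpr hKP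
  have h2 := h ⟨h1, hmem⟩
  rw [SetLike.mem_coe, Scheme.IdealSheafData.mem_support_iff_of_mem hmem] at h2
  exact (Set.ext_iff.mp (B.2.fromSpec_preimage_zeroLocus (I.ideal B)) ⟨P, hP⟩).mp h2 ha

theorem fg_of_cover (K : X.IdealSheafData) (s : Finset X.affineOpens)
    (hs : ∀ x : X, ∃ V ∈ s, x ∈ V.1) (hfg : ∀ V ∈ s, (K.ideal V).FG) (A : X.affineOpens) :
    (K.ideal A).FG := by
  have h : ∀ x : A.1, ∃ (g : Γ(X, A.1)), x.1 ∈ X.basicOpen g ∧
      (K.ideal (X.affineBasicOpen g)).FG := by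
    intro x
    obtain ⟨V, hV, hxV⟩ := hs x.1
    obtain ⟨g, g', hgg', hxg⟩ := exists_basicOpen_le_affine_inter A.2 V.2 x.1 ⟨x.2, hxV⟩
    refine ⟨g, hxg, ?_⟩
    have : X.affineBasicOpen g = X.affineBasicOpen g' := Subtype.ext hgg'
    rw [this, ← K.map_ideal_basicOpen V g']
    exact (hfg V hV).map _
  choose g hg hgf using h
  refine Ideal.fg_of_localizationSpan (Set.range g) ?_ ?_
  · rw [← A.2.self_le_iSup_basicOpen_iff]
    exact fun x hx => Opens.mem_iSup.mpr ⟨⟨_, ⟨x, hx⟩, rfl⟩, hg ⟨x, hx⟩⟩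
  · rintro ⟨_, x, rfl⟩
    have := A.2.isLocalization_basicOpen (g x)
    let e : Γ(X, X.basicOpen (g x)) ≃ₐ[Γ(X, A.1)] Localization.Away (g x) :=
      IsLocalization.algEquiv (Submonoid.powers (g x)) _ _
    have h2 := (hgf x).map (e : Γ(X, X.basicOpen (g x)) →+* Localization.Away (g x))
    rw [← K.map_ideal_basicOpen A (g x)] at h2
    refine (congrArg Submodule.FG ?_).mp h2
    refine (Ideal.map_map _ _).trans (congrArg (Ideal.map · (K.ideal A)) ?_)
    exact e.toAlgHom.comp_algebraMap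

/-- On a quasi-compact quasi-separated scheme an ideal sheaf whose support has quasi-compact complement
contains an ideal sheaf of finite type with the same support. -/
theorem exists_ftIdeal_le (I : X.IdealSheafData) (hI : IsCompact ((I.support : Set X))ᶜ) :
    ∃ K : X.IdealSheafData, K ≤ I ∧ (∀ U : X.affineOpens, (K.ideal U).FG) ∧ K.support = I.support := by
  classical
  obtain ⟨s, hs⟩ : ∃ s : Finset X.affineOpens, ∀ x : X, ∃ V ∈ s, x ∈ V.1 := by
    obtain ⟨s, hs⟩ := isCompact_univ.elim_finite_subcover (fun V : X.affineOpens => (V.1 : Set X))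
      (fun V => V.1.isOpen) (fun x _ => by
        obtain ⟨U, hU, hxU, -⟩ := exists_isAffineOpen_mem_and_subset (x := x) (U := ⊤) trivial
        exact Set.mem_iUnion.mpr ⟨⟨U, hU⟩, hxU⟩)
    exact ⟨s, fun x => by simpa using hs (Set.mem_univ x)⟩
  suffices h : ∀ t : Finset X.affineOpens, ∃ K : X.IdealSheafData, K ≤ I ∧
      ∀ V ∈ t, (K.ideal V).FG ∧ (K.support : Set X) ∩ V.1 = (I.support : Set X) ∩ V.1 by
    obtain ⟨K, hKI, hK⟩ := h s
    refine ⟨K, hKI, fg_of_cover K s hs fun V hV => (hK V hV).1, SetLike.coe_injective ?_⟩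
    ext x
    obtain ⟨V, hV, hxV⟩ := hs x
    have := Set.ext_iff.mp (hK V hV).2 x
    simp only [Set.mem_inter_iff, SetLike.mem_coe, hxV, and_true] at this
    exact this
  intro t
  induction t using Finset.induction with
  | empty => exact ⟨I, le_rfl, fun V hV => absurd hV (Finset.notMem_empty V)⟩
  | insert V t _ ih =>
    obtain ⟨K, hKI, hK⟩ := ih
    let W : X.Opens := t.sup fun B : X.affineOpens => B.1
    have hWc : IsCompact (W : Set X) := by
      simp only [W, Opens.coe_finset_sup]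
      rw [Finset.sup_eq_iSup]
      exact t.isCompact_biUnion fun B _ => B.2.isCompact
    have := quasiCompact_ι hWc
    have := quasiCompact_ι V.2.isCompact
    let K₁ := extendFrom W K ⊓ I
    have hK₁ : ∀ B : X.affineOpens, B.1 ≤ W → K₁.ideal B = K.ideal B := by
      intro B hB
      show ((extendFrom W K).ideal ⊓ I.ideal) B = _
      rw [Pi.inf_apply, ideal_extendFrom_eq W K hB]
      exact inf_eq_left.mpr (hKI B)
    -- a finite cover of `W ∩ V` by basic opens of `V`, on which `K` is of finite type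
    obtain ⟨G, hGcov, hGW⟩ : ∃ G : Finset Γ(X, V.1), (∀ x ∈ W ⊓ V.1, ∃ g ∈ G, x ∈ X.basicOpen g) ∧
        ∀ g ∈ G, X.basicOpen g ≤ W ∧ (K.ideal (X.affineBasicOpen g)).FG ∧
          (K.support : Set X) ∩ X.basicOpen g = (I.support : Set X) ∩ X.basicOpen g := by
      have hc : IsCompact ((W : Set X) ∩ (V.1 : Set X)) :=
        QuasiSeparatedSpace.inter_isCompact _ _ W.2 hWc V.1.2 V.2.isCompact
      obtain ⟨G, hG⟩ := hc.elim_finite_subcover
        (fun g : {g : Γ(X, V.1) // X.basicOpen g ≤ W ∧ (K.ideal (X.affineBasicOpen g)).FG ∧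
          (K.support : Set X) ∩ X.basicOpen g = (I.support : Set X) ∩ X.basicOpen g} => (X.basicOpen g.1 : Set X))
        (fun g => (X.basicOpen g.1).2) (by
          rintro x ⟨hxW, hxV⟩
          obtain ⟨B, hB, hxB⟩ : ∃ B ∈ t, x ∈ B.1 := by
            simpa [W, Finset.sup_eq_iSup] using hxW
          obtain ⟨g, g', hgg', hxg⟩ := exists_basicOpen_le_affine_inter V.2 B.2 x ⟨hxV, hxB⟩
          have hle : X.basicOpen g ≤ B.1 := hgg' ▸ X.basicOpen_le g'
          refine Set.mem_iUnion.mpr ⟨⟨g, hle.trans (Finset.le_sup (f := fun B : X.affineOpens => B.1) hB), ?_, ?_⟩, hxg⟩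
          · rw [show X.affineBasicOpen g = X.affineBasicOpen g' from Subtype.ext hgg',
              ← K.map_ideal_basicOpen B g']
            exact (hK B hB).1.map _
          · have h0 := (hK B hB).2
            ext y
            have := Set.ext_iff.mp h0 y
            simp only [Set.mem_inter_iff] at this ⊢
            exact ⟨fun h => ⟨(this.mp ⟨h.1, hle h.2⟩).1, h.2⟩, fun h => ⟨(this.mpr ⟨h.1, hle h.2⟩).1, h.2⟩⟩)
      refine ⟨G.image Subtype.val, fun x hx => ?_, fun g hg => ?_⟩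
      · obtain ⟨g, hg, hxg⟩ := Set.mem_iUnion₂.mp (hG hx)
        exact ⟨g.1, Finset.mem_image.mpr ⟨g, hg, rfl⟩, hxg⟩
      · obtain ⟨g, -, rfl⟩ := Finset.mem_image.mp hg
        exact g.2
    -- sections of `I` over `V` have powers in `K₁`
    have hpow : ∀ a ∈ I.ideal V, ∃ N, a ^ N ∈ K₁.ideal V := by
      intro a ha
      have hrad : ∀ g ∈ G, ∃ n, (X.presheaf.map (homOfLE (X.basicOpen_le g)).op).hom a ^ n ∈
          K.ideal (X.affineBasicOpen g) := by
        intro g hg
        exact ideal_le_radical (B := X.affineBasicOpen g)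
          ((hGW g hg).2.2.le.trans Set.inter_subset_left)
          (I.ideal_le_comap_ideal (U := X.affineBasicOpen g) (V := V) (X.basicOpen_le g) ha)
      choose! n hn using hrad
      refine ⟨G.sup n + 1, ?_⟩
      show a ^ (G.sup n + 1) ∈ ((extendFrom W K).ideal ⊓ I.ideal) V
      refine ⟨?_, Ideal.pow_mem_of_mem _ ha _ (Nat.succ_pos _)⟩
      rw [SetLike.mem_coe, mem_extendFrom_iff]
      intro B hBV hBW
      refine mem_ideal_of_locally K B _ fun x hx => ?_
      obtain ⟨g, hg, hxg⟩ := hGcov x ⟨hBW hx, hBV hx⟩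
      obtain ⟨_, ⟨C, hC, rfl⟩, hxC, hCle⟩ := X.isBasis_affineOpens.exists_subset_of_mem_open
        (show x ∈ B.1 ⊓ X.basicOpen g from ⟨hx, hxg⟩) (B.1 ⊓ X.basicOpen g).2
      have hCB : C ≤ B.1 := le_trans hCle inf_le_left
      have hCg : C ≤ X.basicOpen g := le_trans hCle inf_le_right
      refine ⟨⟨C, hC⟩, hCB, hxC, ?_⟩
      have h1 := K.ideal_le_comap_ideal (U := ⟨C, hC⟩) (V := X.affineBasicOpen g) hCg (hn g hg)
      change (X.presheaf.map (homOfLE hCg).op).hom _ ∈ K.ideal ⟨C, hC⟩ at h1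
      have h2 : (X.presheaf.map (homOfLE hCB).op).hom ((X.presheaf.map (homOfLE hBV).op).hom (a ^ (G.sup n + 1))) =
          (X.presheaf.map (homOfLE hCg).op).hom ((X.presheaf.map (homOfLE (X.basicOpen_le g)).op).hom a ^ n g)
            * (X.presheaf.map (homOfLE (hCB.trans hBV)).op).hom (a ^ (G.sup n + 1 - n g)) := by
        rw [map_pow (X.presheaf.map (homOfLE hCg).op).hom, ← CommRingCat.comp_apply, ← CommRingCat.comp_apply,
          ← Functor.map_comp, ← Functor.map_comp, ← op_comp, ← op_comp, homOfLE_comp, homOfLE_comp,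
          ← map_pow, ← map_mul, ← pow_add, Nat.add_sub_cancel' (Nat.le_succ_of_le (Finset.le_sup hg))]
      rw [h2]
      exact Ideal.mul_mem_right _ _ h1
    -- a finite set cutting out the support on `V`
    obtain ⟨T₀, hT₀⟩ : ∃ T₀ : Finset (K₁.ideal V), ∀ x ∈ V.1, x ∉ I.support → ∃ a ∈ T₀, x ∈ X.basicOpen a.1 := by
      have hc : IsCompact ((I.support : Set X)ᶜ ∩ (V.1 : Set X)) :=
        QuasiSeparatedSpace.inter_isCompact _ _ I.support.isClosed.isOpen_compl hI V.1.2 V.2.isCompact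
      obtain ⟨T₀, hT⟩ := hc.elim_finite_subcover (fun a : K₁.ideal V => (X.basicOpen a.1 : Set X))
        (fun a => (X.basicOpen a.1).2) (by
          rintro x ⟨hxI, hxV⟩
          rw [Set.mem_compl_iff, SetLike.mem_coe, Scheme.IdealSheafData.mem_support_iff_of_mem hxV,
            Scheme.mem_zeroLocus_iff] at hxI
          push_neg at hxI
          obtain ⟨a, ha, hxa⟩ := hxI
          obtain ⟨N, hN⟩ := hpow a ha
          refine Set.mem_iUnion.mpr ⟨⟨_, hN⟩, ?_⟩
          show x ∈ X.basicOpen (a ^ N)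
          rw [Scheme.mem_basicOpen _ _ _ hxV, map_pow]
          exact ((X.mem_basicOpen a x hxV).mp hxa).pow N)
      exact ⟨T₀, fun x hxV hxI => Set.mem_iUnion₂.mp (hT ⟨hxI, hxV⟩) |>.imp fun a h => ⟨h.1, h.2⟩⟩
    -- generators of `K` on the basic opens
    have hgen : ∀ g ∈ G, ∃ q : Ideal Γ(X, V.1), q.FG ∧ q ≤ K₁.ideal V ∧
        K.ideal (X.affineBasicOpen g) = q.map (X.presheaf.map (homOfLE (X.basicOpen_le g)).op).hom := by
      intro g hg
      have h1 := K₁.map_ideal_basicOpen V g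
      rw [hK₁ (X.affineBasicOpen g) (hGW g hg).1] at h1
      have h2 := (hGW g hg).2.1
      rw [← h1] at h2
      obtain ⟨u, hu, hus⟩ := (Submodule.fg_span_iff_fg_span_finset_subset
        (R := Γ(X, (X.affineBasicOpen g).1)) (s := _ '' (K₁.ideal V : Set Γ(X, V.1)))).mp h2
      obtain ⟨u', hu', rfl⟩ := Finset.subset_set_image_iff.mp hu
      refine ⟨Ideal.span (u' : Set Γ(X, V.1)), ⟨u', rfl⟩, Ideal.span_le.mpr hu', ?_⟩
      rw [← h1, Ideal.map_span]
      exact hus.trans (congrArg Ideal.span (Finset.coe_image ..))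
    choose! q hqfg hqle hqeq using hgen
    let Q : Ideal Γ(X, V.1) := Ideal.span ((T₀.image Subtype.val : Finset _) : Set Γ(X, V.1)) ⊔ G.sup q
    have hQle : Q ≤ K₁.ideal V := by
      refine sup_le (Ideal.span_le.mpr ?_) (Finset.sup_le hqle)
      intro a ha
      obtain ⟨b, -, rfl⟩ := Finset.mem_image.mp ha
      exact b.2
    have hQfg : Q.FG := by
      refine Submodule.FG.sup ⟨_, rfl⟩ ?_
      exact Submodule.fg_finset_sup G q hqfg
    obtain ⟨L, hLV, hLext⟩ := exists_idealSheaf_of_ideal V Q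
    have hV : (K₁ ⊓ L).ideal V = Q := by
      show (K₁.ideal ⊓ L.ideal) V = Q
      rw [Pi.inf_apply, hLV]
      exact inf_eq_right.mpr hQle
    have hold : ∀ B : X.affineOpens, B.1 ≤ W → (K₁ ⊓ L).ideal B = K.ideal B := by
      intro B hB
      show (K₁.ideal ⊓ L.ideal) B = _
      rw [Pi.inf_apply, hK₁ B hB]
      refine inf_eq_left.mpr fun a ha => ?_
      rw [← hLext, mem_extendFrom_iff]
      intro C hCB hCV
      refine mem_ideal_of_locally L C _ fun x hx => ?_
      obtain ⟨g, hg, hxg⟩ := hGcov x ⟨hB (hCB hx), hCV hx⟩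
      obtain ⟨_, ⟨D, hD, rfl⟩, hxD, hDle⟩ := X.isBasis_affineOpens.exists_subset_of_mem_open
        (show x ∈ C.1 ⊓ X.basicOpen g from ⟨hx, hxg⟩) (C.1 ⊓ X.basicOpen g).2
      have hDC : D ≤ C.1 := le_trans hDle inf_le_left
      have hDg : D ≤ X.basicOpen g := le_trans hDle inf_le_right
      refine ⟨⟨D, hD⟩, hDC, hxD, ?_⟩
      have h1 : (X.presheaf.map (homOfLE (hDC.trans hCB)).op).hom a ∈ K.ideal ⟨D, hD⟩ :=
        K.ideal_le_comap_ideal (U := ⟨D, hD⟩) (V := B) (hDC.trans hCB) ha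
      have h2 : K.ideal (X.affineBasicOpen g) ≤ L.ideal (X.affineBasicOpen g) := by
        rw [hqeq g hg, ← L.map_ideal_basicOpen V g, hLV]
        exact Ideal.map_mono (le_trans (Finset.le_sup hg) le_sup_right)
      rw [← CommRingCat.comp_apply, ← Functor.map_comp, ← op_comp, homOfLE_comp,
        ← L.map_ideal (U := ⟨D, hD⟩) (V := X.affineBasicOpen g) hDg]
      rw [← K.map_ideal (U := ⟨D, hD⟩) (V := X.affineBasicOpen g) hDg] at h1
      exact Ideal.map_mono h2 h1
    refine ⟨K₁ ⊓ L, inf_le_left.trans inf_le_right, fun B hB => ?_⟩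
    rcases Finset.mem_insert.mp hB with rfl | hB
    · refine ⟨hV ▸ hQfg, Set.Subset.antisymm ?_ ?_⟩
      · rintro x ⟨hxK, hxV⟩
        refine ⟨?_, hxV⟩
        by_contra hxI
        obtain ⟨a, ha, hxa⟩ := hT₀ x hxV hxI
        rw [SetLike.mem_coe, Scheme.IdealSheafData.mem_support_iff_of_mem hxV, hV,
          Scheme.mem_zeroLocus_iff] at hxK
        exact hxK a.1 (le_sup_left (b := G.sup q)
          (Ideal.subset_span (Finset.mem_coe.mpr (Finset.mem_image.mpr ⟨a, ha, rfl⟩)))) hxa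
      · exact Set.inter_subset_inter_left _
          (Scheme.IdealSheafData.support_antitone (inf_le_left.trans inf_le_right : K₁ ⊓ L ≤ I))
    · have hBW : B.1 ≤ W := Finset.le_sup (f := fun B : X.affineOpens => B.1) hB
      rw [hold B hBW]
      exact ⟨(hK B hB).1, (support_inter_eq (hold B hBW)).trans (hK B hB).2⟩

/-- A closed subset with quasi-compact complement of a quasi-compact quasi-separated scheme is the
support of an ideal sheaf of finite type. -/
theorem exists_ftIdeal_support_eq (Z : Closeds X) (hZ : IsCompact (Z : Set X)ᶜ) :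
    ∃ K : X.IdealSheafData, (∀ U : X.affineOpens, (K.ideal U).FG) ∧ (K.support : Set X) = Z := by
  have hs : ((Scheme.IdealSheafData.vanishingIdeal Z).support : Set X) = Z :=
    Scheme.IdealSheafData.coe_support_vanishingIdeal _
  obtain ⟨K, -, hK, hKs⟩ := exists_ftIdeal_le (Scheme.IdealSheafData.vanishingIdeal Z) (hs.symm ▸ hZ)
  exact ⟨K, hK, by rw [hKs]; exact hs⟩

end Groth.FlatMorOne
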