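import Groth.Agent.FlatMorOne.GenFlatAlgebra

/-! Generic flatness over a reduced scheme. -/

universe u

open TensorProduct AlgebraicGeometry CategoryTheory

namespace Groth.FlatMorOne

/-- Flat and of finite presentation after inverting `g`. -/
theorem flat_finitePresentation_of_tensor {R S R' S' : Type u} [CommRing R] [CommRing S] [CommRing R']
    [CommRing S'] [Algebra R S] [Algebra R R'] [Algebra S S'] [Algebra R' S'] [Algebra R S']
    [IsScalarTower R S S'] [IsScalarTower R R' S'] (g : R) [IsLocalization.Away g R']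
    [IsLocalization.Away (algebraMap R S g) S']
    (h1 : Module.Flat (Localization.Away g) (Localization.Away g ⊗[R] S))
    (h2 : Algebra.FinitePresentation (Localization.Away g) (Localization.Away g ⊗[R] S)) :
    (algebraMap R' S').Flat ∧ (algebraMap R' S').FinitePresentation := by
  let L := Localization.Away g
  let e₀ : L ≃ₐ[R] R' := IsLocalization.algEquiv (Submonoid.powers g) L R'
  let _ : Algebra L R' := e₀.toAlgHom.toRingHom.toAlgebra
  let _ : Algebra L S' := ((algebraMap R' S').comp (algebraMap L R')).toAlgebra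
  have : IsScalarTower L R' S' := IsScalarTower.of_algebraMap_eq' rfl
  have : IsScalarTower R L S' := IsScalarTower.of_algebraMap_eq fun r => by
    show algebraMap R S' r = algebraMap R' S' (e₀ (algebraMap R L r))
    rw [AlgEquiv.commutes, ← IsScalarTower.algebraMap_apply]
  have : IsLocalization (Algebra.algebraMapSubmonoid S (Submonoid.powers g)) S' := by
    rw [Algebra.algebraMapSubmonoid_powers]; infer_instance
  have hP : Algebra.IsPushout R S L S' := Algebra.isPushout_of_isLocalization (Submonoid.powers g) L S S'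
  have hP' : Algebra.IsPushout R L S S' := hP.symm
  let e : L ⊗[R] S ≃ₐ[L] S' := Algebra.IsPushout.equiv R L S S'
  have hflat : (algebraMap L S').Flat := RingHom.flat_algebraMap_iff.mpr (Module.Flat.of_linearEquiv e.symm.toLinearEquiv)
  have hfp : (algebraMap L S').FinitePresentation :=
    RingHom.finitePresentation_algebraMap.mpr (Algebra.FinitePresentation.equiv e)
  have heq : algebraMap R' S' = (algebraMap L S').comp e₀.symm.toAlgHom.toRingHom := by
    ext x
    show _ = algebraMap R' S' (e₀ (e₀.symm x))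
    rw [AlgEquiv.apply_symm_apply]
  exact ⟨heq ▸ (RingHom.Flat.of_bijective (f := e₀.symm.toAlgHom.toRingHom) e₀.symm.bijective).comp hflat,
    heq ▸ hfp.comp (RingHom.FinitePresentation.of_bijective (f := e₀.symm.toAlgHom.toRingHom) e₀.symm.bijective)⟩

set_option backward.isDefEq.respectTransparency.types false in
/-- **Generic flatness** over a reduced scheme. -/
theorem exists_dense_flat_finitePresentation {X S : Scheme.{u}} (f : X ⟶ S) [IsReduced S]
    [LocallyOfFiniteType f] [QuasiCompact f] :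
    ∃ U : S.Opens, Dense (U : Set S) ∧ Flat (f ∣_ U) ∧ LocallyOfFinitePresentation (f ∣_ U) := by
  classical
  let G := {W : S.Opens // Flat (f ∣_ W) ∧ LocallyOfFinitePresentation (f ∣_ W)}
  let U : S.Opens := ⨆ W : G, W.1
  have key : ∀ (O : S.Opens), (O : Set S).Nonempty → ∃ W : G, ((O : Set S) ∩ W.1).Nonempty := by
    rintro O ⟨y, hy⟩
    obtain ⟨_, ⟨V : S.Opens, hV, rfl⟩, hyV, hVO⟩ := S.isBasis_affineOpens.exists_subset_of_mem_open hy O.2
    have hne : (1 : Γ(S, V)) ≠ 0 := fun h => by
      have hbot : S.basicOpen (1 : Γ(S, V)) = ⊥ := by rw [h, Scheme.basicOpen_zero]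
      rw [Scheme.basicOpen_of_isUnit _ isUnit_one] at hbot
      exact (hbot ▸ hyV : y ∈ (⊥ : S.Opens)).elim
    have hred : _root_.IsReduced Γ(S, V) := inferInstance
    obtain ⟨T, hT⟩ := isCompact_and_isOpen_iff_finite_and_eq_biUnion_affineOpens.mp
      ⟨QuasiCompact.isCompact_preimage (f := f) _ V.2 hV.isCompact, (f ⁻¹ᵁ V).2⟩
    obtain ⟨hTfin, hTeq⟩ := hT
    have hle : ∀ W ∈ T, (W : X.affineOpens).1 ≤ f ⁻¹ᵁ V := fun W hW x hx => by
      show x ∈ ⇑f ⁻¹' V.carrier
      rw [hTeq]
      exact Set.mem_biUnion hW hx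
    -- make all the pieces good, one after the other
    have hstep : ∀ T' : Finset X.affineOpens, (∀ W ∈ T', W ∈ T) → ∃ g : Γ(S, V), g ≠ 0 ∧
        ∀ W ∈ T', ∀ (e : (W : X.affineOpens).1 ≤ f ⁻¹ᵁ V),
          letI := (f.appLE V W e).hom.toAlgebra
          Module.Flat (Localization.Away g) (Localization.Away g ⊗[Γ(S, V)] Γ(X, W)) ∧
            Algebra.FinitePresentation (Localization.Away g) (Localization.Away g ⊗[Γ(S, V)] Γ(X, W)) ∧
          ∀ g' : Γ(S, V), g ∣ g' →
            Module.Flat (Localization.Away g') (Localization.Away g' ⊗[Γ(S, V)] Γ(X, W)) ∧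
            Algebra.FinitePresentation (Localization.Away g') (Localization.Away g' ⊗[Γ(S, V)] Γ(X, W)) := by
      intro T'
      induction T' using Finset.induction_on with
      | empty => exact fun _ => ⟨1, hne, by simp⟩
      | insert W T' _ ih =>
        intro hsub
        obtain ⟨g, hg, hgood⟩ := ih fun W' hW' => hsub W' (Finset.mem_insert_of_mem hW')
        have e := hle W (hsub W (Finset.mem_insert_self _ _))
        letI := (f.appLE V W e).hom.toAlgebra
        have : Algebra.FiniteType Γ(S, V) Γ(X, W) := f.finiteType_appLE hV W.2 e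
        obtain ⟨g₁, hg₁, hdvd, hgood₁⟩ := exists_flat_finitePresentation_away Γ(X, W) hg
        refine ⟨g₁, hg₁, fun W' hW' e' => ?_⟩
        rcases Finset.mem_insert.mp hW' with rfl | hW'
        · exact ⟨(hgood₁ g₁ dvd_rfl).1, (hgood₁ g₁ dvd_rfl).2, hgood₁⟩
        · have h := (hgood W' hW' e').2.2
          exact ⟨(h g₁ hdvd).1, (h g₁ hdvd).2, fun g' hg' => h g' (hdvd.trans hg')⟩
    obtain ⟨g, hg, hgood⟩ := hstep hTfin.toFinset (fun W hW => hTfin.mem_toFinset.mp hW)
    let D := S.basicOpen g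
    have hDV : D ≤ V := S.basicOpen_le g
    have hDne : (D : Set S).Nonempty := by
      rw [Set.nonempty_iff_ne_empty]
      intro h
      exact hg ((AlgebraicGeometry.basicOpen_eq_bot_iff g).mp (TopologicalSpace.Opens.coe_eq_empty.mp h))
    -- the restriction to `D` is good
    have hloc : ∀ z : (f ⁻¹ᵁ D).toScheme, ∃ (A : D.toScheme.affineOpens) (B : (f ⁻¹ᵁ D).toScheme.affineOpens)
        (_ : z ∈ B.1) (e : B.1 ≤ (f ∣_ D) ⁻¹ᵁ A.1),
        ((f ∣_ D).appLE A B e).hom.Flat ∧ ((f ∣_ D).appLE A B e).hom.FinitePresentation := by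
      intro z
      have hzD : f z.1 ∈ D := z.2
      obtain ⟨W, hWT, hzW⟩ : ∃ W ∈ T, z.1 ∈ (W : X.affineOpens).1 := by
        have : z.1 ∈ ⇑f ⁻¹' V.carrier := hDV hzD
        rw [hTeq] at this
        simpa using this
      have e := hle W hWT
      let φ := f.appLE V W e
      have hB : X.basicOpen (φ g) = W.1 ⊓ f ⁻¹ᵁ D := Scheme.basicOpen_appLE f W V e g
      have hAaff : IsAffineOpen D := hV.basicOpen g
      have hBaff : IsAffineOpen (X.basicOpen (φ g)) := W.2.basicOpen _
      have hBD : X.basicOpen (φ g) ≤ f ⁻¹ᵁ D := hB.le.trans inf_le_right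
      -- the affine opens of the restriction
      have hA' : IsAffineOpen (⊤ : D.toScheme.Opens) := by
        haveI : IsAffine D.toScheme := hAaff
        exact isAffineOpen_top _
      have himg : (f ⁻¹ᵁ D).ι ''ᵁ ((f ⁻¹ᵁ D).ι ⁻¹ᵁ X.basicOpen (φ g)) = X.basicOpen (φ g) := by
        rw [Scheme.Hom.image_preimage_eq_opensRange_inf, Scheme.Opens.opensRange_ι]
        exact inf_eq_right.2 hBD
      have hB' : IsAffineOpen ((f ⁻¹ᵁ D).ι ⁻¹ᵁ X.basicOpen (φ g)) := by
        rw [← ((f ⁻¹ᵁ D).ι).isAffineOpen_iff_of_isOpenImmersion, himg]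
        exact hBaff
      refine ⟨⟨⊤, hA'⟩, ⟨_, hB'⟩, ?_, le_top, ?_⟩
      · show z.1 ∈ X.basicOpen (φ g)
        rw [hB]
        exact ⟨hzW, hzD⟩
      rw [morphismRestrict_appLE]
      -- compute with sections of `S` and `X`
      have main : ∀ (A : S.Opens) (B : X.Opens) (e' : B ≤ f ⁻¹ᵁ A) (_ : A = D) (_ : B = X.basicOpen (φ g)),
          (f.appLE A B e').hom.Flat ∧ (f.appLE A B e').hom.FinitePresentation := by
        rintro A B e' rfl rfl
        letI := φ.hom.toAlgebra
        letI : Algebra Γ(S, V) Γ(S, D) := (S.presheaf.map (homOfLE hDV).op).hom.toAlgebra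
        letI : Algebra Γ(X, W) Γ(X, X.basicOpen (φ g)) :=
          (X.presheaf.map (homOfLE (X.basicOpen_le (φ g))).op).hom.toAlgebra
        have := hV.isLocalization_basicOpen g
        have : IsLocalization.Away (algebraMap Γ(S, V) Γ(X, W) g) Γ(X, X.basicOpen (φ g)) :=
          W.2.isLocalization_basicOpen _
        letI := (f.appLE D (X.basicOpen (φ g)) e').hom.toAlgebra
        letI : Algebra Γ(S, V) Γ(X, X.basicOpen (φ g)) :=
          (f.appLE V (X.basicOpen (φ g)) ((X.basicOpen_le _).trans e)).hom.toAlgebra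
        have : IsScalarTower Γ(S, V) Γ(X, W) Γ(X, X.basicOpen (φ g)) := IsScalarTower.of_algebraMap_eq' (by
          show _ = (φ ≫ X.presheaf.map (homOfLE (X.basicOpen_le (φ g))).op).hom
          rw [Scheme.Hom.appLE_map]
          rfl)
        have : IsScalarTower Γ(S, V) Γ(S, D) Γ(X, X.basicOpen (φ g)) := IsScalarTower.of_algebraMap_eq' (by
          show _ = (S.presheaf.map (homOfLE hDV).op ≫ f.appLE D (X.basicOpen (φ g)) e').hom
          rw [Scheme.Hom.map_appLE]
          rfl)
        obtain ⟨h1, h2, -⟩ := hgood W (hTfin.mem_toFinset.mpr hWT) e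
        exact flat_finitePresentation_of_tensor (R' := Γ(S, D)) (S' := Γ(X, X.basicOpen (φ g))) g h1 h2
      exact main _ _ _ (by simp) himg
    refine ⟨⟨D, ?_, ?_⟩, ?_⟩
    · exact (HasRingHomProperty.iff_exists_appLE (P := @Flat)
        ((RingHom.Flat.stableUnderComposition.stableUnderCompositionWithLocalizationAway
          RingHom.Flat.holdsForLocalizationAway).left)).mpr fun z => by
          obtain ⟨A, B, hz, e, h1, -⟩ := hloc z
          exact ⟨A, B, hz, e, h1⟩
    · exact (HasRingHomProperty.iff_exists_appLE (P := @LocallyOfFinitePresentation)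
        ((RingHom.finitePresentation_stableUnderComposition.stableUnderCompositionWithLocalizationAway
          RingHom.finitePresentation_holdsForLocalizationAway).left)).mpr fun z => by
          obtain ⟨A, B, hz, e, -, h2⟩ := hloc z
          exact ⟨A, B, hz, e, h2⟩
    · obtain ⟨d, hd⟩ := hDne
      exact ⟨d, hVO (hDV hd), hd⟩
  refine ⟨U, dense_iff_inter_open.mpr fun O hO hne => ?_, ?_⟩
  · obtain ⟨W, x, hxO, hxW⟩ := key ⟨O, hO⟩ hne
    exact ⟨x, hxO, TopologicalSpace.Opens.mem_iSup.mpr ⟨W, hxW⟩⟩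
  · have hcov : ⨆ W : G, U.ι ⁻¹ᵁ W.1 = ⊤ := by
      rw [← Scheme.Hom.preimage_iSup, show (⨆ W : G, W.1) = U from rfl, Scheme.Opens.ι_preimage_self]
    have hW : ∀ W : G, Flat ((f ∣_ U) ∣_ U.ι ⁻¹ᵁ W.1) ∧ LocallyOfFinitePresentation ((f ∣_ U) ∣_ U.ι ⁻¹ᵁ W.1) := by
      intro W
      have e : U.ι ''ᵁ U.ι ⁻¹ᵁ W.1 = W.1 := by
        rw [Scheme.Hom.image_preimage_eq_opensRange_inf, Scheme.Opens.opensRange_ι]
        exact inf_eq_right.2 (le_iSup (fun W : G => W.1) W)
      constructor
      · rw [MorphismProperty.arrow_mk_iso_iff @Flat (morphismRestrictRestrict f U (U.ι ⁻¹ᵁ W.1)),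
          MorphismProperty.arrow_mk_iso_iff @Flat (morphismRestrictEq f e)]
        exact W.2.1
      · rw [MorphismProperty.arrow_mk_iso_iff @LocallyOfFinitePresentation (morphismRestrictRestrict f U (U.ι ⁻¹ᵁ W.1)),
          MorphismProperty.arrow_mk_iso_iff @LocallyOfFinitePresentation (morphismRestrictEq f e)]
        exact W.2.2
    exact ⟨IsZariskiLocalAtTarget.of_iSup_eq_top _ hcov fun W => (hW W).1,
      IsZariskiLocalAtTarget.of_iSup_eq_top _ hcov fun W => (hW W).2⟩

end Groth.FlatMorOne
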