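import Groth.Agent.FlatMorOne.FlatLocusModelFlat

/-! Flatness of a finitely presented module over a colimit of rings comes from a stage. -/

universe u

open TensorProduct

namespace Groth.FlatMorOne

attribute [local instance] Algebra.TensorProduct.rightAlgebra

theorem flat_iff_flat_tensor_of_isBaseChange {R₀ A₀ M₀ M : Type u} [CommRing R₀] [CommRing A₀]
    [Algebra R₀ A₀] [AddCommGroup M₀] [Module R₀ M₀] [AddCommGroup M] [Module R₀ M] [Module A₀ M]
    [IsScalarTower R₀ A₀ M] {β : M₀ →ₗ[R₀] M} (hβ : IsBaseChange A₀ β)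
    (C : Type u) [CommRing C] [Algebra R₀ C] [Algebra A₀ C] [IsScalarTower R₀ A₀ C] :
    Module.Flat C (C ⊗[A₀] M) ↔ Module.Flat C (C ⊗[R₀] M₀) := by
  let e : C ⊗[A₀] M ≃ₗ[C] C ⊗[R₀] M₀ :=
    (AlgebraTensorModule.congr (LinearEquiv.refl C C) hβ.equiv.symm).trans
      (AlgebraTensorModule.cancelBaseChange R₀ A₀ C C M₀)
  exact Module.Flat.equiv_iff e

theorem exists_algHom_stage {R₀ : Type u} [CommRing R₀] {ι : Type u} [Preorder ι] [IsDirectedOrder ι]
    [Nonempty ι] {G : ι → Type u} [∀ i, CommRing (G i)] [∀ i, Algebra R₀ (G i)]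
    (g : ∀ i j, i ≤ j → G i →ₐ[R₀] G j) {A : Type u} [CommRing A] [Algebra R₀ A]
    (can : ∀ i, G i →ₐ[R₀] A) (hcomp : ∀ i j (h : i ≤ j), (can j).comp (g i j h) = can i)
    (hsurj : ∀ a : A, ∃ i x, can i x = a)
    (hker : ∀ i (x : G i), can i x = 0 → ∃ j, ∃ h : i ≤ j, g i j h x = 0)
    (B : Type u) [CommRing B] [Algebra R₀ B] [Algebra.FinitePresentation R₀ B] (ψ : B →ₐ[R₀] A) :
    ∃ j, ∃ φ : B →ₐ[R₀] G j, (can j).comp φ = ψ := by
  classical
  obtain ⟨n, π, hπ, hπker⟩ := Algebra.FinitePresentation.out (R := R₀) (A := B)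
  choose iX xX hxX using fun k : Fin n => hsurj (ψ (π (MvPolynomial.X k)))
  obtain ⟨i, hi⟩ := Finite.exists_le iX
  let χ : MvPolynomial (Fin n) R₀ →ₐ[R₀] G i := MvPolynomial.aeval fun k => g _ _ (hi k) (xX k)
  have hχ : (can i).comp χ = ψ.comp π := MvPolynomial.algHom_ext fun k => by
    rw [AlgHom.comp_apply, MvPolynomial.aeval_X, ← AlgHom.comp_apply, hcomp, hxX]
    rfl
  obtain ⟨t, ht⟩ := hπker
  suffices h : ∃ l, ∃ χ' : MvPolynomial (Fin n) R₀ →ₐ[R₀] G l, (can l).comp χ' = ψ.comp π ∧ ∀ p ∈ t, χ' p = 0 by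
    obtain ⟨l, χ', hχ', hl⟩ := h
    have hle : RingHom.ker π.toRingHom ≤ RingHom.ker χ'.toRingHom := by
      rw [← ht, Ideal.span_le]
      exact fun p hp => RingHom.mem_ker.mpr (hl p hp)
    refine ⟨l, AlgHom.liftOfSurjective π hπ χ' hle, ?_⟩
    rw [← AlgHom.cancel_right hπ, AlgHom.comp_assoc, AlgHom.liftOfSurjective_comp, hχ']
  have main : ∀ s : Finset (MvPolynomial (Fin n) R₀), s ⊆ t →
      ∃ l, ∃ χ' : MvPolynomial (Fin n) R₀ →ₐ[R₀] G l, (can l).comp χ' = ψ.comp π ∧ ∀ p ∈ s, χ' p = 0 := by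
    intro s hs
    induction s using Finset.induction_on with
    | empty => exact ⟨i, χ, hχ, by simp⟩
    | insert p s _ ih =>
      obtain ⟨l, χ', hχ', hl⟩ := ih fun q hq => hs (Finset.mem_insert_of_mem hq)
      obtain ⟨l', hll', hp⟩ := hker l (χ' p) (by
        rw [← AlgHom.comp_apply, hχ', AlgHom.comp_apply, show π p = 0 from
          RingHom.mem_ker.mp (ht ▸ Submodule.subset_span (hs (Finset.mem_insert_self _ _))), map_zero])
      refine ⟨l', (g l l' hll').comp χ', by rw [← AlgHom.comp_assoc, hcomp, hχ'], fun q hq => ?_⟩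
      rcases Finset.mem_insert.mp hq with rfl | hq
      · exact hp
      · rw [AlgHom.comp_apply, hl q hq, map_zero]
  exact main t subset_rfl

set_option synthInstance.maxHeartbeats 200000 in
set_option maxHeartbeats 2000000 in
/-- Model form: if `A ⊗ M₀` is flat over the colimit `A` then `G i ⊗ M₀` is flat over some stage `G i`. -/
theorem exists_flat_stage_of_colimit_model {R₀ S₀ N : Type u} [CommRing R₀] [CommRing S₀] [Algebra R₀ S₀]
    [AddCommGroup N] [Module R₀ N] [Module S₀ N] [IsScalarTower R₀ S₀ N]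
    [IsNoetherianRing R₀] [Algebra.FiniteType R₀ S₀] [Module.Finite S₀ N] {A₀ : Type u} [CommRing A₀] {ι : Type u} [Preorder ι]
    [IsDirectedOrder ι] [Nonempty ι] {G : ι → Type u} [∀ i, CommRing (G i)] [∀ i, Algebra A₀ (G i)]
    (g : ∀ i j, i ≤ j → G i →ₐ[A₀] G j) {A : Type u} [CommRing A] [Algebra A₀ A]
    (can : ∀ i, G i →ₐ[A₀] A) (hcomp : ∀ i j (h : i ≤ j), (can j).comp (g i j h) = can i)
    (hsurj : ∀ a : A, ∃ i x, can i x = a)
    (hker : ∀ i (x : G i), can i x = 0 → ∃ j, ∃ h : i ≤ j, g i j h x = 0)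
    {B₀ : Type u} [CommRing B₀] [Algebra A₀ B₀] [Algebra.FinitePresentation A₀ B₀]
    (M₀ : Type u) [AddCommGroup M₀] [Module B₀ M₀] [Module A₀ M₀] [IsScalarTower A₀ B₀ M₀]
    [Module.FinitePresentation B₀ M₀] [Algebra R₀ A₀] [Algebra R₀ A] [IsScalarTower R₀ A₀ A]
    [∀ i, Algebra R₀ (G i)] [∀ i, IsScalarTower R₀ A₀ (G i)] [Algebra R₀ B₀] [IsScalarTower R₀ A₀ B₀]
    [Algebra S₀ B₀] [IsScalarTower R₀ S₀ B₀] [Algebra.IsPushout R₀ A₀ S₀ B₀]
    [Module R₀ M₀] [IsScalarTower R₀ A₀ M₀] [Module S₀ M₀] [IsScalarTower S₀ B₀ M₀]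
    {f₀ : N →ₗ[S₀] M₀} (hf₀ : IsBaseChange B₀ f₀) [Module.Flat A (A ⊗[A₀] M₀)] :
    ∃ i, Module.Flat (G i) (G i ⊗[A₀] M₀) := by
  -- `M₀` is the base change of `N` along `R₀ → A₀`
  have hβ : IsBaseChange A₀ ((pushoutModuleEquiv' (R₀ := R₀) (R := A₀) hf₀).toLinearMap.restrictScalars R₀ ∘ₗ
      betaOf R₀ S₀ N A₀) :=
    (isBaseChange_betaOf R₀ S₀ N A₀).comp (IsBaseChange.ofEquiv (pushoutModuleEquiv' hf₀))
  have key : ∀ (C : Type u) [CommRing C] [Algebra R₀ C] [Algebra A₀ C] [IsScalarTower R₀ A₀ C],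
      Module.Flat C (C ⊗[A₀] M₀) ↔ Module.Flat C (MOf R₀ S₀ N C) := fun C _ _ _ _ =>
    (flat_iff_flat_tensor_of_isBaseChange hβ C).trans
      (Module.Flat.equiv_iff (isBaseChange_betaOf R₀ S₀ N C).equiv)
  have : Module.Flat A (MOf R₀ S₀ N A) := (key A).mp inferInstance
  have hpushA : Algebra.IsPushout R₀ A S₀ (SOf R₀ S₀ A) := TensorProduct.isPushout
  obtain ⟨B, hB, hflat⟩ := exists_stage_flat_global (R₀ := R₀) (R := A) (S := SOf R₀ S₀ A)
    (TensorProduct.isBaseChange S₀ N (SOf R₀ S₀ A))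
  have : Algebra.FiniteType R₀ B := (Subalgebra.fg_iff_finiteType B).mp hB
  have : Algebra.FinitePresentation R₀ B := Algebra.FinitePresentation.of_finiteType.mp this
  obtain ⟨j, φ, hφ⟩ := exists_algHom_stage (R₀ := R₀) (fun i j h => (g i j h).restrictScalars R₀)
    (fun i => (can i).restrictScalars R₀) (fun i j h => AlgHom.ext fun x => AlgHom.congr_fun (hcomp i j h) x)
    hsurj hker B B.val
  refine ⟨j, (key (G j)).mpr ?_⟩
  let : Algebra B (G j) := φ.toRingHom.toAlgebra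
  have : IsScalarTower R₀ B (G j) := IsScalarTower.of_algebraMap_eq fun r => (φ.commutes r).symm
  have := hflat B hB le_rfl
  exact Module.Flat.of_linearEquiv
    (isBaseChange_stageToTop (R₀ := R₀) (R := G j) (S₀ := S₀) (M₀ := N) B).equiv.symm

set_option synthInstance.maxHeartbeats 200000 in
set_option maxHeartbeats 2000000 in
/-- If `A ⊗ M₀` is flat over the colimit `A` then `G i ⊗ M₀` is flat over some stage `G i`. -/
theorem exists_flat_stage_of_colimit {A₀ : Type u} [CommRing A₀] {ι : Type u} [Preorder ι]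
    [IsDirectedOrder ι] [Nonempty ι] {G : ι → Type u} [∀ i, CommRing (G i)] [∀ i, Algebra A₀ (G i)]
    (g : ∀ i j, i ≤ j → G i →ₐ[A₀] G j) {A : Type u} [CommRing A] [Algebra A₀ A]
    (can : ∀ i, G i →ₐ[A₀] A) (hcomp : ∀ i j (h : i ≤ j), (can j).comp (g i j h) = can i)
    (hsurj : ∀ a : A, ∃ i x, can i x = a)
    (hker : ∀ i (x : G i), can i x = 0 → ∃ j, ∃ h : i ≤ j, g i j h x = 0)
    {B₀ : Type u} [CommRing B₀] [Algebra A₀ B₀] [Algebra.FinitePresentation A₀ B₀]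
    (M₀ : Type u) [AddCommGroup M₀] [Module B₀ M₀] [Module A₀ M₀] [IsScalarTower A₀ B₀ M₀]
    [Module.FinitePresentation B₀ M₀] [Module.Flat A (A ⊗[A₀] M₀)] :
    ∃ i, Module.Flat (G i) (G i ⊗[A₀] M₀) := by
  obtain ⟨R₀, hR₀, S₀, _, _, _, _, hS₀, hpush, N, _, _, _, _, _, _, f₀, hN, hf₀⟩ := exists_models A₀ B₀ M₀
  have : IsNoetherianRing R₀ := Algebra.FiniteType.isNoetherianRing ℤ R₀
  exact exists_flat_stage_of_colimit_model (R₀ := R₀) (S₀ := S₀) (N := N) g can hcomp hsurj hker M₀ hf₀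

end Groth.FlatMorOne
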