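import Groth.Agent.FlatMorOne.FlatLocusOpen
import Groth.Agent.Flatmor4.FlatModAffine
import Groth.Agent.PropsBasic.FPSections

/-! The flat locus of a quasi-coherent module over a morphism of schemes. -/

universe u

open CategoryTheory AlgebraicGeometry Opposite TopologicalSpace Groth.QCohMod Groth.Flatmor4

namespace Groth.FlatMorOne

variable {X S : Scheme.{u}} (f : X ⟶ S) (F : X.Modules) [F.IsQuasicoherent]

/-- Flatness of a quasi-coherent module at a point, read on affine opens. -/
theorem isFlatOverAt_iff_localized {U : X.Opens} (hU : IsAffineOpen U) {V : S.Opens} (hV : IsAffineOpen V)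
    (e : U ≤ f ⁻¹ᵁ V) (x : U) :
    FlatMod.IsFlatOverAt f F x.1 ↔
      (letI := (f.appLE V U e).hom.toAlgebra
       letI := sectionModule f F e
       haveI : IsScalarTower Γ(S, V) Γ(X, U) Γ(F, U) := .of_algebraMap_smul fun _ _ => rfl
       Module.Flat Γ(S, V) (LocalizedModule (hU.primeIdealOf x).asIdeal.primeCompl Γ(F, U))) := by
  letI := (f.appLE V U e).hom.toAlgebra
  letI := sectionModule f F e
  haveI : IsScalarTower Γ(S, V) Γ(X, U) Γ(F, U) := .of_algebraMap_smul fun _ _ => rfl
  obtain ⟨x, hx⟩ := x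
  letI := stalkModule F x hx
  letI : Module Γ(S, V) (F.presheaf.stalk x) :=
    Module.compHom _ ((X.presheaf.germ U x hx).hom.comp (f.appLE V U e).hom)
  letI := FlatMod.moduleStalkOver f F x
  letI := TopCat.Presheaf.algebra_section_stalk S.presheaf ⟨f x, e hx⟩
  haveI : IsScalarTower Γ(S, V) (S.presheaf.stalk (f x)) (F.presheaf.stalk x) :=
    .of_algebraMap_smul fun r t => by
      change f.stalkMap x (S.presheaf.germ V (f x) (e hx) r) • t =
        X.presheaf.germ U x hx (f.appLE V U e r) • t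
      rw [Scheme.Hom.germ_stalkMap_apply]
      congr 1
      exact (TopCat.Presheaf.germ_res_apply X.presheaf (homOfLE e) x hx _).symm
  haveI := hV.isLocalization_stalk ⟨f x, e hx⟩
  haveI : IsScalarTower Γ(S, V) Γ(X, U) (F.presheaf.stalk x) := .of_algebraMap_smul fun _ _ => rfl
  haveI := isLocalizedModule_germ F hU x hx
  exact (Module.flat_iff_of_isLocalization (S.presheaf.stalk (f x))
      (hV.primeIdealOf ⟨f x, e hx⟩).asIdeal.primeCompl (F.presheaf.stalk x)).trans
    (Module.Flat.equiv_iff ((IsLocalizedModule.iso (hU.primeIdealOf ⟨x, hx⟩).asIdeal.primeCompl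
      (germₗ F x hx)).restrictScalars Γ(S, V))).symm

/-- The flat locus of a finitely presented module is open. -/
theorem isOpen_isFlatOverAt [LocallyOfFinitePresentation f] (hF : CohB1.IsFP F) :
    IsOpen {x : X | FlatMod.IsFlatOverAt f F x} := by
  rw [isOpen_iff_forall_mem_open]
  intro x hx
  obtain ⟨_, ⟨V : S.Opens, hV, rfl⟩, hxV, -⟩ :=
    S.isBasis_affineOpens.exists_subset_of_mem_open (Set.mem_univ (f x)) isOpen_univ
  obtain ⟨_, ⟨U : X.Opens, hU, rfl⟩, hxU, hle⟩ :=
    X.isBasis_affineOpens.exists_subset_of_mem_open (show x ∈ f ⁻¹ᵁ V from hxV) (f ⁻¹ᵁ V).2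
  have e : U ≤ f ⁻¹ᵁ V := hle
  letI := (f.appLE V U e).hom.toAlgebra
  letI := sectionModule f F e
  haveI : IsScalarTower Γ(S, V) Γ(X, U) Γ(F, U) := .of_algebraMap_smul fun _ _ => rfl
  have : Algebra.FinitePresentation Γ(S, V) Γ(X, U) := f.finitePresentation_appLE hV hU e
  have : Module.FinitePresentation Γ(X, U) Γ(F, U) := Groth.PropsBasic.FPSections.finitePresentation_sections F hF hU
  refine ⟨Subtype.val '' ((fun z : U => hU.primeIdealOf z) ⁻¹'
    {q : PrimeSpectrum Γ(X, U) | Module.Flat Γ(S, V) (LocalizedModule q.asIdeal.primeCompl Γ(F, U))}), ?_, ?_,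
    ⟨⟨x, hxU⟩, (isFlatOverAt_iff_localized f F hU hV e ⟨x, hxU⟩).mp hx, rfl⟩⟩
  · rintro _ ⟨z, hz, rfl⟩
    exact (isFlatOverAt_iff_localized f F hU hV e z).mpr hz
  · refine U.2.isOpenMap_subtype_val _ (IsOpen.preimage ?_ (isOpen_flatLocus Γ(S, V) Γ(X, U) Γ(F, U)))
    exact hU.isoSpec.hom.continuous

end Groth.FlatMorOne
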