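import Groth.Agent.FlatMorOne.FlatLocusKerFP
import Groth.Agent.FlatMorOne.FlatLocusScheme
import Groth.Agent.QCohMod.Coherent
import Groth.Agent.LocFree.FP
import Groth.Agent.OmegaSheaf.IsoLocal

/-! Openness of the locus where a map is injective with flat cokernel. -/

universe u

open CategoryTheory CategoryTheory.Limits AlgebraicGeometry Groth.QCohMod Groth.Flatmor4

namespace Groth.FlatMorOne

variable {X Y : Scheme.{u}} {F F' : X.Modules} [F.IsQuasicoherent] [F'.IsQuasicoherent] (u : F' ⟶ F)

theorem exact_appₗ_cokernel {U : X.Opens} (hU : IsAffineOpen U) :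
    Function.Exact (appₗ u U) (appₗ (cokernel.π u) U) := fun m => by
  refine ⟨fun hm => ?_, ?_⟩
  · exact exists_app_eq_of_exact (S := ShortComplex.mk u (cokernel.π u) (cokernel.condition u))
      (ShortComplex.exact_of_g_is_cokernel _ (cokernelIsCokernel u)) hU m hm
  · rintro ⟨a, rfl⟩
    exact congr(($(cokernel.condition u)).app U a)

theorem finitePresentation_sections_cokernel (hF : CohB1.IsFP F) (hF' : CohB1.IsFP F')
    {U : X.Opens} (hU : IsAffineOpen U) :
    Module.FinitePresentation Γ(X, U) Γ((cokernel u : X.Modules), U) := by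
  have := Groth.PropsBasic.FPSections.finitePresentation_sections F hF hU
  have := Groth.PropsBasic.FPSections.finitePresentation_sections F' hF' hU
  refine Module.finitePresentation_of_surjective (appₗ (cokernel.π u) U) (app_surjective_of_epi _ hU) ?_
  rw [LinearMap.exact_iff.mp (exact_appₗ_cokernel u hU)]
  exact Submodule.fg_range _

theorem isFP_cokernel (hF : CohB1.IsFP F) (hF' : CohB1.IsFP F') : CohB1.IsFP (cokernel u) :=
  Groth.LocFree.isFP_of_affine_cover _ fun x =>
    have ⟨U, hU, hx⟩ := exists_affine_mem x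
    ⟨U, hU, hx, finitePresentation_sections_cokernel u hF hF' hU⟩

/-- Injectivity on stalks, read on an affine open. -/
theorem injective_stalk_iff {U : X.Opens} (hU : IsAffineOpen U) (x : X) (hx : x ∈ U) :
    Function.Injective ((stalk x).map u) ↔
      ∀ m ∈ LinearMap.ker (appₗ u U), ∃ a : Γ(X, U), x ∈ X.basicOpen a ∧ a • m = 0 := by
  show Function.Injective (Groth.OmegaSheaf.stalkApp u x) ↔ _
  constructor
  · intro h m hm
    refine exists_smul_eq_zero_of_germ_eq_zero F' hU x hx m (h ?_)
    rw [Groth.OmegaSheaf.stalkApp_germ, map_zero]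
    exact (congrArg (germ F x hx) hm).trans (map_zero _)
  · intro h
    rw [injective_iff_map_eq_zero]
    intro t ht
    obtain ⟨a, m, hxa, hm⟩ := exists_smul_germ_eq F' hU x hx t
    have hu : IsUnit (X.presheaf.germ U x hx a) := (Scheme.mem_basicOpen X a x hx).mp hxa
    have h0 : germ F x hx (u.app U m) = 0 := by
      rw [← Groth.OmegaSheaf.stalkApp_germ, ← hm, Groth.OmegaSheaf.stalk_map_smul, ht, smul_zero]
    obtain ⟨b, hxb, hb⟩ := exists_smul_eq_zero_of_germ_eq_zero F hU x hx _ h0
    obtain ⟨c, hxc, hc⟩ := h (b • m) (by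
      show u.app U (b • m) = 0
      rw [Scheme.Modules.Hom.app_smul, hb])
    have hub : IsUnit (X.presheaf.germ U x hx b) := (Scheme.mem_basicOpen X b x hx).mp hxb
    have huc : IsUnit (X.presheaf.germ U x hx c) := (Scheme.mem_basicOpen X c x hx).mp hxc
    have := congr(germ F' x hx $hc)
    rw [germ_smul, germ_smul, map_zero, huc.smul_eq_zero, hub.smul_eq_zero, ← hm, hu.smul_eq_zero] at this
    exact this

variable (f : X ⟶ Y) [LocallyOfFinitePresentation f]

theorem isOpen_injective_and_flat_coker (hF : CohB1.IsFP F) (hF' : CohB1.IsFP F') :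
    IsOpen {x : X | Function.Injective ((stalk x).map u) ∧ FlatMod.IsFlatOverAt f (cokernel u) x} := by
  rw [isOpen_iff_forall_mem_open]
  rintro x ⟨hxi, hxf⟩
  let O : X.Opens := ⟨_, isOpen_isFlatOverAt f (cokernel u) (isFP_cokernel u hF hF')⟩
  obtain ⟨_, ⟨V : Y.Opens, hV, rfl⟩, hxV, -⟩ :=
    Y.isBasis_affineOpens.exists_subset_of_mem_open (Set.mem_univ (f x)) isOpen_univ
  obtain ⟨_, ⟨U : X.Opens, hU, rfl⟩, hxU, hle⟩ :=
    X.isBasis_affineOpens.exists_subset_of_mem_open
      (show x ∈ f ⁻¹ᵁ V ⊓ O from ⟨hxV, hxf⟩) (f ⁻¹ᵁ V ⊓ O).2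
  have e : U ≤ f ⁻¹ᵁ V := fun y hy => (hle hy).1
  letI := (f.appLE V U e).hom.toAlgebra
  letI := sectionModule f (cokernel u) e
  haveI : IsScalarTower Γ(Y, V) Γ(X, U) Γ((cokernel u : X.Modules), U) :=
    .of_algebraMap_smul fun _ _ => rfl
  have : Algebra.FinitePresentation Γ(Y, V) Γ(X, U) := f.finitePresentation_appLE hV hU e
  have := Groth.PropsBasic.FPSections.finitePresentation_sections F hF hU
  have := Groth.PropsBasic.FPSections.finitePresentation_sections F' hF' hU
  have : Module.Flat Γ(Y, V) Γ((cokernel u : X.Modules), U) :=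
    (flat_sections_iff f (cokernel u) hU hV e).mpr fun y hy => (hle hy).2
  obtain ⟨s, hs⟩ := fg_ker_of_flat_coker Γ(Y, V) (appₗ u U) (appₗ (cokernel.π u) U)
    (app_surjective_of_epi _ hU) (exact_appₗ_cokernel u hU)
  have hmem := fun m : s => (injective_stalk_iff u hU x hxU).mp hxi m.1 (hs ▸ Submodule.subset_span m.2)
  choose a ha ham using hmem
  refine ⟨(X.basicOpen (∏ m, a m) : X.Opens), ?_, (X.basicOpen _).2, ?_⟩
  · intro y hy
    have hyU : y ∈ U := X.basicOpen_le _ hy
    refine ⟨(injective_stalk_iff u hU y hyU).mpr fun m hm => ⟨∏ m, a m, hy, ?_⟩, (hle hyU).2⟩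
    rw [← hs] at hm
    induction hm using Submodule.span_induction with
    | mem z hz =>
      classical rw [← Finset.prod_erase_mul _ a (Finset.mem_univ ⟨z, hz⟩), mul_smul, ham ⟨z, hz⟩, smul_zero]
    | zero => simp
    | add p q _ _ hp hq => rw [smul_add, hp, hq, add_zero]
    | smul r p _ hp => rw [smul_comm, hp, smul_zero]
  · rw [SetLike.mem_coe, Scheme.mem_basicOpen X _ x hxU, map_prod, IsUnit.prod_univ_iff]
    exact fun m => (Scheme.mem_basicOpen X (a m) x hxU).mp (ha m)

end Groth.FlatMorOne
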