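import Groth.Agent.FlatMorOne.FlatLocusKerFP

/-! Flatness and injectivity descend to finitely presented algebras over the base. -/

universe u

open TensorProduct

namespace Groth.FlatMorOne

attribute [local instance] Algebra.TensorProduct.rightAlgebra

/-- A base change along a pushout is a base change along the base. -/
theorem isBaseChange_restrict {A R SA S M₀ M : Type u} [CommRing A] [CommRing R] [Algebra A R] [CommRing SA]
    [Algebra A SA] [CommRing S] [Algebra R S] [Algebra SA S] [Algebra A S] [IsScalarTower A R S]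
    [IsScalarTower A SA S] [Algebra.IsPushout A R SA S] [AddCommGroup M₀] [Module SA M₀] [Module A M₀]
    [IsScalarTower A SA M₀] [AddCommGroup M] [Module S M] [Module R M] [IsScalarTower R S M] [Module SA M]
    [IsScalarTower SA S M] [Module A M] [IsScalarTower A R M] [IsScalarTower A SA M]
    {f : M₀ →ₗ[SA] M} (hf : IsBaseChange S f) : IsBaseChange R (f.restrictScalars A) := by
  refine IsBaseChange.of_equiv
    ((Algebra.IsPushout.cancelBaseChange A R SA S M₀).symm ≪≫ₗ hf.equiv.restrictScalars R) fun m => ?_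
  simp [IsBaseChange.equiv_tmul]

set_option synthInstance.maxHeartbeats 200000 in
set_option maxHeartbeats 2000000 in
/-- If the base change of `M₀` to `R` is flat at a prime then it is already flat at the image of the
prime over a finitely presented `R₀`-algebra mapping to `R`. -/
theorem exists_fp_stage_flat {R₀ S₀ M₀ R S M : Type u} [CommRing R₀] [CommRing S₀] [Algebra R₀ S₀]
    [Algebra.FinitePresentation R₀ S₀] [AddCommGroup M₀] [Module S₀ M₀]
    [Module.FinitePresentation S₀ M₀] [CommRing R] [Algebra R₀ R] [CommRing S] [Algebra R S]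
    [Algebra S₀ S] [Algebra R₀ S] [IsScalarTower R₀ R S] [IsScalarTower R₀ S₀ S]
    [hpush : Algebra.IsPushout R₀ R S₀ S] [AddCommGroup M] [Module S M] [Module R M] [IsScalarTower R S M]
    [Module S₀ M] [IsScalarTower S₀ S M] {f₀ : M₀ →ₗ[S₀] M} (hf₀ : IsBaseChange S f₀) (q : Ideal S) [q.IsPrime]
    (hq : Module.Flat R (LocalizedModule q.primeCompl M)) :
    ∃ (R₁ : Type u) (_ : CommRing R₁) (_ : Algebra R₀ R₁) (π : R₁ →ₐ[R₀] R),
      Algebra.FinitePresentation R₀ R₁ ∧
      ∀ (R₂ : Type u) [CommRing R₂] [Algebra R₀ R₂] [Algebra R₂ R] [IsScalarTower R₀ R₂ R]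
        (ρ : R₁ →ₐ[R₀] R₂) (_ : ∀ x, algebraMap R₂ R (ρ x) = π x) (S₂ : Type u) [CommRing S₂]
        [Algebra R₀ S₂] [Algebra R₂ S₂] [Algebra S₀ S₂] [IsScalarTower R₀ R₂ S₂] [IsScalarTower R₀ S₀ S₂]
        [Algebra.IsPushout R₀ R₂ S₀ S₂] (M₂ : Type u) [AddCommGroup M₂] [Module S₂ M₂] [Module R₂ M₂]
        [IsScalarTower R₂ S₂ M₂] [Module S₀ M₂] [IsScalarTower S₀ S₂ M₂] (β₂ : M₀ →ₗ[S₀] M₂)
        (_ : IsBaseChange S₂ β₂) (θ : S₂ →+* S)
        (_ : ∀ r, θ (algebraMap R₂ S₂ r) = algebraMap R S (algebraMap R₂ R r))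
        (_ : ∀ s, θ (algebraMap S₀ S₂ s) = algebraMap S₀ S s),
        Module.Flat R₂ (LocalizedModule (q.comap θ).primeCompl M₂) := by
  obtain ⟨N, hN, SN, _, _, _, _, hSN, hpushN, QN, _, _, _, _, _, _, g, hQN, hg⟩ := exists_models R₀ S₀ M₀
  have : IsNoetherianRing N := Algebra.FiniteType.isNoetherianRing ℤ N
  have : IsScalarTower N R₀ R := inferInstance
  let _ : Algebra SN S := ((algebraMap S₀ S).comp (algebraMap SN S₀)).toAlgebra
  have : IsScalarTower SN S₀ S := IsScalarTower.of_algebraMap_eq fun _ => rfl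
  have : IsScalarTower N R₀ S := inferInstance
  have : IsScalarTower N R S := IsScalarTower.of_algebraMap_eq fun r => by
    show algebraMap R₀ S _ = algebraMap R S (algebraMap R₀ R _)
    rw [← IsScalarTower.algebraMap_apply]
  have : IsScalarTower N SN S := IsScalarTower.of_algebraMap_eq fun r => by
    show algebraMap R₀ S (algebraMap N R₀ r) = algebraMap S₀ S (algebraMap SN S₀ (algebraMap N SN r))
    rw [← IsScalarTower.algebraMap_apply N SN S₀, IsScalarTower.algebraMap_apply N R₀ S₀,
      ← IsScalarTower.algebraMap_apply R₀ S₀ S]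
  have : Algebra.IsPushout N SN R₀ S₀ := hpushN.symm
  have hpushR : Algebra.IsPushout N R SN S :=
    ((Algebra.IsPushout.comp_iff (R := N) (S := R₀) (R' := SN) (S' := S₀) (T := R) (T' := S)).mpr
      hpush)
  let _ : Module SN M := Module.compHom M (algebraMap SN S)
  have : IsScalarTower SN S M := IsScalarTower.of_algebraMap_smul fun _ _ => rfl
  have : IsScalarTower SN S₀ M := IsScalarTower.of_algebraMap_smul fun s m => by
    rw [← algebraMap_smul S (algebraMap SN S₀ s) m]
    rfl
  obtain ⟨A, hA, hflat⟩ := exists_stage_flat_at (R₀ := N) (R := R) (hg.comp hf₀) ⟨q, inferInstance⟩ hq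
  have : Algebra.FiniteType N A := (Subalgebra.fg_iff_finiteType A).mp hA
  have : Algebra.FinitePresentation N A := Algebra.FinitePresentation.of_finiteType.mp this
  refine ⟨R₀ ⊗[N] A, inferInstance, inferInstance,
    Algebra.TensorProduct.lift (Algebra.ofId R₀ R) A.val (fun _ _ => Commute.all _ _), inferInstance, ?_⟩
  intro R₂ _ _ _ _ ρ hρ S₂ _ _ _ _ _ _ hpush₂ M₂ _ _ _ _ _ _ β₂ hβ₂ θ hθR hθS
  let ι : A →+* R₂ := ρ.toRingHom.comp (Algebra.TensorProduct.includeRight (R := N) (A := R₀) (B := A)).toRingHom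
  let _ : Algebra A R₂ := ι.toAlgebra
  have : IsScalarTower N R₀ R₂ := inferInstance
  have : IsScalarTower N A R₂ := IsScalarTower.of_algebraMap_eq fun r => by
    show algebraMap R₀ R₂ _ = ρ ((Algebra.TensorProduct.includeRight (R := N) (A := R₀) (B := A)) (algebraMap N A r))
    rw [AlgHom.commutes]
    exact (ρ.commutes _).symm
  let _ : Algebra SN S₂ := ((algebraMap S₀ S₂).comp (algebraMap SN S₀)).toAlgebra
  have : IsScalarTower SN S₀ S₂ := IsScalarTower.of_algebraMap_eq fun _ => rfl
  have : IsScalarTower N R₀ S₂ := inferInstance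
  have : IsScalarTower N R₂ S₂ := IsScalarTower.of_algebraMap_eq fun r => by
    show algebraMap R₀ S₂ _ = algebraMap R₂ S₂ (algebraMap R₀ R₂ _)
    rw [← IsScalarTower.algebraMap_apply]
  have : IsScalarTower N SN S₂ := IsScalarTower.of_algebraMap_eq fun r => by
    show algebraMap R₀ S₂ (algebraMap N R₀ r) = algebraMap S₀ S₂ (algebraMap SN S₀ (algebraMap N SN r))
    rw [← IsScalarTower.algebraMap_apply N SN S₀, IsScalarTower.algebraMap_apply N R₀ S₀,
      ← IsScalarTower.algebraMap_apply R₀ S₀ S₂]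
  have hpush₂' : Algebra.IsPushout N R₂ SN S₂ :=
    (Algebra.IsPushout.comp_iff (R := N) (S := R₀) (R' := SN) (S' := S₀) (T := R₂) (T' := S₂)).mpr hpush₂
  let _ : Module SN M₂ := Module.compHom M₂ (algebraMap SN S₂)
  have : IsScalarTower SN S₂ M₂ := IsScalarTower.of_algebraMap_smul fun _ _ => rfl
  have : IsScalarTower SN S₀ M₂ := IsScalarTower.of_algebraMap_smul fun s m => by
    rw [← algebraMap_smul S₂ (algebraMap SN S₀ s) m]
    rfl
  let _ : Algebra A S₂ := ((algebraMap R₂ S₂).comp ι).toAlgebra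
  have : IsScalarTower A R₂ S₂ := IsScalarTower.of_algebraMap_eq fun _ => rfl
  let σ := stageAlgHom N R₂ SN S₂ A
  let _ : Algebra (SOf N SN A) S₂ := σ.toRingHom.toAlgebra
  let _ : Module (SOf N SN A) M₂ := Module.compHom M₂ (algebraMap (SOf N SN A) S₂)
  have : IsScalarTower (SOf N SN A) S₂ M₂ := IsScalarTower.of_algebraMap_smul fun _ _ => rfl
  let _ : Module A M₂ := Module.compHom M₂ (algebraMap A R₂)
  have : IsScalarTower A R₂ M₂ := IsScalarTower.of_algebraMap_smul fun _ _ => rfl
  have hσA : ∀ a : A, algebraMap (SOf N SN A) S₂ (algebraMap A (SOf N SN A) a) = algebraMap R₂ S₂ (ι a) := by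
    intro a
    show pushoutAlgEquiv N R₂ SN S₂ (sMap N SN (IsScalarTower.toAlgHom N A R₂) (a ⊗ₜ 1)) = _
    rw [sMap_tmul, pushoutAlgEquiv_tmul, map_one, mul_one]
    rfl
  have : IsScalarTower A (SOf N SN A) S₂ := IsScalarTower.of_algebraMap_eq fun a => (hσA a).symm
  have : IsScalarTower A (SOf N SN A) M₂ := IsScalarTower.of_algebraMap_smul fun a m => by
    rw [← algebraMap_smul S₂ (algebraMap A (SOf N SN A) a), hσA, algebraMap_smul]
    rfl
  obtain ⟨F, hF⟩ := exists_model_isBaseChange (R₀ := N) (R := R₂) (S₀ := SN) (S := S₂) (hg.comp hβ₂) A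
    (fun _ => rfl)
  have : Algebra.IsPushout A R₂ (SOf N SN A) S₂ :=
    isPushout_stage (R₀ := N) (R := R₂) (S₀ := SN) (S := S₂) A (fun _ => rfl)
  have hθσ : ∀ x, θ (σ x) = stageAlgHom N R SN S A x := by
    intro x
    induction x using TensorProduct.induction_on with
    | zero => simp
    | tmul a s =>
      show θ (pushoutAlgEquiv N R₂ SN S₂ (sMap N SN (IsScalarTower.toAlgHom N A R₂) (a ⊗ₜ s))) =
        pushoutAlgEquiv N R SN S (sMap N SN (IsScalarTower.toAlgHom N A R) (a ⊗ₜ s))
      rw [sMap_tmul, sMap_tmul, pushoutAlgEquiv_tmul, pushoutAlgEquiv_tmul, map_mul, hθR]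
      congr 1
      · congr 1
        show algebraMap R₂ R (ρ ((1 : R₀) ⊗ₜ[N] a)) = A.val a
        rw [hρ, Algebra.TensorProduct.lift_tmul, map_one, one_mul]
      · exact hθS _
    | add a b ha hb => simp only [map_add, ha, hb]
  have := hflat A hA le_rfl
  have : Module.Flat A (LocalizedModule ((q.comap θ).comap σ.toRingHom).primeCompl (MOf N SN QN A)) :=
    flat_localized_of_eq (hq := this) (by
      ext x
      exact (show θ (σ x) ∈ q ↔ stageAlgHom N R SN S A x ∈ q by rw [hθσ]).symm)
  exact flat_localized_baseChange σ.toRingHom (isBaseChange_restrict (A := A) (R := R₂) (SA := SOf N SN A) (S := S₂) hF)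
    (fun s m => F.map_smul s m) (q.comap θ)

/-- Finitely many relations in a tensor product hold over a finitely presented algebra. -/
theorem exists_fp_relations {R R' M : Type u} [CommRing R] [CommRing R'] [Algebra R R'] [AddCommGroup M]
    [Module R M] {κ : Type u} [Finite κ] {n : ℕ} (r : Fin n → R') (m : κ → Fin n → M)
    (h : ∀ j, ∑ i, r i ⊗ₜ[R] m j i = 0) :
    ∃ (R₂ : Type u) (_ : CommRing R₂) (_ : Algebra R R₂) (π : R₂ →ₐ[R] R') (r₂ : Fin n → R₂),
      Algebra.FinitePresentation R R₂ ∧ (∀ i, π (r₂ i) = r i) ∧ ∀ j, ∑ i, r₂ i ⊗ₜ[R] m j i = 0 := by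
  classical
  let P := MvPolynomial R' R
  let π₀ : P →ₐ[R] R' := MvPolynomial.aeval id
  have hπ₀ : Function.Surjective π₀ := fun x => ⟨MvPolynomial.X x, MvPolynomial.aeval_X _ _⟩
  let Z : Finset P → Submodule R (P ⊗[R] M) := fun F =>
    LinearMap.ker ((Ideal.Quotient.mkₐ R (Ideal.span (F : Set P))).toLinearMap.rTensor M)
  have hmono : ∀ {F G : Finset P}, F ⊆ G → Z F ≤ Z G := by
    intro F G hFG z hz
    have hcomp : (Ideal.Quotient.mkₐ R (Ideal.span (G : Set P))).toLinearMap =
        (Ideal.Quotient.factorₐ R (Ideal.span_mono (Finset.coe_subset.mpr hFG))).toLinearMap ∘ₗ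
          (Ideal.Quotient.mkₐ R (Ideal.span (F : Set P))).toLinearMap := LinearMap.ext fun _ => rfl
    show (Ideal.Quotient.mkₐ R (Ideal.span (G : Set P))).toLinearMap.rTensor M z = 0
    rw [hcomp, LinearMap.rTensor_comp, LinearMap.comp_apply, LinearMap.mem_ker.mp hz, map_zero]
  have key : ∀ w : LinearMap.ker π₀.toLinearMap ⊗[R] M,
      ∃ F : Finset P, (∀ c ∈ F, π₀ c = 0) ∧ (LinearMap.ker π₀.toLinearMap).subtype.rTensor M w ∈ Z F := by
    intro w
    induction w using TensorProduct.induction_on with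
    | zero => exact ⟨∅, fun c hc => absurd hc (Finset.notMem_empty c), by rw [map_zero]; exact Submodule.zero_mem _⟩
    | tmul c x =>
      refine ⟨{c.1}, fun d hd => by rw [Finset.mem_singleton.mp hd]; exact c.2, ?_⟩
      refine LinearMap.mem_ker.mpr ?_
      rw [LinearMap.rTensor_tmul, LinearMap.rTensor_tmul]
      refine (congrArg (· ⊗ₜ[R] x) ?_).trans (TensorProduct.zero_tmul _ x)
      exact Ideal.Quotient.eq_zero_iff_mem.mpr (Ideal.subset_span (Finset.mem_coe.mpr (Finset.mem_singleton.mpr rfl)))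
    | add a b ha hb =>
      obtain ⟨F, hF, hFa⟩ := ha
      obtain ⟨G, hG, hGb⟩ := hb
      refine ⟨F ∪ G, fun c hc => (Finset.mem_union.mp hc).elim (hF c) (hG c), ?_⟩
      rw [map_add]
      exact add_mem (hmono Finset.subset_union_left hFa) (hmono Finset.subset_union_right hGb)
  have hz : ∀ j, ∃ F : Finset P, (∀ c ∈ F, π₀ c = 0) ∧ ∑ i, MvPolynomial.X (r i) ⊗ₜ[R] m j i ∈ Z F := by
    intro j
    obtain ⟨w, hw⟩ := (rTensor_exact M (LinearMap.exact_subtype_ker_map π₀.toLinearMap) hπ₀
      (∑ i, MvPolynomial.X (r i) ⊗ₜ[R] m j i)).mp (by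
        rw [map_sum]
        refine Eq.trans (Finset.sum_congr rfl fun i _ => ?_) (h j)
        rw [LinearMap.rTensor_tmul]
        exact congrArg (· ⊗ₜ[R] m j i) (MvPolynomial.aeval_X _ _))
    obtain ⟨F, hF, hFw⟩ := key w
    exact ⟨F, hF, hw ▸ hFw⟩
  choose F hF hFz using hz
  have := Fintype.ofFinite κ
  let G := Finset.univ.biUnion F
  let s : Finset R' := G.biUnion (fun c => c.vars) ∪ Finset.univ.image r
  let Ps := MvPolynomial s R
  let p : P →ₐ[R] Ps := MvPolynomial.killCompl (f := ((↑) : s → R')) Subtype.val_injective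
  let πs : Ps →ₐ[R] R' := MvPolynomial.aeval ((↑) : s → R')
  let J : Ideal Ps := Ideal.span ((G.image p : Finset Ps) : Set Ps)
  have hJ : ∀ a ∈ J, πs a = 0 := by
    intro a ha
    induction ha using Submodule.span_induction with
    | mem x hx =>
      obtain ⟨c, hc, rfl⟩ := Finset.mem_image.mp hx
      obtain ⟨c', rfl⟩ := MvPolynomial.exists_rename_eq_of_vars_subset_range c ((↑) : s → R') Subtype.val_injective
        (fun v hv => ⟨⟨v, Finset.mem_union_left _ (Finset.mem_biUnion.mpr ⟨c, hc, hv⟩)⟩, rfl⟩)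
      obtain ⟨j, -, hcj⟩ := Finset.mem_biUnion.mp hc
      have := hF j _ hcj
      rw [show p (MvPolynomial.rename _ c') = c' from MvPolynomial.killCompl_rename_app _ c']
      rw [show π₀ (MvPolynomial.rename _ c') = _ from MvPolynomial.aeval_rename _ _ _] at this
      exact this
    | zero => simp
    | add x y _ _ hx hy => simp [hx, hy]
    | smul a x _ hx => simp [hx]
  have hs : ∀ i, r i ∈ s := fun i => Finset.mem_union_right _ (Finset.mem_image.mpr ⟨i, Finset.mem_univ i, rfl⟩)
  let ψ : P →ₐ[R] Ps ⧸ J := (Ideal.Quotient.mkₐ R J).comp p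
  refine ⟨Ps ⧸ J, inferInstance, inferInstance, Ideal.Quotient.liftₐ J πs hJ,
    fun i => ψ (MvPolynomial.X (r i)), Algebra.FinitePresentation.quotient ⟨_, rfl⟩, fun i => ?_, fun j => ?_⟩
  · show πs (p (MvPolynomial.X (r i))) = r i
    rw [show MvPolynomial.X (r i) = MvPolynomial.rename ((↑) : s → R') (MvPolynomial.X (⟨r i, hs i⟩ : s)) by simp,
      show p (MvPolynomial.rename _ _) = _ from MvPolynomial.killCompl_rename_app _ _]
    exact MvPolynomial.aeval_X _ _
  · let χ : P ⧸ Ideal.span (F j : Set P) →ₐ[R] Ps ⧸ J :=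
      Ideal.Quotient.liftₐ _ ψ (fun a ha => by
        refine (Ideal.span_le (I := RingHom.ker ψ.toRingHom)).mpr (fun c hc => ?_) ha
        exact Ideal.Quotient.eq_zero_iff_mem.mpr (Ideal.subset_span (Finset.mem_coe.mpr
          (Finset.mem_image.mpr ⟨c, Finset.mem_biUnion.mpr ⟨j, Finset.mem_univ j, hc⟩, rfl⟩))))
    have := congrArg (χ.toLinearMap.rTensor M) (hFz j : _ = _)
    rw [map_zero, map_sum, map_sum] at this
    simpa [χ] using this

/-- If the kernel of `φ` is killed after base change to `R'` at a prime, then it is killed over a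
finitely presented algebra by an element whose image avoids the prime. -/
theorem exists_fp_stage_injective {R S M' M R' S' N' N : Type u} [CommRing R] [CommRing S] [Algebra R S]
    [CommRing R'] [Algebra R R'] [CommRing S'] [Algebra R' S'] [Algebra S S'] [Algebra R S']
    [IsScalarTower R R' S'] [IsScalarTower R S S'] [hpush : Algebra.IsPushout R R' S S']
    [AddCommGroup M'] [Module S M'] [Module R M'] [IsScalarTower R S M'] [AddCommGroup M] [Module S M]
    [AddCommGroup N'] [Module S' N'] [Module S N'] [IsScalarTower S S' N'] [Module R' N']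
    [IsScalarTower R' S' N'] [AddCommGroup N] [Module S' N] [Module S N] [IsScalarTower S S' N]
    (φ : M' →ₗ[S] M) (hφ : (LinearMap.ker φ).FG) (φ' : N' →ₗ[S'] N) {β' : M' →ₗ[S] N'}
    (hβ' : IsBaseChange S' β') {β : M →ₗ[S] N} (hcomm : ∀ k, φ' (β' k) = β (φ k))
    (q : Ideal S') [q.IsPrime] (hinj : ∀ x, φ' x = 0 → ∃ a ∉ q, a • x = 0) :
    ∃ (R₂ : Type u) (_ : CommRing R₂) (_ : Algebra R R₂) (π : R₂ →ₐ[R] R') (n : ℕ) (r : Fin n → R₂)
      (s : Fin n → S), Algebra.FinitePresentation R R₂ ∧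
      (∑ i, algebraMap R' S' (π (r i)) * algebraMap S S' (s i)) ∉ q ∧
      ∀ k ∈ LinearMap.ker φ, ∑ i, r i ⊗ₜ[R] (s i • k) = 0 := by
  classical
  obtain ⟨G, hG⟩ := hφ
  have hk : ∀ k : G, φ' (β' k.1) = 0 := fun k => by
    rw [hcomm, LinearMap.mem_ker.mp (hG.le (Submodule.subset_span k.2)), map_zero]
  choose a ha hak using fun k : G => hinj _ (hk k)
  let w := ∏ k, a k
  have hw : w ∉ q := fun h => by
    obtain ⟨k, -, hk⟩ := (Ideal.IsPrime.prod_mem_iff (s := Finset.univ) (x := a)).mp h
    exact ha k hk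
  let e := Algebra.IsPushout.equiv R R' S S'
  obtain ⟨n, r', s, hrs⟩ : ∃ (n : ℕ) (r' : Fin n → R') (s : Fin n → S),
      w = ∑ i, algebraMap R' S' (r' i) * algebraMap S S' (s i) := by
    obtain ⟨z, hz⟩ := e.surjective w
    rw [← hz]
    clear hz
    induction z using TensorProduct.induction_on with
    | zero => exact ⟨0, Fin.elim0, Fin.elim0, by simp⟩
    | tmul x y => exact ⟨1, fun _ => x, fun _ => y, by simp [e, Algebra.IsPushout.equiv_tmul]⟩
    | add x y hx hy =>
      obtain ⟨n, r, s, hrs⟩ := hx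
      obtain ⟨n', r', s', hrs'⟩ := hy
      refine ⟨n + n', Fin.append r r', Fin.append s s', ?_⟩
      rw [map_add, hrs, hrs', Fin.sum_univ_add]
      simp
  have hrel : ∀ k : G, ∑ i, r' i ⊗ₜ[R] (s i • k.1) = 0 := by
    intro k
    let E := (Algebra.IsPushout.cancelBaseChange R R' S S' M').symm ≪≫ₗ hβ'.equiv.restrictScalars R'
    refine E.injective ?_
    rw [map_zero, map_sum]
    have h1 : ∀ i, E (r' i ⊗ₜ[R] (s i • k.1)) = (algebraMap R' S' (r' i) * algebraMap S S' (s i)) • β' k.1 := by
      intro i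
      simp only [E, LinearEquiv.trans_apply, Algebra.IsPushout.cancelBaseChange_symm_tmul, LinearEquiv.restrictScalars_apply,
        IsBaseChange.equiv_tmul, map_smul, mul_smul, algebraMap_smul]
    simp only [h1, ← Finset.sum_smul, ← hrs]
    show (∏ k, a k) • β' k.1 = 0
    rw [← Finset.prod_erase_mul _ a (Finset.mem_univ k), mul_smul, hak, smul_zero]
  obtain ⟨R₂, _, _, π, r₂, hfp, hπ, h0⟩ := exists_fp_relations r' (fun (k : G) i => s i • k.1) hrel
  refine ⟨R₂, inferInstance, inferInstance, π, n, r₂, s, hfp, by simpa only [hπ, ← hrs] using hw, ?_⟩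
  intro k hk
  rw [← hG] at hk
  have key : ∀ k ∈ Submodule.span S (G : Set M'), ∀ t : S, ∑ i, r₂ i ⊗ₜ[R] (s i • t • k) = 0 := by
    intro k hk
    induction hk using Submodule.span_induction with
    | mem z hz =>
      intro t
      have := congrArg (((LinearMap.lsmul S M' t).restrictScalars R).lTensor R₂) (h0 ⟨z, hz⟩)
      rw [map_sum, map_zero] at this
      simpa [smul_comm t] using this
    | zero => simp
    | add x y _ _ hx hy => intro t; simp [smul_add, tmul_add, Finset.sum_add_distrib, hx t, hy t]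
    | smul c x _ hx => intro t; simpa [smul_smul] using hx (t * c)
  simpa using key k hk 1

/-- The kernel after base change comes from the kernel when the cokernel is flat. -/
theorem mem_range_lTensor_ker {R S M' M Q : Type u} [CommRing R] [CommRing S] [Algebra R S]
    [AddCommGroup M'] [Module S M'] [Module R M'] [IsScalarTower R S M'] [AddCommGroup M] [Module S M]
    [Module R M] [IsScalarTower R S M] [AddCommGroup Q] [Module S Q] [Module R Q] [IsScalarTower R S Q]
    [Module.Flat R Q] (φ : M' →ₗ[S] M) (π : M →ₗ[S] Q) (hπ : Function.Surjective π)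
    (he : Function.Exact φ π) (C : Type u) [AddCommGroup C] [Module R C] (z : C ⊗[R] M')
    (hz : (φ.restrictScalars R).lTensor C z = 0) :
    z ∈ LinearMap.range (((LinearMap.ker φ).subtype.restrictScalars R).lTensor C) := by
  let ι : LinearMap.range φ →ₗ[R] M := (LinearMap.range φ).subtype.restrictScalars R
  have hι : Function.Injective (ι.lTensor C) := by
    refine lTensor_injective_of_presentation (Finsupp.linearCombination R (id : C → C))
      (linearCombination_id_surjective' (R := R) (M := C)) (g := π.restrictScalars R)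
      (Subtype.val_injective : Function.Injective ι) (fun m => ?_) hπ
      (Module.Flat.lTensor_preserves_injective_linearMap _ Subtype.val_injective)
    show π m = 0 ↔ m ∈ Set.range ι
    rw [he m]
    exact ⟨fun ⟨x, hx⟩ => ⟨⟨m, x, hx⟩, rfl⟩, fun ⟨⟨_, x, hx⟩, e⟩ => ⟨x, hx.trans e⟩⟩
  have h1 : (φ.rangeRestrict.restrictScalars R).lTensor C z = 0 := hι (by
    rw [map_zero, ← hz, ← LinearMap.lTensor_comp_apply]
    rfl)
  refine (lTensor_exact C (f := (LinearMap.ker φ).subtype.restrictScalars R) (fun m => ?_)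
    φ.surjective_rangeRestrict z).mp h1
  refine ⟨fun h => ⟨⟨m, LinearMap.mem_ker.mpr (congrArg Subtype.val h)⟩, rfl⟩, ?_⟩
  rintro ⟨⟨x, hx⟩, rfl⟩
  exact Subtype.ext hx

end Groth.FlatMorOne
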