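import Groth.Agent.FlatMorOne.FlatBaseChangeScheme
import Groth.Agent.FlatMorOne.FlatLocusInjective
import Groth.Agent.FlatMorOne.FlatStageRing
import Groth.Agent.LocFree.ExtPullback

/-! Injectivity with flat cokernel at a point: invariance and base change. -/

universe u

open CategoryTheory CategoryTheory.Limits AlgebraicGeometry TensorProduct Groth.QCohMod Groth.Flatmor4

namespace Groth.FlatMorOne

variable {X S : Scheme.{u}} {F F' G G' : X.Modules}

/-- The stalk map is injective and the cokernel is flat over the base at the point. -/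
def GoodAt (f : X ⟶ S) (u : F' ⟶ F) (x : X) : Prop :=
  Function.Injective ((stalk x).map u) ∧ FlatMod.IsFlatOverAt f (cokernel u) x

theorem isFlatOverAt_congr (f : X ⟶ S) (e : F ≅ G) (x : X) :
    FlatMod.IsFlatOverAt f F x ↔ FlatMod.IsFlatOverAt f G x := by
  letI := FlatMod.moduleStalkOver f F x
  letI := FlatMod.moduleStalkOver f G x
  refine Module.Flat.equiv_iff
    ({ ((stalk x).mapIso e).addCommGroupIsoToAddEquiv with
       map_smul' := fun r t => ?_ } : F.presheaf.stalk x ≃ₗ[S.presheaf.stalk (f x)] G.presheaf.stalk x)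
  exact Groth.OmegaSheaf.stalk_map_smul e.hom x _ t

theorem goodAt_congr (f : X ⟶ S) {u : F' ⟶ F} {v : G' ⟶ G} (e' : F' ≅ G') (e : F ≅ G)
    (h : u ≫ e.hom = e'.hom ≫ v) (x : X) : GoodAt f u x ↔ GoodAt f v x := by
  refine and_congr ?_ (isFlatOverAt_congr f (cokernel.mapIso u v e' e h) x)
  have h' : v = e'.inv ≫ u ≫ e.hom := by rw [h, Iso.inv_hom_id_assoc]
  have h1 := (ConcreteCategory.bijective_of_isIso ((stalk x).map e'.inv))
  have h2 := (ConcreteCategory.bijective_of_isIso ((stalk x).map e.hom))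
  rw [h', Functor.map_comp, Functor.map_comp, ConcreteCategory.coe_comp, ConcreteCategory.coe_comp,
    Function.Injective.of_comp_iff' _ h1, h2.1.of_comp_iff]

/-- Flatness over an open subscheme of the base is flatness over the base. -/
theorem isFlatOverAt_comp_openImmersion {T : Scheme.{u}} (p : X ⟶ T) (j : T ⟶ S) [IsOpenImmersion j]
    (M : X.Modules) (x : X) :
    FlatMod.IsFlatOverAt (p ≫ j) M x ↔ FlatMod.IsFlatOverAt p M x := by
  letI := FlatMod.moduleStalkOver p M x
  letI : Module (S.presheaf.stalk (j (p x))) (M.presheaf.stalk x) :=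
    FlatMod.moduleStalkOver (p ≫ j) M x
  let σ := (j.stalkMap (p x)).hom
  have hσ : Function.Bijective σ := ConcreteCategory.bijective_of_isIso (j.stalkMap (p x))
  letI := σ.toAlgebra
  have key : ∀ (r : S.presheaf.stalk (j (p x))) (t : M.presheaf.stalk x), r • t = σ r • t := by
    intro r t
    change (p ≫ j).stalkMap x r • t = p.stalkMap x (j.stalkMap (p x) r) • t
    rw [Scheme.Hom.stalkMap_comp]
    rfl
  haveI : IsScalarTower (S.presheaf.stalk (j (p x))) (T.presheaf.stalk (p x)) (M.presheaf.stalk x) :=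
    .of_algebraMap_smul fun r t => (key r t).symm
  constructor
  · intro h
    have hfl : Module.Flat (S.presheaf.stalk (j (p x))) (M.presheaf.stalk x) := h
    haveI : IsLocalization (⊥ : Submonoid (S.presheaf.stalk (j (p x)))) (S.presheaf.stalk (j (p x))) :=
      IsLocalization.self bot_le
    have hL : IsLocalization (⊥ : Submonoid (S.presheaf.stalk (j (p x)))) (T.presheaf.stalk (p x)) :=
      IsLocalization.isLocalization_of_algEquiv ⊥
        (AlgEquiv.ofBijective (Algebra.ofId (S.presheaf.stalk (j (p x))) (T.presheaf.stalk (p x))) hσ)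
    exact (Module.flat_iff_of_isLocalization (T.presheaf.stalk (p x)) (⊥ : Submonoid _) (M.presheaf.stalk x)).mpr hfl
  · intro h
    have : Module.Flat (T.presheaf.stalk (p x)) (M.presheaf.stalk x) := h
    have : Module.Flat (S.presheaf.stalk (j (p x))) (T.presheaf.stalk (p x)) :=
      RingHom.Flat.of_bijective hσ
    exact Module.Flat.trans (S.presheaf.stalk (j (p x))) (T.presheaf.stalk (p x)) (M.presheaf.stalk x)

theorem goodAt_comp_openImmersion {T : Scheme.{u}} (p : X ⟶ T) (j : T ⟶ S) [IsOpenImmersion j]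
    (u : F' ⟶ F) (x : X) : GoodAt (p ≫ j) u x ↔ GoodAt p u x :=
  and_congr Iff.rfl (isFlatOverAt_comp_openImmersion p j _ x)

section OpenImmersion

variable {P : Scheme.{u}} (r : P ⟶ X) [IsOpenImmersion r]

theorem pullGerm_bijective (M : X.Modules) (x : P) :
    Function.Bijective (pullGerm r M x) := by
  letI := stalkAlg r x
  have hσ : Function.Bijective (algebraMap (X.presheaf.stalk (r x)) (P.presheaf.stalk x)) :=
    ConcreteCategory.bijective_of_isIso (r.stalkMap x)
  let e := AlgEquiv.ofBijective (Algebra.ofId (X.presheaf.stalk (r x)) (P.presheaf.stalk x)) hσ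
  let E : M.presheaf.stalk (r x) ≃ₗ[X.presheaf.stalk (r x)]
      P.presheaf.stalk x ⊗[X.presheaf.stalk (r x)] M.presheaf.stalk (r x) :=
    (TensorProduct.lid _ _).symm ≪≫ₗ LinearEquiv.rTensor _ e.toLinearEquiv
  have hE : ∀ t, E t = 1 ⊗ₜ t := fun t => by simp [E, e]
  have : (pullGerm r M x : M.presheaf.stalk (r x) → _) = fun t => pullStalkHom r M x (E t) := funext fun t => by
    rw [hE, pullStalkHom_tmul, one_smul]
  rw [this]
  exact (pullStalkHom_bijective r M x).comp E.bijective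

theorem injective_stalk_pullback_iff (u : F' ⟶ F) (x : P) :
    Function.Injective ((stalk x).map ((Scheme.Modules.pullback r).map u)) ↔
      Function.Injective ((stalk (r x)).map u) := by
  show Function.Injective (Groth.OmegaSheaf.stalkApp _ x) ↔ Function.Injective (Groth.OmegaSheaf.stalkApp u (r x))
  have key : ∀ t, Groth.OmegaSheaf.stalkApp ((Scheme.Modules.pullback r).map u) x (pullGerm r F' x t) =
      pullGerm r F x (Groth.OmegaSheaf.stalkApp u (r x) t) := by
    intro t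
    obtain ⟨U, hx, m, rfl⟩ := exists_germ F' (r x) t
    rw [pullGerm_germ, Groth.OmegaSheaf.stalkApp_germ, Groth.OmegaSheaf.stalkApp_germ, pullGerm_germ,
      Groth.PicAux.pullSec_map]
  constructor
  · intro h a b hab
    exact (pullGerm_bijective r F' x).1 (h (by rw [key, key, hab]))
  · intro h a b hab
    obtain ⟨a, rfl⟩ := (pullGerm_bijective r F' x).2 a
    obtain ⟨b, rfl⟩ := (pullGerm_bijective r F' x).2 b
    rw [key, key] at hab
    rw [h ((pullGerm_bijective r F x).1 hab)]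

theorem goodAt_pullback_openImmersion [F.IsQuasicoherent] [F'.IsQuasicoherent] (f : X ⟶ S) (u : F' ⟶ F) (x : P) :
    GoodAt (r ≫ f) ((Scheme.Modules.pullback r).map u) x ↔ GoodAt f u (r x) := by
  refine and_congr (injective_stalk_pullback_iff r u x) ?_
  rw [← isFlatOverAt_congr (r ≫ f) (PreservesCokernel.iso (Scheme.Modules.pullback r) u) x]
  exact (isFlatOverAt_pullback_iff r f (cokernel u) x
    (RingHom.Flat.of_bijective (ConcreteCategory.bijective_of_isIso (r.stalkMap x)))).symm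

end OpenImmersion

theorem goodAt_pullback_comp {P Q : Scheme.{u}} (p : Q ⟶ S) (a : Q ⟶ P) (b : P ⟶ X) (u : F' ⟶ F) (x : Q) :
    GoodAt p ((Scheme.Modules.pullback a).map ((Scheme.Modules.pullback b).map u)) x ↔
      GoodAt p ((Scheme.Modules.pullback (a ≫ b)).map u) x :=
  goodAt_congr p ((Scheme.Modules.pullbackComp a b).app F') ((Scheme.Modules.pullbackComp a b).app F)
    ((Scheme.Modules.pullbackComp a b).hom.naturality u) x

/-- The chart of a cartesian square over prescribed affine opens. -/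
theorem exists_chart_of {P T : Scheme.{u}} {f : X ⟶ S} {j : T ⟶ S} {p : P ⟶ T} {q : P ⟶ X}
    (H : IsPullback q p f j) {V : S.Opens} (hV : IsAffineOpen V) {U : X.Opens} (hU : IsAffineOpen U)
    (eU : U ≤ f ⁻¹ᵁ V) {T' : T.Opens} (hT : IsAffineOpen T') (eT : T' ≤ j ⁻¹ᵁ V) :
    IsAffineOpen (q ⁻¹ᵁ U ⊓ p ⁻¹ᵁ T') ∧
      IsPushout (f.appLE V U eU) (j.appLE V T' eT) (q.appLE U (q ⁻¹ᵁ U ⊓ p ⁻¹ᵁ T') inf_le_left)
        (p.appLE T' (q ⁻¹ᵁ U ⊓ p ⁻¹ᵁ T') inf_le_right) := by
  have : IsAffine _ := hV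
  have : IsAffine _ := hT
  have : IsAffine _ := hU
  exact ⟨.of_isIso (Scheme.Hom.isPullback_resLE H eT eU (rfl : q ⁻¹ᵁ U ⊓ p ⁻¹ᵁ T' = _)).isoPullback.hom,
    (isIso_pushoutSection_iff H eT eU rfl).mp (isIso_pushoutSection_of_isAffineOpen H eT eU rfl hV hT hU)⟩

theorem appₗ_pullback {P : Scheme.{u}} (q : P ⟶ X) (u : F' ⟶ F) {U : X.Opens} {W : P.Opens}
    (e : W ≤ q ⁻¹ᵁ U) (m : Γ(F', U)) :
    appₗ ((Scheme.Modules.pullback q).map u) W (Groth.LocFree.pullSecₗ q F' e m) =
      Groth.LocFree.pullSecₗ q F e (appₗ u U m) := by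
  show ((Scheme.Modules.pullback q).map u).app W (res _ e (Groth.PicAux.pullSec q F' m)) =
    res _ e (Groth.PicAux.pullSec q F (u.app U m))
  rw [← Groth.PicAux.pullSec_map, res_app]

/-- Goodness is stable under base change. -/
theorem goodAt_baseChange {P T : Scheme.{u}} {f : X ⟶ S} {j : T ⟶ S} {p : P ⟶ T} {q : P ⟶ X}
    (H : IsPullback q p f j) [LocallyOfFinitePresentation f] [F.IsQuasicoherent] [F'.IsQuasicoherent]
    (hF : CohB1.IsFP F) (hF' : CohB1.IsFP F') (u : F' ⟶ F) (x : P) (hx : GoodAt f u (q x)) :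
    GoodAt p ((Scheme.Modules.pullback q).map u) x := by
  refine ⟨?_, (isFlatOverAt_congr p (PreservesCokernel.iso (Scheme.Modules.pullback q) u) x).mp
    (isFlatOverAt_baseChange H (cokernel u) x hx.2)⟩
  let O : X.Opens := ⟨_, isOpen_injective_and_flat_coker u f hF hF'⟩
  obtain ⟨_, ⟨V : S.Opens, hV, rfl⟩, hxV, -⟩ :=
    S.isBasis_affineOpens.exists_subset_of_mem_open (Set.mem_univ (f (q x))) isOpen_univ
  obtain ⟨_, ⟨U : X.Opens, hU, rfl⟩, hxU, hle⟩ :=
    X.isBasis_affineOpens.exists_subset_of_mem_open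
      (show q x ∈ f ⁻¹ᵁ V ⊓ O from ⟨hxV, hx⟩) (f ⁻¹ᵁ V ⊓ O).2
  have eU : U ≤ f ⁻¹ᵁ V := fun y hy => (hle hy).1
  obtain ⟨_, ⟨T' : T.Opens, hT, rfl⟩, hxT, eT⟩ :=
    T.isBasis_affineOpens.exists_subset_of_mem_open (show p x ∈ j ⁻¹ᵁ V by
      show j (p x) ∈ V
      rw [← Scheme.Hom.comp_apply, ← H.w, Scheme.Hom.comp_apply]; exact hxV) (j ⁻¹ᵁ V).2
  obtain ⟨hW, hpo⟩ := exists_chart_of H hV hU eU hT eT
  let W := q ⁻¹ᵁ U ⊓ p ⁻¹ᵁ T'
  letI := (f.appLE V U eU).hom.toAlgebra
  letI := (j.appLE V T' eT).hom.toAlgebra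
  letI := sectionsAlg q (inf_le_left : W ≤ q ⁻¹ᵁ U)
  letI := (p.appLE T' W inf_le_right).hom.toAlgebra
  letI : Algebra Γ(S, V) Γ(P, W) := ((q.appLE U W inf_le_left).hom.comp (f.appLE V U eU).hom).toAlgebra
  haveI : IsScalarTower Γ(S, V) Γ(X, U) Γ(P, W) := .of_algebraMap_eq' rfl
  haveI : IsScalarTower Γ(S, V) Γ(T, T') Γ(P, W) := .of_algebraMap_eq fun a => congr($(hpo.w) a)
  haveI : Algebra.IsPushout Γ(S, V) Γ(X, U) Γ(T, T') Γ(P, W) := CommRingCat.isPushout_iff_isPushout.mp hpo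
  haveI : Algebra.IsPushout Γ(S, V) Γ(T, T') Γ(X, U) Γ(P, W) := .symm inferInstance
  letI := sectionModule f F eU
  letI := sectionModule f F' eU
  letI := sectionModule f (cokernel u) eU
  haveI : IsScalarTower Γ(S, V) Γ(X, U) Γ(F, U) := .of_algebraMap_smul fun _ _ => rfl
  haveI : IsScalarTower Γ(S, V) Γ(X, U) Γ(F', U) := .of_algebraMap_smul fun _ _ => rfl
  haveI : IsScalarTower Γ(S, V) Γ(X, U) Γ((cokernel u : X.Modules), U) := .of_algebraMap_smul fun _ _ => rfl
  have : Module.Flat Γ(S, V) Γ((cokernel u : X.Modules), U) :=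
    (flat_sections_iff f (cokernel u) hU hV eU).mpr fun y hy => (hle hy).2.2
  let φ := appₗ u U
  have hker : LinearMap.ker φ = ⊥ := by
    rw [Submodule.eq_bot_iff]
    intro m hm
    have htop : (⊤ : Ideal Γ(X, U)) ≤ LinearMap.ker (LinearMap.toSpanSingleton Γ(X, U) _ m) := by
      by_contra hne
      obtain ⟨M, hM, hle'⟩ := Ideal.exists_le_maximal _ fun h => hne h.ge
      obtain ⟨z, hz⟩ : ∃ z : U, hU.primeIdealOf z = ⟨M, hM.isPrime⟩ :=
        ⟨⟨hU.fromSpec ⟨M, hM.isPrime⟩, (hU.range_fromSpec.le (Set.mem_range_self _) : _ ∈ U)⟩,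
          hU.fromSpec.isOpenEmbedding.injective (hU.fromSpec_primeIdealOf _)⟩
      obtain ⟨a, ha, ham⟩ := (injective_stalk_iff u hU z.1 z.2).mp (hle z.2).2.1 m hm
      rw [mem_basicOpen_iff_notMem_primeIdealOf hU a z.1 z.2, hz] at ha
      exact ha (hle' ham)
    simpa using htop (Submodule.mem_top (x := (1 : Γ(X, U))))
  have hxW : x ∈ W := ⟨hxU, hxT⟩
  refine (injective_stalk_iff _ hW x hxW).mpr fun m hm => ⟨1, ?_, ?_⟩
  · rw [Scheme.mem_basicOpen P _ x hxW, map_one]
    exact isUnit_one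
  rw [one_smul]
  let E := fun (M : X.Modules) [M.IsQuasicoherent] =>
    pullSecEquiv q M (inf_le_left : W ≤ q ⁻¹ᵁ U) hU hW
  obtain ⟨w, hw⟩ := (E F').surjective m
  obtain ⟨z, rfl⟩ := (Algebra.IsPushout.cancelBaseChange Γ(S, V) Γ(T, T') Γ(X, U) Γ(P, W) Γ(F', U)).symm.surjective w
  have key : ∀ z : Γ(T, T') ⊗[Γ(S, V)] Γ(F', U),
      appₗ ((Scheme.Modules.pullback q).map u) W (E F'
        ((Algebra.IsPushout.cancelBaseChange Γ(S, V) Γ(T, T') Γ(X, U) Γ(P, W) Γ(F', U)).symm z)) =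
      E F ((Algebra.IsPushout.cancelBaseChange Γ(S, V) Γ(T, T') Γ(X, U) Γ(P, W) Γ(F, U)).symm
        ((φ.restrictScalars Γ(S, V)).lTensor Γ(T, T') z)) := by
    intro z
    induction z using TensorProduct.induction_on with
    | zero => simp
    | tmul c k =>
      simp only [LinearMap.lTensor_tmul, LinearMap.restrictScalars_apply,
        Algebra.IsPushout.cancelBaseChange_symm_tmul]
      show appₗ ((Scheme.Modules.pullback q).map u) W (algebraMap Γ(T, T') Γ(P, W) c •
          Groth.LocFree.pullSecₗ q F' (inf_le_left : W ≤ q ⁻¹ᵁ U) k) =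
        algebraMap Γ(T, T') Γ(P, W) c • Groth.LocFree.pullSecₗ q F (inf_le_left : W ≤ q ⁻¹ᵁ U) (φ k)
      rw [map_smul, appₗ_pullback]
    | add a b ha hb => simp only [map_add, ha, hb]
  have h0 : (φ.restrictScalars Γ(S, V)).lTensor Γ(T, T') z = 0 := by
    rw [← hw, LinearMap.mem_ker, key] at hm
    simpa using hm
  obtain ⟨w', hw'⟩ := mem_range_lTensor_ker φ (appₗ (cokernel.π u) U) (app_surjective_of_epi _ hU)
    (exact_appₗ_cokernel u hU) Γ(T, T') z h0
  have hz : z = 0 := by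
    rw [← hw']
    clear hw'
    induction w' using TensorProduct.induction_on with
    | zero => simp
    | tmul c k =>
      rw [LinearMap.lTensor_tmul]
      show c ⊗ₜ[Γ(S, V)] k.1 = 0
      rw [show k.1 = 0 from (Submodule.eq_bot_iff _).mp hker _ k.2, tmul_zero]
    | add a b ha hb => rw [map_add, ha, hb, add_zero]
  rw [← hw, hz]
  simp

end Groth.FlatMorOne
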