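import Groth.Agent.FlatMorOne.FlatLocusCriterion
import Groth.Agent.GenericFree.Basic
import Mathlib.RingTheory.Spectrum.Prime.Noetherian
import Mathlib.RingTheory.FiniteType

/-! Openness of the flat locus over a Noetherian ring. -/

universe u

open TensorProduct

namespace Groth.FlatMorOne

/-- Generic freeness of `M/pM` over `R/p`, lifted to `R`. -/
theorem exists_free_mod_prime {R : Type u} [CommRing R] (S : Type u) [CommRing S] [Algebra R S]
    [Algebra.FiniteType R S] (M : Type u) [AddCommGroup M] [Module R M] [Module S M]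
    [IsScalarTower R S M] [Module.Finite S M] (p : Ideal R) [p.IsPrime] :
    ∃ g : R, g ∉ p ∧ ∃ (ι : Type u) (Ψ : (ι →₀ R) →ₗ[R] M),
      (∀ x, Ψ x ∈ p • (⊤ : Submodule R M) → ∃ k : ℕ, g ^ k • x ∈ p • (⊤ : Submodule R (ι →₀ R))) ∧
      ∀ m, ∃ k : ℕ, g ^ k • m ∈ LinearMap.range Ψ ⊔ p • ⊤ := by
  classical
  let R' := R ⧸ p
  let S' := R' ⊗[R] S
  letI : Algebra S S' := Algebra.TensorProduct.rightAlgebra
  have : Algebra.IsPushout R R' S S' := TensorProduct.isPushout
  let M' := S' ⊗[S] M
  let e : M' ≃ₗ[R'] R' ⊗[R] M := Algebra.IsPushout.cancelBaseChange R R' S S' M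
  obtain ⟨f, hf, ι, φ, hφ, hφs⟩ := GenericFree.gf_of_finiteType (R := R') S' M'
  let q : M →ₗ[R] R' ⊗[R] M := TensorProduct.mk R R' M 1
  have hq : Function.Surjective q := TensorProduct.mk_surjective R M R' Ideal.Quotient.mk_surjective
  have hqker : ∀ m, q m = 0 ↔ m ∈ p • (⊤ : Submodule R M) := by
    intro m
    rw [← Submodule.Quotient.mk_eq_zero,
      ← (TensorProduct.quotTensorEquivQuotSMul M p).map_eq_zero_iff]
    have : TensorProduct.quotTensorEquivQuotSMul M p (q m) = Submodule.Quotient.mk m := by
      simp [q, R', ← Ideal.Quotient.mk_algebraMap]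
    rw [this]
  choose b hb using fun i => hq (e (φ (Finsupp.single i 1)))
  obtain ⟨g, rfl⟩ := Ideal.Quotient.mk_surjective f
  let Ψ : (ι →₀ R) →ₗ[R] M := Finsupp.linearCombination R b
  have hΨ : ∀ x : ι →₀ R, q (Ψ x) = e (φ (Finsupp.mapRange (Ideal.Quotient.mk p) (map_zero _) x)) := by
    intro x
    induction x using Finsupp.induction_linear with
    | zero => simp
    | add x y hx hy =>
      rw [map_add, map_add, hx, hy, Finsupp.mapRange_add (map_add _), map_add, map_add]
    | single i r =>
      rw [Finsupp.mapRange_single, Finsupp.linearCombination_single, map_smul, hb,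
        show Finsupp.single i (Ideal.Quotient.mk p r) = (Ideal.Quotient.mk p r) • Finsupp.single i (1 : R') by simp,
        map_smul, map_smul]
      exact (algebraMap_smul R' r _).symm
  refine ⟨g, fun h => hf (Ideal.Quotient.eq_zero_iff_mem.mpr h), ι, Ψ, fun x hx => ⟨0, ?_⟩, fun m => ?_⟩
  · rw [← hqker, hΨ, e.map_eq_zero_iff, ← map_zero φ] at hx
    have hx' := hφ hx
    rw [pow_zero, one_smul, ← Finsupp.sum_single x]
    refine Submodule.sum_mem _ fun i _ => ?_
    have hxi : x i ∈ p := Ideal.Quotient.eq_zero_iff_mem.mp (by simpa using DFunLike.congr_fun hx' i)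
    rw [show Finsupp.single i (x i) = x i • Finsupp.single i (1 : R) by simp]
    exact Submodule.smul_mem_smul hxi trivial
  · obtain ⟨k, y, hy⟩ := hφs (e.symm (q m))
    refine ⟨k, ?_⟩
    obtain ⟨x, rfl⟩ := Finsupp.mapRange_surjective (α := ι) (Ideal.Quotient.mk p) (map_zero _) Ideal.Quotient.mk_surjective y
    have : q (g ^ k • m - Ψ x) = 0 := by
      rw [map_sub, map_smul, hΨ, hy, map_smul, LinearEquiv.apply_symm_apply, sub_eq_zero,
        ← map_pow]
      exact (algebraMap_smul R' (g ^ k) _).symm
    rw [show g ^ k • m = Ψ x + (g ^ k • m - Ψ x) by abel]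
    exact Submodule.add_mem_sup ⟨x, rfl⟩ ((hqker _).mp this)

/-- A set of primes of a Noetherian ring which is stable under generization and contains a
neighbourhood in `V(q)` of each of its points `q` is open. -/
theorem isOpen_of_nagata {S : Type u} [CommRing S] [IsNoetherianRing S]
    (U : Set (PrimeSpectrum S)) (hgen : ∀ a b : PrimeSpectrum S, a.asIdeal ≤ b.asIdeal → b ∈ U → a ∈ U)
    (hnhd : ∀ a ∈ U, ∃ g ∉ a.asIdeal, ∀ b : PrimeSpectrum S, a.asIdeal ≤ b.asIdeal → g ∉ b.asIdeal → b ∈ U) :
    IsOpen U := by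
  classical
  rw [← isClosed_compl_iff, ← closure_subset_iff_isClosed,
    ← PrimeSpectrum.zeroLocus_vanishingIdeal_eq_closure]
  intro b hb hbU
  set I := PrimeSpectrum.vanishingIdeal Uᶜ
  obtain ⟨q, hq, hqb⟩ := Ideal.exists_minimalPrimes_le (hb : I ≤ b.asIdeal)
  have hqU : (⟨q, hq.1.1⟩ : PrimeSpectrum S) ∈ U := hgen _ b hqb hbU
  obtain ⟨g, hg, hgU⟩ := hnhd _ hqU
  have hfin : I.minimalPrimes.Finite := I.finite_minimalPrimes_of_isNoetherianRing S
  have hex : ∀ P ∈ hfin.toFinset.erase q, ∃ h ∈ P, h ∉ q := by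
    intro P hP
    obtain ⟨hne, hPm⟩ := Finset.mem_erase.mp hP
    rw [hfin.mem_toFinset] at hPm
    exact SetLike.not_le_iff_exists.mp fun hle => hne (le_antisymm hle (hq.2 hPm.1 hle))
  choose! h hh hhq using hex
  have hprod : (∏ P ∈ hfin.toFinset.erase q, h P) ∉ q := by
    intro hmem
    obtain ⟨P, hP, hPq⟩ := (hq.1.1.prod_mem_iff).mp hmem
    exact hhq P hP hPq
  have hmem : g * ∏ P ∈ hfin.toFinset.erase q, h P ∈ I := by
    rw [PrimeSpectrum.mem_vanishingIdeal]
    intro c hc
    have hIc : I ≤ c.asIdeal := fun a ha => (PrimeSpectrum.mem_vanishingIdeal _ _).mp ha c hc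
    obtain ⟨P, hP, hPc⟩ := Ideal.exists_minimalPrimes_le hIc
    by_cases hPq : P = q
    · refine Ideal.mul_mem_right _ _ ?_
      by_contra hgc
      exact hc (hgU c (hPq ▸ hPc) hgc)
    · refine Ideal.mul_mem_left _ _ ?_
      have hP' : P ∈ hfin.toFinset.erase q := Finset.mem_erase.mpr ⟨hPq, hfin.mem_toFinset.mpr hP⟩
      rw [← Finset.mul_prod_erase _ _ hP']
      exact Ideal.mul_mem_right _ _ (hPc (hh P hP'))
  rcases hq.1.1.mem_or_mem (hq.1.2 hmem) with h' | h'
  · exact hg h'
  · exact hprod h'

variable {R : Type u} [CommRing R] {S : Type u} [CommRing S] [Algebra R S]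
  {M : Type u} [AddCommGroup M] [Module R M] [Module S M] [IsScalarTower R S M]

/-- Flatness of `M_q` passes to generizations of `q`. -/
theorem flat_localized_of_le {q q' : Ideal S} [q.IsPrime] [q'.IsPrime] (h : q' ≤ q)
    [Module.Flat R (LocalizedModule q.primeCompl M)] : Module.Flat R (LocalizedModule q'.primeCompl M) := by
  let A := LocalizedModule q.primeCompl M
  have : Module.Flat R (LocalizedModule q'.primeCompl A) := by
    rw [Module.Flat.iff_lTensor_preserves_injective_linearMap]
    intro X Y _ _ _ _ f hf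
    exact lTensor_localizedModule_injective _ (Module.Flat.lTensor_preserves_injective_linearMap f hf)
  let g := (LocalizedModule.mkLinearMap q'.primeCompl A) ∘ₗ (LocalizedModule.mkLinearMap q.primeCompl M)
  have : IsLocalizedModule q'.primeCompl g := by
    have hle : q.primeCompl ≤ q'.primeCompl := fun s hs hs' => hs (h hs')
    constructor
    · exact IsLocalizedModule.map_units (LocalizedModule.mkLinearMap q'.primeCompl A)
    · intro x
      obtain ⟨⟨a, t⟩, hat⟩ := IsLocalizedModule.surj q'.primeCompl (LocalizedModule.mkLinearMap q'.primeCompl A) x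
      obtain ⟨⟨m, r⟩, hmr⟩ := IsLocalizedModule.surj q.primeCompl (LocalizedModule.mkLinearMap q.primeCompl M) a
      refine ⟨⟨m, ⟨r.1, hle r.2⟩ * t⟩, ?_⟩
      simp only [Submonoid.smul_def, Submonoid.coe_mul] at hat hmr ⊢
      rw [mul_smul, hat, ← map_smul, hmr]
      rfl
    · intro m m' hmm
      obtain ⟨t, ht⟩ := IsLocalizedModule.exists_of_eq (S := q'.primeCompl)
        (f := LocalizedModule.mkLinearMap q'.primeCompl A) hmm
      simp only [Submonoid.smul_def, ← map_smul] at ht
      obtain ⟨r, hr⟩ := IsLocalizedModule.exists_of_eq (S := q.primeCompl)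
        (f := LocalizedModule.mkLinearMap q.primeCompl M) ht
      refine ⟨⟨r.1, hle r.2⟩ * t, ?_⟩
      simpa [Submonoid.smul_def, mul_smul] using hr
  exact Module.Flat.of_linearEquiv
    ((IsLocalizedModule.iso q'.primeCompl g).restrictScalars R)

/-- For Noetherian base, the flat locus of a finite module over a finite type algebra is open. -/
theorem isOpen_flatLocus_of_isNoetherianRing [IsNoetherianRing R] [Algebra.FiniteType R S]
    [Module.Finite S M] :
    IsOpen {q : PrimeSpectrum S | Module.Flat R (LocalizedModule q.asIdeal.primeCompl M)} := by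
  have : IsNoetherianRing S := Algebra.FiniteType.isNoetherianRing R S
  refine isOpen_of_nagata _ (fun a b hab hb => ?_) fun a ha => ?_
  · have : Module.Flat R (LocalizedModule b.asIdeal.primeCompl M) := hb
    exact flat_localized_of_le hab
  · let p := a.asIdeal.comap (algebraMap R S)
    obtain ⟨g, hg, ι, Ψ, hinj, hsurj⟩ := exists_free_mod_prime S M p
    have : Module.Finite R p := Module.Finite.iff_fg.mpr (IsNoetherian.noetherian p)
    have := finite_tensor_left (R := R) (S := S) (M := M) (J := p)
    let F : M ⊗[R] p →ₗ[S] M ⊗[R] R := AlgebraTensorModule.lTensor S M p.subtype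
    have hfg : (LinearMap.ker F).FG := IsNoetherian.noetherian _
    obtain ⟨t, ht⟩ := hfg
    have hkill : ∀ z ∈ t, ∃ s ∉ a.asIdeal, s • z = 0 := by
      intro z hz
      have hz0 : F z = 0 := LinearMap.mem_ker.mp (ht ▸ Submodule.subset_span hz)
      have : Module.Flat R (LocalizedModule a.asIdeal.primeCompl M) := ha
      have h0 : AlgebraTensorModule.rTensor R p
          (LocalizedModule.mkLinearMap a.asIdeal.primeCompl M) z = 0 := by
        refine Module.Flat.lTensor_preserves_injective_linearMap p.subtype Subtype.val_injective ?_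
        rw [map_zero, ← LinearMap.map_zero (AlgebraTensorModule.rTensor R R
          (LocalizedModule.mkLinearMap a.asIdeal.primeCompl M)), ← hz0]
        clear hz hz0
        induction z with
        | zero => simp
        | tmul m x => simp [F]
        | add x y hx hy => simp only [map_add, hx, hy]
      obtain ⟨⟨s, hs⟩, hsz⟩ := (IsLocalizedModule.eq_zero_iff a.asIdeal.primeCompl
        (AlgebraTensorModule.rTensor R p (LocalizedModule.mkLinearMap a.asIdeal.primeCompl M))).mp h0
      exact ⟨s, hs, hsz⟩
    choose! s hs hsz using hkill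
    refine ⟨algebraMap R S g * ∏ z ∈ t, s z, ?_, fun b hab hb => ?_⟩
    · intro hmem
      rcases a.isPrime.mem_or_mem hmem with h | h
      · exact hg h
      · obtain ⟨z, hz, hzs⟩ := a.isPrime.prod_mem_iff.mp h
        exact hs z hz hzs
    · refine flat_localizedModule_of_killed p b.asIdeal
        ((Ideal.map_le_iff_le_comap.mpr le_rfl).trans hab) (fun z hz => ?_) (fun J z hz => ?_)
      · refine ⟨∏ w ∈ t, s w, fun h => hb (Ideal.mul_mem_left _ _ h), ?_⟩
        have hzmem : z ∈ Submodule.span S (t : Set (M ⊗[R] p)) := ht ▸ LinearMap.mem_ker.mpr hz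
        clear hz
        induction hzmem using Submodule.span_induction with
        | mem w hw =>
          classical
          rw [← Finset.prod_erase_mul _ _ hw, mul_smul, hsz w hw, smul_zero]
        | zero => rw [smul_zero]
        | add x y _ _ hx hy => rw [smul_add, hx, hy, add_zero]
        | smul c x _ hx => rw [smul_comm, hx, smul_zero]
      · obtain ⟨k, hk⟩ := exists_pow_smul_eq_zero_of_free_mod p g Ψ hinj hsurj J z hz
        refine ⟨algebraMap R S (g ^ k), fun h => hb (Ideal.mul_mem_right _ _ ?_), ?_⟩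
        · rw [map_pow] at h
          exact b.isPrime.mem_of_pow_mem _ h
        · rw [algebraMap_smul]; exact hk

end Groth.FlatMorOne
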