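import Mathlib.RingTheory.LocalRing.Module
import Mathlib.RingTheory.Flat.Tensor
import Mathlib.LinearAlgebra.TensorProduct.Tower
import Mathlib.LinearAlgebra.TensorProduct.RightExactness
import Mathlib.LinearAlgebra.TensorProduct.Quotient

/-! Vanishing of the first Tor, elementwise: `TorZero R M Q` says that the tensor product of `Q`
with the kernel of the canonical free presentation of `M` injects. -/

open TensorProduct

namespace Groth.FlatMorOne

section

variable (R : Type*) [CommRing R] (M : Type*) [AddCommGroup M] [Module R M]

/-- Kernel of the canonical free presentation. -/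
noncomputable abbrev presKer : Submodule R (M →₀ R) :=
  LinearMap.ker (Finsupp.linearCombination R (id : M → M))

/-- `Tor₁(Q, M) = 0`. -/
def TorZero (Q : Type*) [AddCommGroup Q] [Module R Q] : Prop :=
  Function.Injective ((presKer R M).subtype.lTensor Q)

variable {R M}
variable {A B Q : Type*} [AddCommGroup A] [Module R A] [AddCommGroup B] [Module R B]
  [AddCommGroup Q] [Module R Q]

theorem presKer_exact :
    Function.Exact (presKer R M).subtype (Finsupp.linearCombination R (id : M → M)) :=
  LinearMap.exact_subtype_ker_map _

theorem linearCombination_id_surjective' :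
    Function.Surjective (Finsupp.linearCombination R (id : M → M)) :=
  fun m => ⟨Finsupp.single m 1, by simp⟩

theorem lTensor_injective_of_presentation {G : Type*} [AddCommGroup G] [Module R G]
    [Module.Flat R G] (π : G →ₗ[R] M) (hπ : Function.Surjective π)
    {f : A →ₗ[R] B} {g : B →ₗ[R] Q}
    (hf : Function.Injective f) (he : Function.Exact f g) (hg : Function.Surjective g)
    (h : Function.Injective ((LinearMap.ker π).subtype.lTensor Q)) :
    Function.Injective (f.lTensor M) :=
  lTensor_injective_of_exact_of_exact_of_rTensor_injective (M₁ := LinearMap.ker π)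
    (LinearMap.exact_subtype_ker_map π) hπ he hg
    ((LinearMap.lTensor_inj_iff_rTensor_inj _ _).mp h)
    (Module.Flat.lTensor_preserves_injective_linearMap f hf)

theorem ker_lTensor_injective_of_flat {G : Type*} [AddCommGroup G] [Module R G]
    (π : G →ₗ[R] M) (hπ : Function.Surjective π) [Module.Flat R B]
    {f : A →ₗ[R] B} {g : B →ₗ[R] Q} (he : Function.Exact f g) (hg : Function.Surjective g)
    (h : Function.Injective (f.lTensor M)) :
    Function.Injective ((LinearMap.ker π).subtype.lTensor Q) :=
  lTensor_injective_of_exact_of_exact_of_rTensor_injective (N₁ := LinearMap.ker π) he hg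
    (LinearMap.exact_subtype_ker_map π) hπ
    ((LinearMap.lTensor_inj_iff_rTensor_inj _ _).mp h)
    (Module.Flat.lTensor_preserves_injective_linearMap _ Subtype.val_injective)

/-- If `Tor₁(Q, M) = 0`, every short exact sequence ending in `Q` stays exact after `⊗ M`. -/
theorem TorZero.lTensor_injective (h : TorZero R M Q) {f : A →ₗ[R] B} {g : B →ₗ[R] Q}
    (hf : Function.Injective f) (he : Function.Exact f g) (hg : Function.Surjective g) :
    Function.Injective (f.lTensor M) :=
  lTensor_injective_of_presentation (Finsupp.linearCombination R (id : M → M))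
    (linearCombination_id_surjective' (R := R) (M := M)) hf he hg h

theorem TorZero.rTensor_injective (h : TorZero R M Q) {f : A →ₗ[R] B} {g : B →ₗ[R] Q}
    (hf : Function.Injective f) (he : Function.Exact f g) (hg : Function.Surjective g) :
    Function.Injective (f.rTensor M) :=
  (LinearMap.lTensor_inj_iff_rTensor_inj _ _).mp (h.lTensor_injective hf he hg)

/-- One short exact sequence with flat middle term is enough to test `Tor₁(Q, M) = 0`. -/
theorem torZero_of_flat [Module.Flat R B] {f : A →ₗ[R] B} {g : B →ₗ[R] Q}
    (he : Function.Exact f g) (hg : Function.Surjective g)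
    (h : Function.Injective (f.lTensor M)) : TorZero R M Q :=
  ker_lTensor_injective_of_flat (Finsupp.linearCombination R (id : M → M))
    (linearCombination_id_surjective' (R := R) (M := M)) he hg h

theorem torZero_quotient (I : Ideal R)
    (h : Function.Injective (I.subtype.rTensor M)) : TorZero R M (R ⧸ I) :=
  torZero_of_flat (B := R) (LinearMap.exact_subtype_mkQ I) (Submodule.mkQ_surjective I)
    ((LinearMap.lTensor_inj_iff_rTensor_inj _ _).mpr h)

theorem torZero_of_equiv {Q' : Type*} [AddCommGroup Q'] [Module R Q'] (e : Q' ≃ₗ[R] Q)
    (h : TorZero R M Q) : TorZero R M Q' := by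
  intro x y hxy
  apply (e.rTensor (presKer R M)).injective
  apply h
  have key : ∀ z, (presKer R M).subtype.lTensor Q (e.toLinearMap.rTensor (presKer R M) z) =
      e.toLinearMap.rTensor (M →₀ R) ((presKer R M).subtype.lTensor Q' z) := fun z => by
    rw [← LinearMap.comp_apply, LinearMap.lTensor_comp_rTensor, ← LinearMap.comp_apply,
      LinearMap.rTensor_comp_lTensor]
  exact (key x).trans ((congrArg _ hxy).trans (key y).symm)

/-- Stability under extensions. -/
theorem TorZero.extension {f : A →ₗ[R] B} {g : B →ₗ[R] Q} (hf : Function.Injective f)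
    (he : Function.Exact f g) (hg : Function.Surjective g)
    (hA : TorZero R M A) (hQ : TorZero R M Q) : TorZero R M B := by
  rw [TorZero, injective_iff_map_eq_zero]
  intro x hx
  have h1 : g.rTensor (presKer R M) x = 0 := by
    apply hQ
    rw [map_zero, ← LinearMap.comp_apply, LinearMap.lTensor_comp_rTensor,
      ← LinearMap.rTensor_comp_lTensor, LinearMap.comp_apply, hx, map_zero]
  obtain ⟨y, rfl⟩ := (rTensor_exact (presKer R M) he hg x).mp h1
  have h2 : (presKer R M).subtype.lTensor A y = 0 := by
    apply Module.Flat.rTensor_preserves_injective_linearMap (M := M →₀ R) f hf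
    rw [map_zero, ← hx, ← LinearMap.comp_apply, LinearMap.rTensor_comp_lTensor,
      ← LinearMap.lTensor_comp_rTensor, LinearMap.comp_apply]
  rw [hA (h2.trans (map_zero _).symm), map_zero]

end

section Quotient

variable {R : Type*} [CommRing R] {T : Type*} [CommRing T] [Algebra R T]
variable {M : Type*} [AddCommGroup M] [Module R M]
variable {A B : Type*} [AddCommGroup A] [Module R A] [Module T A] [IsScalarTower R T A]
  [AddCommGroup B] [Module R B] [Module T B] [IsScalarTower R T B]

/-- Tensoring a `T`-linear map with a base-changed module. -/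
theorem rTensor_baseChange_injective_iff (f : A →ₗ[T] B) :
    Function.Injective (f.rTensor (T ⊗[R] M)) ↔
      Function.Injective ((f.restrictScalars R).rTensor M) := by
  let eA := TensorProduct.AlgebraTensorModule.cancelBaseChange R T T A M
  let eB := TensorProduct.AlgebraTensorModule.cancelBaseChange R T T B M
  have key : ∀ x, eB (f.rTensor (T ⊗[R] M) x) = (f.restrictScalars R).rTensor M (eA x) := by
    intro x
    induction x with
    | zero => simp
    | tmul a w =>
      induction w with
      | zero => simp
      | tmul t m => simp [eA, eB]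
      | add w₁ w₂ h₁ h₂ => simp only [tmul_add, map_add, h₁, h₂]
    | add x y hx hy => simp only [map_add, hx, hy]
  constructor
  · intro h x y hxy
    obtain ⟨x, rfl⟩ := eA.surjective x
    obtain ⟨y, rfl⟩ := eA.surjective y
    rw [← key, ← key] at hxy
    rw [h (eB.injective hxy)]
  · intro h x y hxy
    apply eA.injective
    apply h
    rw [← key, ← key, hxy]

theorem lTensor_injective_of_baseChange {Q : Type*} [AddCommGroup Q] [Module R Q] [Module T Q]
    [IsScalarTower R T Q] {G : Type*} [AddCommGroup G] [Module R G] (π : G →ₗ[R] M)
    (hπ : Function.Surjective π) {K : Type*} [AddCommGroup K] [Module R K] {i : K →ₗ[R] G}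
    (hi : Function.Exact i π) (hT : Function.Injective (i.lTensor T))
    [Module.Flat T (T ⊗[R] M)] : Function.Injective (i.lTensor Q) := by
  let g₁ := i.baseChange T
  let g₂ := π.baseChange T
  let p := Finsupp.linearCombination T (id : Q → Q)
  have hex : Function.Exact g₁ g₂ := lTensor_exact T hi hπ
  have hsurj : Function.Surjective g₂ := LinearMap.lTensor_surjective T hπ
  have hinj : Function.Injective g₁ := hT
  have hp : Function.Surjective p := fun q => ⟨Finsupp.single q 1, by simp [p]⟩
  have key : Function.Injective (g₁.lTensor Q) :=
    lTensor_injective_of_exact_of_exact_of_rTensor_injective (M₁ := LinearMap.ker p)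
      (LinearMap.exact_subtype_ker_map p) hp hex hsurj
      (Module.Flat.rTensor_preserves_injective_linearMap _ Subtype.val_injective)
      (Module.Flat.lTensor_preserves_injective_linearMap _ hinj)
  let eK := TensorProduct.AlgebraTensorModule.cancelBaseChange R T T Q K
  let eF := TensorProduct.AlgebraTensorModule.cancelBaseChange R T T Q G
  have e : ∀ x, eF (g₁.lTensor Q x) = i.lTensor Q (eK x) := by
    intro x
    induction x with
    | zero => simp
    | tmul q w =>
      induction w with
      | zero => simp
      | tmul t m => simp [eK, eF, g₁]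
      | add w₁ w₂ h₁ h₂ => simp only [tmul_add, map_add, h₁, h₂]
    | add x y hx hy => simp only [map_add, hx, hy]
  intro x y hxy
  obtain ⟨x, rfl⟩ := eK.surjective x
  obtain ⟨y, rfl⟩ := eK.surjective y
  have hxy' : eF (g₁.lTensor Q x) = eF (g₁.lTensor Q y) := by rw [e, e]; exact hxy
  rw [key (eF.injective hxy')]

theorem ker_lTensor_injective_of_baseChange {Q : Type*} [AddCommGroup Q] [Module R Q] [Module T Q]
    [IsScalarTower R T Q] {G : Type*} [AddCommGroup G] [Module R G] (π : G →ₗ[R] M)
    (hπ : Function.Surjective π) (hT : Function.Injective ((LinearMap.ker π).subtype.lTensor T))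
    [Module.Flat T (T ⊗[R] M)] : Function.Injective ((LinearMap.ker π).subtype.lTensor Q) :=
  lTensor_injective_of_baseChange (T := T) (K := LinearMap.ker π) π hπ
    (LinearMap.exact_subtype_ker_map π) hT

/-- If `Tor₁(T, M) = 0` and `T ⊗ M` is flat over `T`, then `Tor₁(Q, M) = 0` for every `T`-module. -/
theorem torZero_of_module {Q : Type*} [AddCommGroup Q] [Module R Q] [Module T Q]
    [IsScalarTower R T Q] (hT : TorZero R M T) [Module.Flat T (T ⊗[R] M)] : TorZero R M Q :=
  ker_lTensor_injective_of_baseChange (T := T) (Finsupp.linearCombination R (id : M → M))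
    (linearCombination_id_surjective' (R := R) (M := M)) hT

end Quotient

section Powers

variable {R : Type*} [CommRing R] {M : Type*} [AddCommGroup M] [Module R M]

/-- `Tor₁(Q, M) = 0` for `Q` killed by a power of `I`, if `I ⊗ M → M` is injective and `M/IM` is
flat over `R/I`. -/
theorem torZero_of_pow_smul_eq_zero (I : Ideal R) (h1 : Function.Injective (I.subtype.rTensor M))
    [Module.Flat (R ⧸ I) ((R ⧸ I) ⊗[R] M)] (n : ℕ) :
    ∀ (Q : Type*) [AddCommGroup Q] [Module R Q],
      (∀ a ∈ I ^ n, ∀ x : Q, a • x = 0) → TorZero R M Q := by
  induction n with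
  | zero =>
    intro Q _ _ h
    have : Subsingleton Q := subsingleton_of_forall_eq 0 fun x => by
      simpa using h 1 (by simp) x
    exact Function.injective_of_subsingleton _
  | succ n ih =>
    intro Q _ _ h
    refine TorZero.extension (f := (I • (⊤ : Submodule R Q)).subtype)
      Subtype.val_injective (LinearMap.exact_subtype_mkQ _) (Submodule.mkQ_surjective _)
      (ih _ ?_) (torZero_of_module (T := R ⧸ I) (torZero_quotient I h1))
    intro a ha x
    ext
    obtain ⟨x, hx⟩ := x
    show a • x = 0
    induction hx using Submodule.smul_induction_on' with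
    | smul b hb y _ => rw [smul_smul]; exact h _ (by rw [pow_succ]; exact Ideal.mul_mem_mul ha hb) y
    | add y _ z _ hy hz => rw [smul_add, hy, hz, add_zero]

end Powers

end Groth.FlatMorOne
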