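import Groth.Agent.FlatMorOne.FTIdeal

/-! Extension of finitely generated ideals on an affine open to ideal sheaves of finite type. -/

universe u

open CategoryTheory Limits AlgebraicGeometry TopologicalSpace

namespace Groth.FlatMorOne

variable {X : Scheme.{u}} [CompactSpace X] [QuasiSeparatedSpace X]

/-- A finitely generated ideal on an affine open contained in an ideal sheaf `I` extends to an ideal
sheaf of finite type contained in `I`. -/
theorem exists_ftIdeal_eq (I : X.IdealSheafData) (V₀ : X.affineOpens) (q₀ : Ideal Γ(X, V₀.1))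
    (hq₀ : q₀.FG) (hle : q₀ ≤ I.ideal V₀) :
    ∃ K : X.IdealSheafData, K ≤ I ∧ (∀ U : X.affineOpens, (K.ideal U).FG) ∧ K.ideal V₀ = q₀ := by
  classical
  obtain ⟨L₀, hL₀, -⟩ := exists_idealSheaf_of_ideal V₀ q₀
  let J := L₀ ⊓ I
  have hJ : J.ideal V₀ = q₀ := by
    show (L₀.ideal ⊓ I.ideal) V₀ = q₀
    rw [Pi.inf_apply, hL₀]
    exact inf_eq_left.mpr hle
  obtain ⟨s, hs⟩ : ∃ s : Finset X.affineOpens, ∀ x : X, ∃ V ∈ s, x ∈ V.1 := by
    obtain ⟨s, hs⟩ := isCompact_univ.elim_finite_subcover (fun V : X.affineOpens => (V.1 : Set X))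
      (fun V => V.1.isOpen) (fun x _ => by
        obtain ⟨U, hU, hxU, -⟩ := exists_isAffineOpen_mem_and_subset (x := x) (U := ⊤) trivial
        exact Set.mem_iUnion.mpr ⟨⟨U, hU⟩, hxU⟩)
    exact ⟨s, fun x => by simpa using hs (Set.mem_univ x)⟩
  suffices h : ∀ t : Finset X.affineOpens, ∃ K : X.IdealSheafData, K ≤ J ∧
      K.ideal V₀ = q₀ ∧ ∀ V ∈ insert V₀ t, (K.ideal V).FG by
    obtain ⟨K, hKJ, hK₀, hK⟩ := h s
    exact ⟨K, hKJ.trans inf_le_right, fg_of_cover K s hs fun V hV => hK V (Finset.mem_insert_of_mem hV), hK₀⟩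
  intro t
  induction t using Finset.induction with
  | empty => exact ⟨J, le_rfl, hJ, fun V hV => by
      rw [Finset.mem_insert, or_iff_left (Finset.notMem_empty V)] at hV
      subst hV
      rwa [hJ]⟩
  | insert V t _ ih =>
    obtain ⟨K, hKI, hK₀, hK⟩ := ih
    let W : X.Opens := (insert V₀ t).sup fun B : X.affineOpens => B.1
    have hWc : IsCompact (W : Set X) := by
      simp only [W, Opens.coe_finset_sup]
      rw [Finset.sup_eq_iSup]
      exact (insert V₀ t).isCompact_biUnion fun B _ => B.2.isCompact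
    have := quasiCompact_ι hWc
    have := quasiCompact_ι V.2.isCompact
    let K₁ := extendFrom W K ⊓ J
    have hK₁ : ∀ B : X.affineOpens, B.1 ≤ W → K₁.ideal B = K.ideal B := by
      intro B hB
      show ((extendFrom W K).ideal ⊓ J.ideal) B = _
      rw [Pi.inf_apply, ideal_extendFrom_eq W K hB]
      exact inf_eq_left.mpr (hKI B)
    obtain ⟨G, hGcov, hGW⟩ : ∃ G : Finset Γ(X, V.1), (∀ x ∈ W ⊓ V.1, ∃ g ∈ G, x ∈ X.basicOpen g) ∧
        ∀ g ∈ G, X.basicOpen g ≤ W ∧ (K.ideal (X.affineBasicOpen g)).FG := by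
      have hc : IsCompact ((W : Set X) ∩ (V.1 : Set X)) :=
        QuasiSeparatedSpace.inter_isCompact _ _ W.2 hWc V.1.2 V.2.isCompact
      obtain ⟨G, hG⟩ := hc.elim_finite_subcover
        (fun g : {g : Γ(X, V.1) // X.basicOpen g ≤ W ∧ (K.ideal (X.affineBasicOpen g)).FG} =>
          (X.basicOpen g.1 : Set X))
        (fun g => (X.basicOpen g.1).2) (by
          rintro x ⟨hxW, hxV⟩
          obtain ⟨B, hB, hxB⟩ : ∃ B ∈ insert V₀ t, x ∈ B.1 := by
            simpa [W, Finset.sup_eq_iSup] using hxW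
          obtain ⟨g, g', hgg', hxg⟩ := exists_basicOpen_le_affine_inter V.2 B.2 x ⟨hxV, hxB⟩
          have hle : X.basicOpen g ≤ B.1 := hgg' ▸ X.basicOpen_le g'
          refine Set.mem_iUnion.mpr
            ⟨⟨g, hle.trans (Finset.le_sup (f := fun B : X.affineOpens => B.1) hB), ?_⟩, hxg⟩
          rw [show X.affineBasicOpen g = X.affineBasicOpen g' from Subtype.ext hgg',
            ← K.map_ideal_basicOpen B g']
          exact (hK B hB).map _)
      refine ⟨G.image Subtype.val, fun x hx => ?_, fun g hg => ?_⟩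
      · obtain ⟨g, hg, hxg⟩ := Set.mem_iUnion₂.mp (hG hx)
        exact ⟨g.1, Finset.mem_image.mpr ⟨g, hg, rfl⟩, hxg⟩
      · obtain ⟨g, -, rfl⟩ := Finset.mem_image.mp hg
        exact g.2
    have hgen : ∀ g ∈ G, ∃ q : Ideal Γ(X, V.1), q.FG ∧ q ≤ K₁.ideal V ∧
        K.ideal (X.affineBasicOpen g) = q.map (X.presheaf.map (homOfLE (X.basicOpen_le g)).op).hom := by
      intro g hg
      have h1 := K₁.map_ideal_basicOpen V g
      rw [hK₁ (X.affineBasicOpen g) (hGW g hg).1] at h1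
      have h2 := (hGW g hg).2
      rw [← h1] at h2
      obtain ⟨u, hu, hus⟩ := (Submodule.fg_span_iff_fg_span_finset_subset
        (R := Γ(X, (X.affineBasicOpen g).1)) (s := _ '' (K₁.ideal V : Set Γ(X, V.1)))).mp h2
      obtain ⟨u', hu', rfl⟩ := Finset.subset_set_image_iff.mp hu
      refine ⟨Ideal.span (u' : Set Γ(X, V.1)), ⟨u', rfl⟩, Ideal.span_le.mpr hu', ?_⟩
      rw [← h1, Ideal.map_span]
      exact hus.trans (congrArg Ideal.span (Finset.coe_image ..))
    choose! q hqfg hqle hqeq using hgen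
    let Q : Ideal Γ(X, V.1) := G.sup q
    have hQle : Q ≤ K₁.ideal V := Finset.sup_le hqle
    have hQfg : Q.FG := Submodule.fg_finset_sup G q hqfg
    obtain ⟨L, hLV, hLext⟩ := exists_idealSheaf_of_ideal V Q
    have hV : (K₁ ⊓ L).ideal V = Q := by
      show (K₁.ideal ⊓ L.ideal) V = Q
      rw [Pi.inf_apply, hLV]
      exact inf_eq_right.mpr hQle
    have hold : ∀ B : X.affineOpens, B.1 ≤ W → (K₁ ⊓ L).ideal B = K.ideal B := by
      intro B hB
      show (K₁.ideal ⊓ L.ideal) B = _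
      rw [Pi.inf_apply, hK₁ B hB]
      refine inf_eq_left.mpr fun a ha => ?_
      rw [← hLext, mem_extendFrom_iff]
      intro C hCB hCV
      refine mem_ideal_of_locally L C _ fun x hx => ?_
      obtain ⟨g, hg, hxg⟩ := hGcov x ⟨hB (hCB hx), hCV hx⟩
      obtain ⟨_, ⟨D, hD, rfl⟩, hxD, hDle⟩ := X.isBasis_affineOpens.exists_subset_of_mem_open
        (show x ∈ C.1 ⊓ X.basicOpen g from ⟨hx, hxg⟩) (C.1 ⊓ X.basicOpen g).2
      have hDC : D ≤ C.1 := le_trans hDle inf_le_left
      have hDg : D ≤ X.basicOpen g := le_trans hDle inf_le_right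
      refine ⟨⟨D, hD⟩, hDC, hxD, ?_⟩
      have h1 : (X.presheaf.map (homOfLE (hDC.trans hCB)).op).hom a ∈ K.ideal ⟨D, hD⟩ :=
        K.ideal_le_comap_ideal (U := ⟨D, hD⟩) (V := B) (hDC.trans hCB) ha
      have h2 : K.ideal (X.affineBasicOpen g) ≤ L.ideal (X.affineBasicOpen g) := by
        rw [hqeq g hg, ← L.map_ideal_basicOpen V g, hLV]
        exact Ideal.map_mono (Finset.le_sup hg)
      rw [← CommRingCat.comp_apply, ← Functor.map_comp, ← op_comp, homOfLE_comp,
        ← L.map_ideal (U := ⟨D, hD⟩) (V := X.affineBasicOpen g) hDg]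
      rw [← K.map_ideal (U := ⟨D, hD⟩) (V := X.affineBasicOpen g) hDg] at h1
      exact Ideal.map_mono h2 h1
    have hW₀ : V₀.1 ≤ W :=
      Finset.le_sup (f := fun B : X.affineOpens => B.1) (Finset.mem_insert_self _ _)
    refine ⟨K₁ ⊓ L, inf_le_left.trans inf_le_right, (hold V₀ hW₀).trans hK₀, fun B hB => ?_⟩
    rw [Finset.insert_comm, Finset.mem_insert] at hB
    rcases hB with rfl | hB
    · exact hV ▸ hQfg
    · rw [hold B (Finset.le_sup (f := fun B : X.affineOpens => B.1) hB)]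
      exact hK B hB

end Groth.FlatMorOne
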