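import Groth.Agent.FlatMorOne.FTIdeal
import Groth.Agent.BlowUpBasics.Universal
import Mathlib.AlgebraicGeometry.Morphisms.Proper

/-! Helpers for separating closed subsets by admissible blow-ups inside a product. -/

universe u

open CategoryTheory Limits AlgebraicGeometry TopologicalSpace

namespace Groth.FlatMorOne

theorem quasiCompact_widePullback_base {S : Scheme.{u}} :
    ∀ (m : ℕ) (X : Fin m → Scheme.{u}) (g : ∀ i, X i ⟶ S) [∀ i, QuasiCompact (g i)],
      QuasiCompact (WidePullback.base g) := by
  intro m
  induction m with
  | zero =>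
    intro X g _
    have h1 : WidePullback.base g ≫ WidePullback.lift (arrows := g) (𝟙 S) (fun i => i.elim0) (fun i => i.elim0) = 𝟙 _ := by
      refine WidePullback.hom_ext g _ _ (fun i => i.elim0) ?_
      rw [Category.assoc, WidePullback.lift_base, Category.comp_id, Category.id_comp]
    have : IsIso (WidePullback.base g) := ⟨_, h1, WidePullback.lift_base _ _ _ _⟩
    infer_instance
  | succ m ih =>
    intro X g _
    let g' : ∀ i : Fin m, X i.succ ⟶ S := fun i => g i.succ
    have := ih _ g'
    let Q := pullback (g 0) (WidePullback.base g')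
    let fwd : widePullback S X g ⟶ Q := pullback.lift (WidePullback.π g 0)
      (WidePullback.lift (WidePullback.base g) (fun i => WidePullback.π g i.succ)
        (fun i => WidePullback.π_arrow g i.succ))
      (by rw [WidePullback.π_arrow, WidePullback.lift_base])
    let bwd : Q ⟶ widePullback S X g := WidePullback.lift (pullback.fst _ _ ≫ g 0)
      (fun i => Fin.cases (motive := fun i => Q ⟶ X i) (pullback.fst _ _)
        (fun i => pullback.snd _ _ ≫ WidePullback.π g' i) i)
      (by
        intro i
        induction i using Fin.cases with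
        | zero => simp
        | succ i =>
          simp only [Fin.cases_succ, Category.assoc]
          rw [WidePullback.π_arrow g' i, pullback.condition])
    have h1 : fwd ≫ bwd = 𝟙 _ := by
      refine WidePullback.hom_ext g _ _ (fun i => ?_) ?_
      · rw [Category.assoc, WidePullback.lift_π, Category.id_comp]
        induction i using Fin.cases with
        | zero => exact pullback.lift_fst _ _ _
        | succ i =>
          simp only [Fin.cases_succ, fwd]
          erw [pullback.lift_snd_assoc, WidePullback.lift_π]
      · rw [Category.assoc, WidePullback.lift_base, Category.id_comp, pullback.lift_fst_assoc, WidePullback.π_arrow]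
    have h2 : bwd ≫ fwd = 𝟙 _ := by
      apply pullback.hom_ext
      · rw [Category.assoc, pullback.lift_fst, WidePullback.lift_π, Category.id_comp]; rfl
      · rw [Category.assoc, pullback.lift_snd, Category.id_comp]
        refine WidePullback.hom_ext g' _ _ (fun i => ?_) ?_
        · rw [Category.assoc, WidePullback.lift_π, WidePullback.lift_π]; rfl
        · rw [Category.assoc, WidePullback.lift_base, WidePullback.lift_base, pullback.condition]
    have : IsIso fwd := ⟨bwd, h1, h2⟩
    have h3 : fwd ≫ pullback.fst (g 0) (WidePullback.base g') ≫ g 0 = WidePullback.base g := by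
      rw [pullback.lift_fst_assoc, WidePullback.π_arrow]
    rw [← h3]
    infer_instance

theorem isCompact_compl_support {X : Scheme.{u}} [CompactSpace X] (I : X.IdealSheafData)
    (hI : ∀ U : X.affineOpens, (I.ideal U).FG) : IsCompact ((I.support : Set X))ᶜ := by
  classical
  obtain ⟨s, hs⟩ := isCompact_univ.elim_finite_subcover (fun V : X.affineOpens => (V.1 : Set X))
    (fun V => V.1.isOpen) (fun x _ => by
      obtain ⟨U, hU, hxU, -⟩ := exists_isAffineOpen_mem_and_subset (x := x) (U := ⊤) trivial
      exact Set.mem_iUnion.mpr ⟨⟨U, hU⟩, hxU⟩)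
  choose t ht using hI
  have heq : ((I.support : Set X))ᶜ = ⋃ V ∈ s, ⋃ a ∈ t V, (X.basicOpen a : Set X) := by
    ext x
    simp only [Set.mem_compl_iff, SetLike.mem_coe, Set.mem_iUnion]
    constructor
    · intro hx
      obtain ⟨V, hVs, hxV⟩ := Set.mem_iUnion₂.mp (hs (Set.mem_univ x))
      refine ⟨V, hVs, ?_⟩
      rw [Scheme.IdealSheafData.mem_support_iff_of_mem hxV, ← ht, Scheme.zeroLocus_span,
        Scheme.mem_zeroLocus_iff] at hx
      push_neg at hx
      obtain ⟨a, ha, hxa⟩ := hx
      exact ⟨a, ha, hxa⟩
    · rintro ⟨V, -, a, ha, hxa⟩ hx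
      rw [Scheme.IdealSheafData.mem_support_iff_of_mem (X.basicOpen_le a hxa), ← ht, Scheme.zeroLocus_span,
        Scheme.mem_zeroLocus_iff] at hx
      exact hx a ha hxa
  rw [heq]
  exact s.isCompact_biUnion fun V _ => (t V).isCompact_biUnion fun a _ => (V.2.basicOpen a).isCompact

/-- A cofactor of the generator `e` of `E` landing in `I` vanishes on the closure of the part of the
zero set of `I` where `E` is the unit ideal. -/
theorem not_mem_basicOpen_of_mul_mem {X : Scheme.{u}} {I E : X.IdealSheafData} {W : X.affineOpens}
    {e j : Γ(X, W.1)} (hW : E.ideal W = Ideal.span {e}) (hj : j * e ∈ I.ideal W) {A : Set X}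
    (hA : A ⊆ (I.support : Set X)) (hA' : Disjoint A (E.support : Set X)) {y : X} (hy : y ∈ closure A) :
    y ∉ X.basicOpen j := by
  intro hyj
  obtain ⟨z, hzj, hzA⟩ := mem_closure_iff.mp hy _ (X.basicOpen j).2 hyj
  have hzW : z ∈ W.1 := X.basicOpen_le j hzj
  have hze : z ∈ X.basicOpen e := by
    have := Set.disjoint_left.mp hA' hzA
    rw [SetLike.mem_coe, Scheme.IdealSheafData.mem_support_iff_of_mem hzW, hW,
      Scheme.zeroLocus_span, Scheme.mem_zeroLocus_iff] at this
    simpa using this
  have hzI := hA hzA
  rw [SetLike.mem_coe, Scheme.IdealSheafData.mem_support_iff_of_mem hzW, Scheme.mem_zeroLocus_iff] at hzI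
  refine hzI _ hj ?_
  rw [Scheme.basicOpen_mul]
  exact ⟨hzj, hze⟩

end Groth.FlatMorOne
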