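import Groth.Agent.FlatMorOne.FlatLocusDescent
import Mathlib.RingTheory.Flat.Localization

/-! Flatness at primes and base change. -/

universe u

open TensorProduct

namespace Groth.FlatMorOne

/-- Flatness at a prime is stable under base change: if `M' = R ⊗_B M` compatibly with `σ : S → S'`
and `M` is flat over `B` at the prime under `q'`, then `M'` is flat over `R` at `q'`. -/
theorem flat_localized_baseChange {B R S M S' M' : Type u} [CommRing B] [CommRing R] [Algebra B R]
    [CommRing S] [Algebra B S] [AddCommGroup M] [Module B M] [Module S M] [IsScalarTower B S M]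
    [CommRing S'] [Algebra R S'] [AddCommGroup M'] [Module B M'] [Module R M'] [IsScalarTower B R M']
    [Module S' M'] [IsScalarTower R S' M'] (σ : S →+* S') {β : M →ₗ[B] M'} (hβ : IsBaseChange R β)
    (hσ : ∀ (s : S) m, β (s • m) = σ s • β m) (q' : Ideal S') [q'.IsPrime]
    [Module.Flat B (LocalizedModule (q'.comap σ).primeCompl M)] :
    Module.Flat R (LocalizedModule q'.primeCompl M') := by
  rw [Module.Flat.iff_lTensor_preserves_injective_linearMap]
  intro N Y _ _ _ _ f hf
  refine lTensor_localized_injective_of_killed _ _ fun z hz => ?_
  let : Module B N := Module.compHom N (algebraMap B R)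
  have : IsScalarTower B R N := IsScalarTower.of_algebraMap_smul fun _ _ => rfl
  let : Module B Y := Module.compHom Y (algebraMap B R)
  have : IsScalarTower B R Y := IsScalarTower.of_algebraMap_smul fun _ _ => rfl
  obtain ⟨w, rfl⟩ := (baseChangeTensorEquiv hβ N).symm.surjective z
  have hnat : ∀ w, (baseChangeTensorEquiv hβ Y).symm ((f.restrictScalars B).lTensor M w) =
      f.lTensor M' ((baseChangeTensorEquiv hβ N).symm w) := by
    intro w
    induction w with
    | zero => simp
    | tmul m j => simp [baseChangeTensorEquiv_symm_tmul]
    | add a b ha hb => simp only [map_add, ha, hb]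
  obtain ⟨s, hs, hsw⟩ := exists_smul_eq_zero_of_flat_localized (q'.comap σ) (f.restrictScalars B) hf w
    ((baseChangeTensorEquiv hβ Y).symm.injective (by rw [hnat, map_zero]; exact hz))
  refine ⟨σ s, hs, ?_⟩
  have key : ∀ w, (baseChangeTensorEquiv hβ N).symm (s • w) = σ s • (baseChangeTensorEquiv hβ N).symm w := by
    intro w
    induction w with
    | zero => simp
    | tmul m j => simp only [smul_tmul', baseChangeTensorEquiv_symm_tmul, hσ]
    | add a b ha hb => simp only [smul_add, map_add, ha, hb]
  rw [← key, hsw, map_zero]

/-- A flat module is flat at every prime. -/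
theorem flat_localized_of_flat {R S M : Type u} [CommRing R] [CommRing S] [Algebra R S]
    [AddCommGroup M] [Module R M] [Module S M] [IsScalarTower R S M] [Module.Flat R M]
    (T : Submonoid S) : Module.Flat R (LocalizedModule T M) := by
  rw [Module.Flat.iff_lTensor_preserves_injective_linearMap]
  intro N Y _ _ _ _ f hf
  exact lTensor_localized_injective_of_killed _ _ fun z hz =>
    ⟨1, T.one_mem, by rw [one_smul, Module.Flat.lTensor_preserves_injective_linearMap f hf (hz.trans (map_zero _).symm)]⟩

/-- A module flat at every prime is flat. -/
theorem flat_of_forall_flat_localized {R S M : Type u} [CommRing R] [CommRing S] [Algebra R S]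
    [AddCommGroup M] [Module R M] [Module S M] [IsScalarTower R S M]
    (h : ∀ q : PrimeSpectrum S, Module.Flat R (LocalizedModule q.asIdeal.primeCompl M)) :
    Module.Flat R M :=
  Module.flat_of_isLocalized_maximal S M (fun P _ => LocalizedModule P.primeCompl M)
    (fun P _ => LocalizedModule.mkLinearMap P.primeCompl M) fun P hP => h ⟨P, hP.isPrime⟩

end Groth.FlatMorOne
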