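import Groth.Agent.FlatMorOne.FlatLocusModelFlat
import Groth.Agent.FlatMorOne.TorZero

/-! The kernel of a surjection onto a flat finitely presented module is finitely presented. -/

universe u

open TensorProduct

namespace Groth.FlatMorOne

/-- One presentation with finitely presented kernel is enough. -/
theorem finitePresentation_ker_of_presentation {S Q : Type u} [CommRing S] [AddCommGroup Q]
    [Module S Q] {F G : Type u} [AddCommGroup F] [Module S F] [Module.Projective S F] [Module.Finite S F]
    [AddCommGroup G] [Module S G] [Module.Projective S G] [Module.Finite S G]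
    (p : F →ₗ[S] Q) (hp : Function.Surjective p) [Module.FinitePresentation S (LinearMap.ker p)]
    (q : G →ₗ[S] Q) (hq : Function.Surjective q) : Module.FinitePresentation S (LinearMap.ker q) := by
  have : Module.FinitePresentation S G := Module.finitePresentation_of_projective _ _
  let P : Submodule S (F × G) := LinearMap.ker (p ∘ₗ LinearMap.fst S F G - q ∘ₗ LinearMap.snd S F G)
  have hmem : ∀ x : F × G, x ∈ P ↔ p x.1 = q x.2 := fun x => by
    simp [P, LinearMap.mem_ker, sub_eq_zero]
  let π₂ : P →ₗ[S] G := LinearMap.snd S F G ∘ₗ P.subtype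
  let π₁ : P →ₗ[S] F := LinearMap.fst S F G ∘ₗ P.subtype
  have h₁ : Function.Surjective π₁ := fun x => by
    obtain ⟨y, hy⟩ := hq (p x)
    exact ⟨⟨(x, y), (hmem _).mpr hy.symm⟩, rfl⟩
  have h₂ : Function.Surjective π₂ := fun y => by
    obtain ⟨x, hx⟩ := hp (q y)
    exact ⟨⟨(x, y), (hmem _).mpr hx⟩, rfl⟩
  let i₁ : LinearMap.ker q →ₗ[S] P :=
    (LinearMap.inr S F G ∘ₗ (LinearMap.ker q).subtype).codRestrict P fun y => by
      simp [hmem]
  let i₂ : LinearMap.ker p →ₗ[S] P :=
    (LinearMap.inl S F G ∘ₗ (LinearMap.ker p).subtype).codRestrict P fun x => by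
      simp [hmem]
  have e₂ : Function.Exact i₂ π₂ := fun z => by
    refine ⟨fun hz => ?_, ?_⟩
    · have h : z.1.2 = 0 := hz
      have h' : p z.1.1 = 0 := by rw [(hmem _).mp z.2, h, map_zero]
      exact ⟨⟨z.1.1, h'⟩, Subtype.ext (Prod.ext rfl h.symm)⟩
    · rintro ⟨w, rfl⟩
      rfl
  have e₁ : Function.Exact i₁ π₁ := fun z => by
    refine ⟨fun hz => ?_, ?_⟩
    · have h : z.1.1 = 0 := hz
      have h' : q z.1.2 = 0 := by rw [← (hmem _).mp z.2, h, map_zero]
      exact ⟨⟨z.1.2, h'⟩, Subtype.ext (Prod.ext h.symm rfl)⟩
    · rintro ⟨w, rfl⟩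
      rfl
  have : Module.FinitePresentation S (LinearMap.ker π₂) := by
    have hi : Function.Injective i₂ := fun a b h =>
      Subtype.ext (congrArg (fun z : P => z.1.1) h)
    exact Module.FinitePresentation.of_equiv
      (M := LinearMap.ker p) (N := LinearMap.ker π₂)
      ((LinearEquiv.ofInjective i₂ hi).trans (LinearEquiv.ofEq _ _ (LinearMap.exact_iff.mp e₂).symm))
  have : Module.FinitePresentation S P := Module.finitePresentation_of_ker π₂ h₂
  exact Module.finitePresentation_of_projective_of_exact i₁ π₁
    (fun a b h => Subtype.ext (congrArg (fun z : P => z.1.2) h)) h₁ e₁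

/-- An injection with flat cokernel stays injective after base change. -/
theorem baseChange_ker_injective (R₁ R : Type u) [CommRing R₁] [CommRing R] [Algebra R₁ R]
    {S₁ : Type u} [CommRing S₁] [Algebra R₁ S₁] (S : Type u) [CommRing S] [Algebra R S] [Algebra S₁ S]
    [Algebra R₁ S] [IsScalarTower R₁ R S] [IsScalarTower R₁ S₁ S] [Algebra.IsPushout R₁ R S₁ S]
    {M₁ : Type u} [AddCommGroup M₁] [Module S₁ M₁] [Module R₁ M₁] [IsScalarTower R₁ S₁ M₁]
    [Module.Flat R₁ M₁] {G : Type u} [AddCommGroup G] [Module S₁ G]
    (g : G →ₗ[S₁] M₁) (hg : Function.Surjective g) :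
    Function.Injective ((LinearMap.ker g).subtype.lTensor S) := by
  letI : Module R₁ G := Module.compHom G (algebraMap R₁ S₁)
  haveI : IsScalarTower R₁ S₁ G := .of_algebraMap_smul fun _ _ => rfl
  let i : LinearMap.ker g →ₗ[R₁] G := (LinearMap.ker g).subtype.restrictScalars R₁
  have hi : Function.Injective (i.lTensor R) :=
    lTensor_injective_of_presentation (Finsupp.linearCombination R₁ (id : R → R))
      (linearCombination_id_surjective' (R := R₁) (M := R)) (g := g.restrictScalars R₁)
      (Subtype.val_injective : Function.Injective i) (LinearMap.exact_subtype_ker_map g) hg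
      (Module.Flat.lTensor_preserves_injective_linearMap _ Subtype.val_injective)
  let eK := Algebra.IsPushout.cancelBaseChange R₁ R S₁ S (LinearMap.ker g)
  let eG := Algebra.IsPushout.cancelBaseChange R₁ R S₁ S G
  have key : ∀ z : R ⊗[R₁] LinearMap.ker g,
      (LinearMap.ker g).subtype.lTensor S (eK.symm z) = eG.symm (i.lTensor R z) := by
    intro z
    induction z with
    | zero => simp
    | tmul r k => simp [eK, eG, i]
    | add a b ha hb => simp only [map_add, ha, hb]
  intro x y hxy
  obtain ⟨x, rfl⟩ := eK.symm.surjective x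
  obtain ⟨y, rfl⟩ := eK.symm.surjective y
  rw [key, key] at hxy
  rw [hi (eG.symm.injective hxy)]

set_option synthInstance.maxHeartbeats 200000 in
/-- A surjection from a finitely presented module onto a finitely presented module flat over the
base has finitely presented kernel. -/
theorem finitePresentation_ker_of_flat (R : Type u) [CommRing R] {S : Type u} [CommRing S] [Algebra R S]
    [Algebra.FinitePresentation R S] {Q : Type u} [AddCommGroup Q] [Module S Q] [Module R Q]
    [IsScalarTower R S Q] [Module.FinitePresentation S Q] [Module.Flat R Q]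
    {M : Type u} [AddCommGroup M] [Module S M] [Module.FinitePresentation S M]
    (f : M →ₗ[S] Q) (hf : Function.Surjective f) : Module.FinitePresentation S (LinearMap.ker f) := by
  obtain ⟨R₁, _, _, S₁, _, _, _, _, _, _, Q₁, _, _, _, _, _, _, b, hR₁, hS₁, hQ₁, hflat, hpush, hb⟩ :=
    exists_flat_model R S Q
  have : IsNoetherianRing R₁ := Algebra.FiniteType.isNoetherianRing ℤ R₁
  have : IsNoetherianRing S₁ := Algebra.FiniteType.isNoetherianRing R₁ S₁
  obtain ⟨n, g, hg⟩ := Module.Finite.exists_fin' S₁ Q₁
  have : Module.FinitePresentation S₁ (LinearMap.ker g) := Module.finitePresentation_of_finite _ _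
  let i : S ⊗[S₁] LinearMap.ker g →ₗ[S] S ⊗[S₁] (Fin n → S₁) := (LinearMap.ker g).subtype.baseChange S
  let p : S ⊗[S₁] (Fin n → S₁) →ₗ[S] Q := hb.equiv.toLinearMap ∘ₗ g.baseChange S
  have hi : Function.Injective i := baseChange_ker_injective R₁ R S g hg
  have hex : Function.Exact i p := fun z =>
    (Iff.intro (fun h => hb.equiv.injective (h.trans (map_zero _).symm))
      (fun h => (congrArg hb.equiv h).trans (map_zero _))).trans
      (lTensor_exact S (LinearMap.exact_subtype_ker_map g) hg z)
  have hp : Function.Surjective p := hb.equiv.surjective.comp (LinearMap.lTensor_surjective S hg)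
  have : Module.FinitePresentation S (S ⊗[S₁] LinearMap.ker g) := inferInstance
  have : Module.FinitePresentation S (LinearMap.ker p) :=
    Module.FinitePresentation.of_equiv (M := S ⊗[S₁] LinearMap.ker g) (N := LinearMap.ker p)
      ((LinearEquiv.ofInjective i hi).trans (LinearEquiv.ofEq _ _ (LinearMap.exact_iff.mp hex).symm))
  obtain ⟨m, π, hπ⟩ := Module.Finite.exists_fin' S M
  have hfg : (LinearMap.ker π).FG := Module.FinitePresentation.fg_ker π hπ
  have hK := finitePresentation_ker_of_presentation p hp (f ∘ₗ π) (hf.comp hπ)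
  let l : LinearMap.ker (f ∘ₗ π) →ₗ[S] LinearMap.ker f := π.restrict fun x hx => hx
  have hl : Function.Surjective l := by
    rintro ⟨y, hy⟩
    obtain ⟨x, rfl⟩ := hπ y
    exact ⟨⟨x, hy⟩, rfl⟩
  refine Module.finitePresentation_of_surjective l hl ?_
  have hle : LinearMap.ker π ≤ LinearMap.ker (f ∘ₗ π) := fun x hx => by
    simp [LinearMap.mem_ker.mp hx]
  have : LinearMap.ker l = (LinearMap.ker π).comap (LinearMap.ker (f ∘ₗ π)).subtype := by
    ext x
    exact ⟨fun h => congrArg Subtype.val (LinearMap.mem_ker.mp h), fun h => Subtype.ext h⟩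
  rw [this]
  exact Submodule.fg_of_fg_map_injective _ (LinearMap.ker (f ∘ₗ π)).injective_subtype
    (by rwa [Submodule.map_comap_subtype, inf_eq_right.mpr hle])

/-- If the cokernel is flat over the base, the kernel is finitely generated. -/
theorem fg_ker_of_flat_coker (R : Type u) [CommRing R] {S : Type u} [CommRing S] [Algebra R S]
    [Algebra.FinitePresentation R S] {Q M N : Type u} [AddCommGroup Q] [Module S Q] [Module R Q]
    [IsScalarTower R S Q] [Module.Flat R Q] [AddCommGroup M] [Module S M]
    [Module.FinitePresentation S M] [AddCommGroup N] [Module S N] [Module.FinitePresentation S N]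
    (φ : M →ₗ[S] N) (π : N →ₗ[S] Q) (hπ : Function.Surjective π) (he : Function.Exact φ π) :
    (LinearMap.ker φ).FG := by
  have hQ : Module.FinitePresentation S Q := Module.finitePresentation_of_surjective π hπ (by
    rw [LinearMap.exact_iff.mp he]
    exact Submodule.fg_range _)
  have : Module.FinitePresentation S (LinearMap.range φ) := by
    have := finitePresentation_ker_of_flat R π hπ
    exact Module.FinitePresentation.of_equiv (LinearEquiv.ofEq _ _ (LinearMap.exact_iff.mp he))
  rw [← LinearMap.ker_rangeRestrict φ]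
  exact Module.FinitePresentation.fg_ker _ φ.surjective_rangeRestrict

end Groth.FlatMorOne
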