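import Groth.Agent.FlatMorOne.FlatnessCriteria
import Mathlib.RingTheory.Localization.BaseChange

/-! Flatness of a localization from elementwise killed kernels. -/

open TensorProduct

namespace Groth.FlatMorOne

variable {R : Type*} [CommRing R] {S M : Type*} [CommRing S] [Algebra R S]
  [AddCommGroup M] [Module R M] [Module S M] [IsScalarTower R S M]

/-- If the kernel of `M ⊗ f` is killed elementwise by elements of `T`, then `T⁻¹M ⊗ f` is injective. -/
theorem lTensor_localized_injective_of_killed (T : Submonoid S) {A B : Type*} [AddCommGroup A]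
    [Module R A] [AddCommGroup B] [Module R B] (f : A →ₗ[R] B)
    (h : ∀ z : M ⊗[R] A, f.lTensor M z = 0 → ∃ s ∈ T, s • z = 0) :
    Function.Injective (f.lTensor (LocalizedModule T M)) := by
  rw [injective_iff_map_eq_zero]
  intro z hz
  let g := LocalizedModule.mkLinearMap T M
  obtain ⟨⟨w, t⟩, hw⟩ := IsLocalizedModule.surj T (AlgebraTensorModule.rTensor R A g) z
  have h0 : AlgebraTensorModule.rTensor R B g (f.lTensor M w) = 0 := by
    have e : AlgebraTensorModule.rTensor R B g (f.lTensor M w) =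
        AlgebraTensorModule.lTensor S (LocalizedModule T M) f (AlgebraTensorModule.rTensor R A g w) := by
      clear hw
      induction w with
      | zero => simp
      | tmul m a => simp
      | add x y hx hy => simp only [map_add, hx, hy]
    rw [e, ← hw, Submonoid.smul_def, map_smul]
    show (t : S) • f.lTensor _ z = 0
    rw [hz, smul_zero]
  obtain ⟨s, hs⟩ := (IsLocalizedModule.eq_zero_iff T (AlgebraTensorModule.rTensor R B g)).mp h0
  have h1 : f.lTensor M ((s : S) • w) = 0 := by
    show AlgebraTensorModule.lTensor S M f ((s : S) • w) = 0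
    rw [map_smul]; exact hs
  obtain ⟨s', hs', hs'w⟩ := h _ h1
  have h2 : AlgebraTensorModule.rTensor R A g w = 0 :=
    (IsLocalizedModule.eq_zero_iff T _).mpr ⟨⟨s', hs'⟩ * s, by
      rw [Submonoid.smul_def, Submonoid.coe_mul, mul_smul]; exact hs'w⟩
  rw [h2] at hw
  exact IsLocalizedModule.smul_injective (AlgebraTensorModule.rTensor R A g) t
    (show t • z = t • 0 by rw [smul_zero]; exact hw)

/-- Flatness over `R ⧸ I` tested with the ideals of `R`. -/
theorem flat_quotient_of_injective {X : Type*} [AddCommGroup X] [Module R X] (I : Ideal R)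
    (h : ∀ J : Ideal R, Function.Injective ((Submodule.map I.mkQ J).subtype.lTensor X)) :
    Module.Flat (R ⧸ I) ((R ⧸ I) ⊗[R] X) := by
  rw [Module.Flat.iff_rTensor_injective']
  intro J'
  rw [rTensor_baseChange_injective_iff]
  let J : Ideal R := J'.comap (Ideal.Quotient.mk I)
  let e : ↥(Submodule.map I.mkQ J) →ₗ[R] J' :=
    { toFun := fun x => ⟨x.1, by
        obtain ⟨y, hy, hy'⟩ := x.2
        rw [← hy']; exact hy⟩
      map_add' := fun _ _ => rfl
      map_smul' := fun _ _ => rfl }
  have he : Function.Bijective e := by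
    refine ⟨fun x y hxy => Subtype.ext (congrArg Subtype.val hxy :), fun x => ?_⟩
    obtain ⟨y, hy⟩ := Ideal.Quotient.mk_surjective x.1
    exact ⟨⟨x.1, y, show Ideal.Quotient.mk I y ∈ J' from hy ▸ x.2, hy⟩, rfl⟩
  have hc : J'.subtype.restrictScalars R = (Submodule.map I.mkQ J).subtype ∘ₗ
      (LinearEquiv.ofBijective e he).symm.toLinearMap := by
    refine LinearMap.ext fun x => ?_
    obtain ⟨y, rfl⟩ := he.2 x
    simp only [LinearMap.comp_apply, LinearEquiv.coe_coe]
    erw [LinearEquiv.ofBijective_symm_apply_apply]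
    rfl
  rw [hc, LinearMap.rTensor_comp]
  exact ((LinearMap.lTensor_inj_iff_rTensor_inj _ _).mp (h J)).comp
    ((LinearEquiv.ofBijective e he).symm.rTensor X).injective

/-- A flatness criterion for `M_q`: `Tor₁(R/I, M)` and the obstruction to flatness of `M/IM` over
`R/I` vanish near `q`. -/
theorem flat_localizedModule_of_killed [IsNoetherianRing R] [IsNoetherianRing S] [Module.Finite S M]
    (I : Ideal R) (q : Ideal S) [q.IsPrime] (hIq : I.map (algebraMap R S) ≤ q)
    (h1 : ∀ z : M ⊗[R] I, I.subtype.lTensor M z = 0 → ∃ s ∉ q, s • z = 0)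
    (h2 : ∀ (J : Ideal R) (z : M ⊗[R] ↥(Submodule.map I.mkQ J)),
      (Submodule.map I.mkQ J).subtype.lTensor M z = 0 → ∃ s ∉ q, s • z = 0) :
    Module.Flat R (LocalizedModule q.primeCompl M) := by
  have hI : I.map (algebraMap R (Localization.AtPrime q)) ≤ Ideal.jacobson ⊥ := by
    rw [IsLocalRing.jacobson_eq_maximalIdeal _ bot_ne_top, Ideal.map_le_iff_le_comap]
    intro a ha
    rw [Ideal.mem_comap, IsScalarTower.algebraMap_apply R S (Localization.AtPrime q)]
    exact (IsLocalization.AtPrime.to_map_mem_maximal_iff (Localization.AtPrime q) q _).mpr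
      (hIq (Ideal.mem_map_of_mem _ ha))
  have := flat_quotient_of_injective (X := LocalizedModule q.primeCompl M) I
    (fun J => lTensor_localized_injective_of_killed _ _ (h2 J))
  exact flat_of_rTensor_injective (S := Localization.AtPrime q) I hI
    ((LinearMap.lTensor_inj_iff_rTensor_inj _ _).mp (lTensor_localized_injective_of_killed _ _ h1))

/-- `M/IM` is free over `R/I` up to powers of `g`: then the obstruction to its flatness is killed by
powers of `g`. -/
theorem exists_pow_smul_eq_zero_of_free_mod {ι : Type*} (I : Ideal R) (g : R) (Ψ : (ι →₀ R) →ₗ[R] M)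
    (hinj : ∀ x, Ψ x ∈ I • (⊤ : Submodule R M) → ∃ k : ℕ, g ^ k • x ∈ I • (⊤ : Submodule R (ι →₀ R)))
    (hsurj : ∀ m, ∃ k : ℕ, g ^ k • m ∈ LinearMap.range Ψ ⊔ I • ⊤)
    (J : Ideal R) (z : M ⊗[R] ↥(Submodule.map I.mkQ J))
    (hz : (Submodule.map I.mkQ J).subtype.lTensor M z = 0) :
    ∃ k : ℕ, g ^ k • z = 0 := by
  revert z hz
  generalize Submodule.map I.mkQ J = J'
  intro z hz
  have hkill : ∀ (j : J') (m : M), m ∈ I • (⊤ : Submodule R M) → m ⊗ₜ[R] j = 0 := by
    intro j m hm
    induction hm using Submodule.smul_induction_on' with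
    | smul a ha y _ =>
      have : a • j = 0 := Subtype.ext (by
        obtain ⟨r, hr⟩ := Submodule.mkQ_surjective I j.1
        show a • j.1 = 0
        rw [← hr, ← map_smul, Submodule.mkQ_apply, Submodule.Quotient.mk_eq_zero, smul_eq_mul]
        exact I.mul_mem_right _ ha)
      rw [smul_tmul, this, tmul_zero]
    | add y _ z _ hy hz => rw [add_tmul, hy, hz, add_zero]
  have hlift : ∀ w : M ⊗[R] J', ∃ k : ℕ, g ^ k • w ∈ LinearMap.range (Ψ.rTensor J') := by
    intro w
    induction w with
    | zero => exact ⟨0, by simp⟩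
    | tmul m j =>
      obtain ⟨k, hk⟩ := hsurj m
      obtain ⟨_, ⟨x, rfl⟩, b, hb, hab⟩ := Submodule.mem_sup.mp hk
      refine ⟨k, x ⊗ₜ j, ?_⟩
      rw [LinearMap.rTensor_tmul, smul_tmul', ← hab, add_tmul, hkill j b hb, add_zero]
    | add a b ha hb =>
      obtain ⟨k, x, hx⟩ := ha
      obtain ⟨l, y, hy⟩ := hb
      refine ⟨k + l, g ^ l • x + g ^ k • y, ?_⟩
      rw [map_add, map_smul, map_smul, hx, hy, smul_smul, smul_smul, ← pow_add, ← pow_add,
        add_comm l k, smul_add]
  obtain ⟨k, y, hy⟩ := hlift z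
  let eF : (ι →₀ R) ⊗[R] (R ⧸ I) ≃ₗ[R] (ι →₀ R) ⧸ (I • (⊤ : Submodule R (ι →₀ R))) :=
    (TensorProduct.comm R _ _).trans (TensorProduct.quotTensorEquivQuotSMul _ I)
  let eM : M ⊗[R] (R ⧸ I) ≃ₗ[R] M ⧸ (I • (⊤ : Submodule R M)) :=
    (TensorProduct.comm R _ _).trans (TensorProduct.quotTensorEquivQuotSMul _ I)
  have h0 : Ψ.rTensor (R ⧸ I) (J'.subtype.lTensor (ι →₀ R) y) = 0 := by
    have e : Ψ.rTensor (R ⧸ I) (J'.subtype.lTensor _ y) = J'.subtype.lTensor M (Ψ.rTensor J' y) := by
      rw [← LinearMap.comp_apply, ← LinearMap.comp_apply, LinearMap.rTensor_comp_lTensor,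
        LinearMap.lTensor_comp_rTensor]
    rw [e, hy, map_smul, hz, smul_zero]
  obtain ⟨x, hx⟩ := Submodule.Quotient.mk_surjective _ (eF (J'.subtype.lTensor (ι →₀ R) y))
  have hxy : J'.subtype.lTensor (ι →₀ R) y = eF.symm (Submodule.Quotient.mk x) := by
    rw [hx, LinearEquiv.symm_apply_apply]
  have hsymm : eF.symm (Submodule.Quotient.mk x) = x ⊗ₜ[R] (1 : R ⧸ I) := by
    simp [eF]
  rw [hxy, hsymm, LinearMap.rTensor_tmul] at h0
  have hΨx : Ψ x ∈ I • (⊤ : Submodule R M) := by
    rw [← Submodule.Quotient.mk_eq_zero]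
    have := congrArg eM h0
    simpa [eM, ← Ideal.Quotient.mk_algebraMap] using this
  obtain ⟨l, hl⟩ := hinj x hΨx
  refine ⟨l + k, ?_⟩
  rw [pow_add, mul_smul, ← hy, ← map_smul]
  suffices g ^ l • y = 0 by rw [this, map_zero]
  refine Module.Flat.lTensor_preserves_injective_linearMap (M := ι →₀ R) J'.subtype Subtype.val_injective ?_
  rw [map_zero, map_smul, hxy, hsymm, smul_tmul']
  refine eF.injective ?_
  rw [map_zero]
  have : Submodule.Quotient.mk (p := I • (⊤ : Submodule R (ι →₀ R))) (g ^ l • x) = 0 :=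
    (Submodule.Quotient.mk_eq_zero _).mpr hl
  simpa [eF, ← Ideal.Quotient.mk_algebraMap] using this

end Groth.FlatMorOne
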