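import Groth.Agent.FlatMorOne.FlatLocusKernel
import Groth.Agent.FlatMorOne.FlatLocusNoeth
import Mathlib.RingTheory.TensorProduct.DirectLimitFG
import Mathlib.LinearAlgebra.TensorProduct.Vanishing
import Mathlib.RingTheory.IsTensorProduct

/-! Flatness of a finitely presented module at a prime descends to a Noetherian stage. -/

universe u

open TensorProduct

namespace Groth.FlatMorOne

/-- When `M/pM` is free up to powers of `g`, tensoring `M` keeps injectivity, up to powers of `g`, of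
maps between modules killed by `p`. -/
theorem exists_pow_smul_eq_zero_of_killed {R : Type u} [CommRing R] {M : Type u} [AddCommGroup M]
    [Module R M] {ι : Type u} (p : Ideal R) (g : R) (Ψ : (ι →₀ R) →ₗ[R] M)
    (hinj : ∀ x, Ψ x ∈ p • (⊤ : Submodule R M) → ∃ k : ℕ, g ^ k • x ∈ p • (⊤ : Submodule R (ι →₀ R)))
    (hsurj : ∀ m, ∃ k : ℕ, g ^ k • m ∈ LinearMap.range Ψ ⊔ p • ⊤)
    {N Y : Type u} [AddCommGroup N] [Module R N] [AddCommGroup Y] [Module R Y]
    (f : N →ₗ[R] Y) (hf : Function.Injective f) (hY : ∀ a ∈ p, ∀ y : Y, a • y = 0)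
    (z : M ⊗[R] N) (hz : f.lTensor M z = 0) : ∃ k : ℕ, g ^ k • z = 0 := by
  have hN : ∀ a ∈ p, ∀ n : N, a • n = 0 := fun a ha n => hf (by rw [map_smul, hY a ha, map_zero])
  have hkill : ∀ (P : Type u) [AddCommGroup P] [Module R P], (∀ a ∈ p, ∀ n : P, a • n = 0) →
      ∀ (Q : Type u) [AddCommGroup Q] [Module R Q] (m : Q) (n : P),
      m ∈ p • (⊤ : Submodule R Q) → m ⊗ₜ[R] n = 0 := by
    intro P _ _ hP Q _ _ m n hm
    induction hm using Submodule.smul_induction_on' with
    | smul a ha y _ => rw [smul_tmul, hP a ha, tmul_zero]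
    | add y _ z _ hy hz => rw [add_tmul, hy, hz, add_zero]
  have hlift : ∀ w : M ⊗[R] N, ∃ k : ℕ, g ^ k • w ∈ LinearMap.range (Ψ.rTensor N) := by
    intro w
    induction w with
    | zero => exact ⟨0, by simp⟩
    | tmul m j =>
      obtain ⟨k, hk⟩ := hsurj m
      obtain ⟨_, ⟨x, rfl⟩, b, hb, hab⟩ := Submodule.mem_sup.mp hk
      refine ⟨k, x ⊗ₜ j, ?_⟩
      rw [LinearMap.rTensor_tmul, smul_tmul', ← hab, add_tmul, hkill N hN M b j hb, add_zero]
    | add a b ha hb =>
      obtain ⟨k, x, hx⟩ := ha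
      obtain ⟨l, y, hy⟩ := hb
      refine ⟨k + l, g ^ l • x + g ^ k • y, ?_⟩
      rw [map_add, map_smul, map_smul, hx, hy, smul_smul, smul_smul, ← pow_add, ← pow_add,
        add_comm l k, smul_add]
  obtain ⟨k, y, hy⟩ := hlift z
  let F := ι →₀ R
  have h0 : Ψ.rTensor Y (f.lTensor F y) = 0 := by
    rw [← LinearMap.comp_apply, LinearMap.rTensor_comp_lTensor, ← LinearMap.lTensor_comp_rTensor,
      LinearMap.comp_apply, hy, map_smul, hz, smul_zero]
  let pF : Submodule R F := p • ⊤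
  let W : F →ₗ[R] M ⧸ (p • ⊤ : Submodule R M) := Submodule.mkQ _ ∘ₗ Ψ
  have hW : W.lTensor Y (TensorProduct.comm R F Y (f.lTensor F y)) = 0 := by
    have key : ∀ w : F ⊗[R] Y, W.lTensor Y (TensorProduct.comm R F Y w) =
        (Submodule.mkQ (p • ⊤ : Submodule R M)).lTensor Y (TensorProduct.comm R M Y (Ψ.rTensor Y w)) := by
      intro w
      induction w with
      | zero => simp
      | tmul a b => simp [W]
      | add a b ha hb => simp only [map_add, ha, hb]
    rw [key, h0, map_zero, map_zero]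
  obtain ⟨l, w, hw⟩ := exists_pow_smul_mem_range_lTensor (A := pF) (B := F) g pF.subtype W
    (fun b hb => (hinj b ((Submodule.Quotient.mk_eq_zero _).mp hb)).imp fun k hk => (LinearMap.mem_range.mpr ⟨(⟨_, hk⟩ : pF), rfl⟩ : g ^ k • b ∈ LinearMap.range pF.subtype))
    (fun c => by
      obtain ⟨m, rfl⟩ := Submodule.mkQ_surjective _ c
      obtain ⟨k, hk⟩ := hsurj m
      obtain ⟨_, ⟨x, rfl⟩, b, hb, hab⟩ := Submodule.mem_sup.mp hk
      refine ⟨k, x, ?_⟩
      rw [← map_smul, ← hab, map_add]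
      show Submodule.mkQ _ (Ψ x) = _
      rw [Submodule.mkQ_apply, Submodule.mkQ_apply, (Submodule.Quotient.mk_eq_zero _).mpr hb, add_zero])
    Y _ hW
  have hw0 : pF.subtype.lTensor Y w = 0 := by
    clear hw
    induction w with
    | zero => simp
    | tmul a b =>
      rw [LinearMap.lTensor_tmul]
      apply (TensorProduct.comm R Y F).injective
      rw [map_zero, TensorProduct.comm_tmul]
      exact hkill Y hY F _ a b.2
    | add a b ha hb => rw [map_add, ha, hb, add_zero]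
  rw [hw0, ← map_smul, eq_comm, LinearEquiv.map_eq_zero_iff, ← map_smul] at hw
  refine ⟨l + k, ?_⟩
  have hy0 : g ^ l • y = 0 :=
    Module.Flat.lTensor_preserves_injective_linearMap (M := F) f hf (by rw [hw, map_zero])
  rw [pow_add, mul_smul, ← hy, ← map_smul, hy0, map_zero]

/-- The obstruction to injectivity of `M ⊗ I → M` is killed near a prime where `M` is flat. -/
theorem exists_smul_eq_zero_of_flat_localized {R S M : Type u} [CommRing R] [CommRing S]
    [Algebra R S] [AddCommGroup M] [Module R M] [Module S M] [IsScalarTower R S M]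
    (q : Ideal S) [q.IsPrime] [Module.Flat R (LocalizedModule q.primeCompl M)]
    {A B : Type u} [AddCommGroup A] [Module R A] [AddCommGroup B] [Module R B] (f : A →ₗ[R] B)
    (hf : Function.Injective f) (z : M ⊗[R] A) (hz : f.lTensor M z = 0) :
    ∃ s ∉ q, s • z = 0 := by
  have h0 : AlgebraTensorModule.rTensor R A (LocalizedModule.mkLinearMap q.primeCompl M) z = 0 := by
    refine Module.Flat.lTensor_preserves_injective_linearMap f hf ?_
    have key : ∀ z : M ⊗[R] A,
        f.lTensor _ (AlgebraTensorModule.rTensor R A (LocalizedModule.mkLinearMap q.primeCompl M) z) =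
          AlgebraTensorModule.rTensor R B (LocalizedModule.mkLinearMap q.primeCompl M) (f.lTensor M z) := by
      intro z
      induction z with
      | zero => simp
      | tmul m x => simp
      | add x y hx hy => simp only [map_add, hx, hy]
    rw [key, hz, map_zero, map_zero]
  obtain ⟨⟨s, hs⟩, hsz⟩ := (IsLocalizedModule.eq_zero_iff q.primeCompl
    (AlgebraTensorModule.rTensor R A (LocalizedModule.mkLinearMap q.primeCompl M))).mp h0
  exact ⟨s, hs, hsz⟩

/-- `M₁ ⊗_B N = M₀ ⊗_{R₀} N` for a base change `M₁` of `M₀`. -/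
noncomputable def baseChangeTensorEquiv {R₀ B M₀ M₁ : Type u} [CommRing R₀] [CommRing B] [Algebra R₀ B]
    [AddCommGroup M₀] [Module R₀ M₀] [AddCommGroup M₁] [Module R₀ M₁] [Module B M₁]
    [IsScalarTower R₀ B M₁] {β : M₀ →ₗ[R₀] M₁} (hβ : IsBaseChange B β)
    (N : Type u) [AddCommGroup N] [Module R₀ N] [Module B N] [IsScalarTower R₀ B N] :
    M₁ ⊗[B] N ≃ₗ[R₀] M₀ ⊗[R₀] N :=
  ((TensorProduct.comm B M₁ N).restrictScalars R₀).trans <|
    ((hβ.equiv.symm.lTensor N).restrictScalars R₀).trans <|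
    ((AlgebraTensorModule.cancelBaseChange R₀ B B N M₀).restrictScalars R₀).trans <|
    TensorProduct.comm R₀ N M₀

theorem baseChangeTensorEquiv_symm_tmul {R₀ B M₀ M₁ : Type u} [CommRing R₀] [CommRing B] [Algebra R₀ B]
    [AddCommGroup M₀] [Module R₀ M₀] [AddCommGroup M₁] [Module R₀ M₁] [Module B M₁]
    [IsScalarTower R₀ B M₁] {β : M₀ →ₗ[R₀] M₁} (hβ : IsBaseChange B β)
    (N : Type u) [AddCommGroup N] [Module R₀ N] [Module B N] [IsScalarTower R₀ B N] (m : M₀) (n : N) :
    (baseChangeTensorEquiv hβ N).symm (m ⊗ₜ n) = β m ⊗ₜ[B] n := by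
  simp [baseChangeTensorEquiv, IsBaseChange.equiv_tmul]

section Stage

attribute [local instance] Algebra.TensorProduct.rightAlgebra

variable (R₀ : Type u) [CommRing R₀] (S₀ : Type u) [CommRing S₀] [Algebra R₀ S₀]
  (M₀ : Type u) [AddCommGroup M₀] [Module R₀ M₀] [Module S₀ M₀] [IsScalarTower R₀ S₀ M₀]

/-- The base change of the algebra. -/
abbrev SOf (A : Type u) [CommRing A] [Algebra R₀ A] : Type u := A ⊗[R₀] S₀

/-- The base change of the module. -/
abbrev MOf (A : Type u) [CommRing A] [Algebra R₀ A] : Type u := SOf R₀ S₀ A ⊗[S₀] M₀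

variable {A B R : Type u} [CommRing A] [Algebra R₀ A] [CommRing B] [Algebra R₀ B] [CommRing R] [Algebra R₀ R]

/-- The canonical map of `M₀` to its base change. -/
noncomputable def betaOf (A : Type u) [CommRing A] [Algebra R₀ A] : M₀ →ₗ[R₀] MOf R₀ S₀ M₀ A :=
  ((TensorProduct.mk S₀ (SOf R₀ S₀ A) M₀) 1).restrictScalars R₀

theorem betaOf_apply (A : Type u) [CommRing A] [Algebra R₀ A] (m : M₀) :
    betaOf R₀ S₀ M₀ A m = (1 : SOf R₀ S₀ A) ⊗ₜ[S₀] m := rfl

theorem isBaseChange_betaOf (A : Type u) [CommRing A] [Algebra R₀ A] :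
    IsBaseChange A (betaOf R₀ S₀ M₀ A) := by
  refine IsBaseChange.of_equiv (Algebra.IsPushout.cancelBaseChange R₀ A S₀ (SOf R₀ S₀ A) M₀).symm fun m => ?_
  rw [Algebra.IsPushout.cancelBaseChange_symm_tmul, map_one]
  rfl

/-- Functoriality of the base change of the algebra. -/
noncomputable def sMap (φ : A →ₐ[R₀] B) : SOf R₀ S₀ A →ₐ[S₀] SOf R₀ S₀ B where
  toRingHom := (Algebra.TensorProduct.map φ (AlgHom.id R₀ S₀)).toRingHom
  commutes' s := by
    show Algebra.TensorProduct.map φ (AlgHom.id R₀ S₀) ((1 : A) ⊗ₜ[R₀] s) = (1 : B) ⊗ₜ[R₀] s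
    rw [Algebra.TensorProduct.map_tmul, map_one, AlgHom.id_apply]

@[simp] theorem sMap_tmul (φ : A →ₐ[R₀] B) (a : A) (s : S₀) :
    sMap R₀ S₀ φ (a ⊗ₜ[R₀] s) = φ a ⊗ₜ[R₀] s := by
  change Algebra.TensorProduct.map φ (AlgHom.id R₀ S₀) (a ⊗ₜ[R₀] s) = _
  rw [Algebra.TensorProduct.map_tmul, AlgHom.id_apply]

/-- Functoriality of the base change of the module. -/
noncomputable def mMap (φ : A →ₐ[R₀] B) : MOf R₀ S₀ M₀ A →ₗ[S₀] MOf R₀ S₀ M₀ B :=
  LinearMap.rTensor M₀ (sMap R₀ S₀ φ).toLinearMap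

theorem mMap_smul (φ : A →ₐ[R₀] B) (s : SOf R₀ S₀ A) (x : MOf R₀ S₀ M₀ A) :
    mMap R₀ S₀ M₀ φ (s • x) = sMap R₀ S₀ φ s • mMap R₀ S₀ M₀ φ x := by
  induction x using TensorProduct.induction_on with
  | zero => simp
  | tmul t m => simp [mMap, smul_tmul']
  | add a b ha hb => simp only [smul_add, map_add, ha, hb]

theorem mMap_smul_base (φ : A →ₐ[R₀] B) (a : A) (x : MOf R₀ S₀ M₀ A) :
    mMap R₀ S₀ M₀ φ (a • x) = φ a • mMap R₀ S₀ M₀ φ x := by
  rw [← algebraMap_smul (SOf R₀ S₀ A) a x, mMap_smul, ← algebraMap_smul (SOf R₀ S₀ B) (φ a)]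
  congr 1

@[simp] theorem mMap_betaOf (φ : A →ₐ[R₀] B) (m : M₀) :
    mMap R₀ S₀ M₀ φ (betaOf R₀ S₀ M₀ A m) = betaOf R₀ S₀ M₀ B m := by
  simp [mMap, betaOf]

theorem mMap_mMap {C : Type u} [CommRing C] [Algebra R₀ C] (φ : A →ₐ[R₀] B) (ψ : B →ₐ[R₀] C)
    (x : MOf R₀ S₀ M₀ A) : mMap R₀ S₀ M₀ ψ (mMap R₀ S₀ M₀ φ x) = mMap R₀ S₀ M₀ (ψ.comp φ) x := by
  induction x using TensorProduct.induction_on with
  | zero => simp
  | tmul t m =>
    simp only [mMap, LinearMap.rTensor_tmul, AlgHom.toLinearMap_apply]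
    congr 1
    induction t using TensorProduct.induction_on with
    | zero => simp
    | tmul a s => simp
    | add a b ha hb => simp only [map_add, ha, hb]
  | add a b ha hb => simp only [map_add, ha, hb]

theorem sMap_sMap {C : Type u} [CommRing C] [Algebra R₀ C] (φ : A →ₐ[R₀] B) (ψ : B →ₐ[R₀] C)
    (x : SOf R₀ S₀ A) : sMap R₀ S₀ ψ (sMap R₀ S₀ φ x) = sMap R₀ S₀ (ψ.comp φ) x := by
  induction x using TensorProduct.induction_on with
  | zero => simp
  | tmul a s => simp
  | add a b ha hb => simp only [map_add, ha, hb]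

omit [Algebra R₀ B] in
theorem exists_sMap_eq (x : SOf R₀ S₀ R) :
    ∃ (A : Subalgebra R₀ R) (_ : A.FG) (y : SOf R₀ S₀ A), sMap R₀ S₀ A.val y = x := by
  obtain ⟨A, hA, y, hy⟩ := TensorProduct.Algebra.exists_of_fg x
  refine ⟨A, hA, y, ?_⟩
  rw [← hy]
  clear hy
  induction y using TensorProduct.induction_on with
  | zero => simp
  | tmul a s => simp
  | add a b ha hb => simp only [map_add, ha, hb]

theorem equiv_mMap (φ : A →ₐ[R₀] B) (x : MOf R₀ S₀ M₀ A) :
    (isBaseChange_betaOf R₀ S₀ M₀ B).equiv.symm (mMap R₀ S₀ M₀ φ x) =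
      φ.toLinearMap.rTensor M₀ ((isBaseChange_betaOf R₀ S₀ M₀ A).equiv.symm x) := by
  obtain ⟨w, rfl⟩ := (isBaseChange_betaOf R₀ S₀ M₀ A).equiv.surjective x
  rw [LinearEquiv.symm_apply_apply, LinearEquiv.symm_apply_eq]
  induction w using TensorProduct.induction_on with
  | zero => simp
  | tmul a m =>
    rw [IsBaseChange.equiv_tmul, LinearMap.rTensor_tmul, IsBaseChange.equiv_tmul, mMap_smul_base,
      mMap_betaOf]
    rfl
  | add a b ha hb => simp only [map_add, ha, hb]

theorem exists_mMap_eq (x : MOf R₀ S₀ M₀ R) :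
    ∃ (A : Subalgebra R₀ R) (_ : A.FG) (y : MOf R₀ S₀ M₀ A), mMap R₀ S₀ M₀ A.val y = x := by
  obtain ⟨A, hA, y, hy⟩ := TensorProduct.Algebra.exists_of_fg ((isBaseChange_betaOf R₀ S₀ M₀ R).equiv.symm x)
  refine ⟨A, hA, (isBaseChange_betaOf R₀ S₀ M₀ A).equiv y, (isBaseChange_betaOf R₀ S₀ M₀ R).equiv.symm.injective ?_⟩
  rw [equiv_mMap, LinearEquiv.symm_apply_apply, hy]

theorem exists_mMap_eq_zero {A : Subalgebra R₀ R} (hA : A.FG) {x : MOf R₀ S₀ M₀ A}
    (hx : mMap R₀ S₀ M₀ A.val x = 0) :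
    ∃ (B : Subalgebra R₀ R) (hAB : A ≤ B), B.FG ∧ mMap R₀ S₀ M₀ (Subalgebra.inclusion hAB) x = 0 := by
  have h := congrArg (isBaseChange_betaOf R₀ S₀ M₀ R).equiv.symm hx
  rw [equiv_mMap, map_zero, ← map_zero (A.val.toLinearMap.rTensor M₀)] at h
  obtain ⟨B, hAB, hB, h'⟩ := TensorProduct.Algebra.eq_of_fg_of_subtype_eq hA h
  refine ⟨B, hAB, hB, (isBaseChange_betaOf R₀ S₀ M₀ B).equiv.symm.injective ?_⟩
  rw [equiv_mMap, h', map_zero, map_zero]

set_option maxHeartbeats 2000000 in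
set_option synthInstance.maxHeartbeats 200000 in
/-- A finitely generated subalgebra of `R` over which the module is already flat at the prime under `q`,
and stays flat over all larger ones. -/
theorem exists_stage_flat [IsNoetherianRing R₀] [Algebra.FiniteType R₀ S₀] [Module.Finite S₀ M₀]
    (q : Ideal (SOf R₀ S₀ R)) [q.IsPrime]
    [hflat : Module.Flat R (LocalizedModule q.primeCompl (MOf R₀ S₀ M₀ R))] :
    ∃ A : Subalgebra R₀ R, A.FG ∧ ∀ B : Subalgebra R₀ R, B.FG → A ≤ B →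
      Module.Flat B (LocalizedModule (q.comap (sMap R₀ S₀ B.val)).primeCompl (MOf R₀ S₀ M₀ B)) := by
  classical
  have : IsNoetherianRing S₀ := Algebra.FiniteType.isNoetherianRing R₀ S₀
  let p : Ideal R₀ := q.comap (algebraMap R₀ (SOf R₀ S₀ R))
  obtain ⟨g, hg, ι, Ψ, hinj, hsurj⟩ := exists_free_mod_prime S₀ M₀ p
  have : Module.Finite R₀ p := Module.Finite.iff_fg.mpr (IsNoetherian.noetherian p)
  have := finite_tensor_left (R := R₀) (S := S₀) (M := M₀) (J := p)
  let F : M₀ ⊗[R₀] p →ₗ[S₀] M₀ ⊗[R₀] R₀ := AlgebraTensorModule.lTensor S₀ M₀ p.subtype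
  obtain ⟨t, ht⟩ : (LinearMap.ker F).FG := IsNoetherian.noetherian _
  obtain ⟨n, a, ha⟩ := Module.Finite.exists_fin (R := R₀) (M := p)
  -- the relations over `R` come from a finitely generated subalgebra
  have hz : ∀ z ∈ t, ∃ A : Subalgebra R₀ R, A.FG ∧ ∀ B : Subalgebra R₀ R, B.FG → A ≤ B →
      ∃ σ : SOf R₀ S₀ B, sMap R₀ S₀ B.val σ ∉ q ∧
        σ • tensorIdealMap B (betaOf R₀ S₀ M₀ B) p z = 0 := by
    intro z hz
    have hz0 : F z = 0 := LinearMap.mem_ker.mp (ht ▸ Submodule.subset_span hz)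
    -- write `z` on the generators of `p`
    obtain ⟨m, hm⟩ : ∃ m : Fin n → M₀, z = ∑ i, m i ⊗ₜ[R₀] a i := by
      clear hz hz0
      induction z with
      | zero => exact ⟨0, by simp⟩
      | tmul x b =>
        obtain ⟨c, hc⟩ := (Submodule.mem_span_range_iff_exists_fun R₀).mp (ha ▸ Submodule.mem_top (x := b))
        refine ⟨fun i => c i • x, ?_⟩
        simp only [smul_tmul]
        rw [← tmul_sum, hc]
      | add x y hx hy =>
        obtain ⟨m, rfl⟩ := hx
        obtain ⟨m', rfl⟩ := hy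
        exact ⟨m + m', by simp [add_tmul, Finset.sum_add_distrib]⟩
    let pR := p.map (algebraMap R₀ R)
    let aR : Fin n → pR := fun i => ⟨algebraMap R₀ R (a i).1, Ideal.mem_map_of_mem _ (a i).2⟩
    have haR : Submodule.span R (Set.range aR) = ⊤ := by
      refine Submodule.map_injective_of_injective pR.injective_subtype ?_
      rw [Submodule.map_span, Submodule.map_top, Submodule.range_subtype]
      refine le_antisymm (Submodule.span_le.mpr ?_) (Ideal.map_le_iff_le_comap.mpr fun x hx => ?_)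
      · rintro _ ⟨_, ⟨i, rfl⟩, rfl⟩
        exact (aR i).2
      · obtain ⟨c, hc⟩ := (Submodule.mem_span_range_iff_exists_fun R₀).mp
          (ha ▸ Submodule.mem_top (x := (⟨x, hx⟩ : p)))
        have hx' : x = ∑ i, c i * (a i).1 := by
          have := congrArg Subtype.val hc
          simpa using this.symm
        rw [Ideal.mem_comap, hx', map_sum]
        refine Submodule.sum_mem _ fun i _ => ?_
        rw [map_mul]
        exact Submodule.smul_mem _ _ (Submodule.subset_span ⟨aR i, ⟨i, rfl⟩, rfl⟩)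
    let zR := tensorIdealMap R (betaOf R₀ S₀ M₀ R) p z
    have hzR : zR = ∑ i, betaOf R₀ S₀ M₀ R (m i) ⊗ₜ[R] aR i := by
      simp [zR, hm, aR]
    have hzR0 : pR.subtype.lTensor (MOf R₀ S₀ M₀ R) zR = 0 := by
      apply (TensorProduct.rid R (MOf R₀ S₀ M₀ R)).injective
      have h := congrArg (betaOf R₀ S₀ M₀ R) (congrArg (TensorProduct.rid R₀ M₀) hz0)
      rw [hm] at h
      simpa [hzR, F, aR, map_sum, algebraMap_smul] using h
    obtain ⟨s, hs, hsz⟩ := exists_smul_eq_zero_of_flat_localized (R := R) q pR.subtype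
      Subtype.val_injective zR hzR0
    obtain ⟨k, c, y, hy1, hy2⟩ := vanishesTrivially_of_sum_tmul_eq_zero R haR
      (n := fun i => s • betaOf R₀ S₀ M₀ R (m i)) (by
        apply (TensorProduct.comm R pR (MOf R₀ S₀ M₀ R)).injective
        rw [hzR, Finset.smul_sum] at hsz
        simpa [map_sum, smul_tmul'] using hsz)
    -- a common stage for the finitely many data
    obtain ⟨As, hAs, s', hs'⟩ := exists_sMap_eq R₀ S₀ s
    choose Ay hAy y' hy' using fun j => exists_mMap_eq R₀ S₀ M₀ (y j)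
    let A₁ : Subalgebra R₀ R := (As ⊔ Algebra.adjoin R₀ (Set.range fun x : Fin n × Fin k => c x.1 x.2)) ⊔
      Finset.univ.sup Ay
    have hA₁ : A₁.FG := (hAs.sup (Subalgebra.fg_def.mpr ⟨_, Set.finite_range _, rfl⟩)).sup (by
        refine Finset.sup_induction Subalgebra.fg_bot (fun A hA B hB => hA.sup hB) fun j _ => hAy j)
    have hle_y : ∀ j, Ay j ≤ A₁ := fun j => le_sup_of_le_right (Finset.le_sup (Finset.mem_univ j))
    have hle_c : ∀ i j, c i j ∈ A₁ := fun i j =>
      (le_sup_of_le_left le_sup_right : _ ≤ A₁) (Algebra.subset_adjoin ⟨(i, j), rfl⟩)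
    have hle_s : As ≤ A₁ := le_sup_of_le_left le_sup_left
    let s₁ := sMap R₀ S₀ (Subalgebra.inclusion hle_s) s'
    let y₁ := fun j => mMap R₀ S₀ M₀ (Subalgebra.inclusion (hle_y j)) (y' j)
    have hs₁ : sMap R₀ S₀ A₁.val s₁ = s := by
      rw [sMap_sMap, Subalgebra.val_comp_inclusion, hs']
    have hy₁ : ∀ j, mMap R₀ S₀ M₀ A₁.val (y₁ j) = y j := fun j => by
      rw [mMap_mMap, Subalgebra.val_comp_inclusion, hy']
    let d : Fin n → MOf R₀ S₀ M₀ A₁ := fun i =>
      s₁ • betaOf R₀ S₀ M₀ A₁ (m i) - ∑ j, (⟨c i j, hle_c i j⟩ : A₁) • y₁ j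
    have hd : ∀ i, mMap R₀ S₀ M₀ A₁.val (d i) = 0 := fun i => by
      simp only [d, map_sub, map_sum, mMap_smul, mMap_smul_base, mMap_betaOf, hs₁, hy₁]
      rw [sub_eq_zero]
      exact hy1 i
    choose B' hB' hB'fg hB'0 using fun i => exists_mMap_eq_zero R₀ S₀ M₀ hA₁ (hd i)
    refine ⟨A₁ ⊔ Finset.univ.sup B', hA₁.sup
      (Finset.sup_induction Subalgebra.fg_bot (fun A hA B hB => hA.sup hB) fun i _ => hB'fg i),
      fun B hB hAB => ?_⟩
    have hAB₁ : A₁ ≤ B := le_sup_left.trans hAB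
    have hdB : ∀ i, mMap R₀ S₀ M₀ (Subalgebra.inclusion hAB₁) (d i) = 0 := fun i => by
      have hle : B' i ≤ B := (Finset.le_sup (Finset.mem_univ i)).trans (le_sup_right.trans hAB)
      rw [show Subalgebra.inclusion hAB₁ = (Subalgebra.inclusion hle).comp
        (Subalgebra.inclusion (hB' i)) from rfl, ← mMap_mMap, hB'0 i, map_zero]
    refine ⟨sMap R₀ S₀ (Subalgebra.inclusion hAB₁) s₁, ?_, ?_⟩
    · rw [sMap_sMap, Subalgebra.val_comp_inclusion, hs₁]
      exact hs
    let aB : Fin n → p.map (algebraMap R₀ B) :=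
      fun i => ⟨algebraMap R₀ B (a i).1, Ideal.mem_map_of_mem _ (a i).2⟩
    let yB := fun j => mMap R₀ S₀ M₀ (Subalgebra.inclusion hAB₁) (y₁ j)
    let cB : Fin n → Fin k → B := fun i j => ⟨c i j, hAB₁ (hle_c i j)⟩
    have hrel : ∀ j, ∑ i, cB i j • aB i = 0 := fun j => by
      refine Subtype.ext (Subtype.ext ?_)
      have := congrArg Subtype.val (hy2 j)
      simpa [cB, aB, aR] using this
    have heq : ∀ i, sMap R₀ S₀ (Subalgebra.inclusion hAB₁) s₁ • betaOf R₀ S₀ M₀ B (m i) =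
        ∑ j, cB i j • yB j := fun i => by
      have := hdB i
      simp only [d, map_sub, map_sum, mMap_smul, mMap_smul_base, mMap_betaOf, sub_eq_zero] at this
      exact this
    calc _ = ∑ i, (sMap R₀ S₀ (Subalgebra.inclusion hAB₁) s₁ • betaOf R₀ S₀ M₀ B (m i)) ⊗ₜ[B] aB i := by
          simp [hm, map_sum, Finset.smul_sum, smul_tmul', aB]
      _ = ∑ j, yB j ⊗ₜ[B] (∑ i, cB i j • aB i) := by
          simp only [heq, sum_tmul, tmul_sum, smul_tmul]
          exact Finset.sum_comm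
      _ = 0 := by simp [hrel]
  choose! Az hAz hAzB using hz
  refine ⟨t.sup Az, Finset.sup_induction Subalgebra.fg_bot (fun A hA B hB => hA.sup hB) hAz,
    fun B hB hAB => ?_⟩
  have : IsNoetherianRing B := isNoetherianRing_of_fg hB
  have : Algebra.FiniteType B (SOf R₀ S₀ B) := inferInstance
  have : IsNoetherianRing (SOf R₀ S₀ B) := Algebra.FiniteType.isNoetherianRing B _
  have : Module.Finite (SOf R₀ S₀ B) (MOf R₀ S₀ M₀ B) := inferInstance
  let qB := q.comap (sMap R₀ S₀ B.val)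
  have hcomp : ∀ r : R₀, sMap R₀ S₀ B.val (algebraMap R₀ (SOf R₀ S₀ B) r) =
      algebraMap R₀ (SOf R₀ S₀ R) r := fun r => by
    simp [Algebra.TensorProduct.algebraMap_apply]
  have hgq : algebraMap R₀ (SOf R₀ S₀ B) g ∉ qB := fun h => hg (by
    have h' : sMap R₀ S₀ B.val (algebraMap R₀ (SOf R₀ S₀ B) g) ∈ q := h
    rwa [hcomp] at h')
  choose! σ hσ hσz using fun z hz => hAzB z hz B hB ((Finset.le_sup hz).trans hAB)
  refine flat_localizedModule_of_killed (p.map (algebraMap R₀ B)) qB ?_ (fun y hy => ?_) (fun J z hz => ?_)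
  · rw [Ideal.map_le_iff_le_comap, Ideal.map_le_iff_le_comap]
    intro r hr
    show sMap R₀ S₀ B.val (algebraMap B _ (algebraMap R₀ B r)) ∈ q
    rw [← IsScalarTower.algebraMap_apply, hcomp]
    exact hr
  · obtain ⟨k, hk⟩ := exists_pow_smul_mem_span_ker B (betaOf R₀ S₀ M₀ B) p
      (isBaseChange_betaOf R₀ S₀ M₀ B) g Ψ hinj hsurj y hy
    have hprod : (∏ z ∈ t, σ z) ∉ qB := fun h => by
      obtain ⟨z, hz, hzq⟩ := (‹q.IsPrime›.comap (sMap R₀ S₀ B.val)).prod_mem_iff.mp h
      exact hσ z hz hzq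
    refine ⟨(∏ z ∈ t, σ z) * algebraMap R₀ _ (g ^ k), fun h => ?_, ?_⟩
    · rcases (‹q.IsPrime›.comap (sMap R₀ S₀ B.val)).mem_or_mem h with h | h
      · exact hprod h
      · exact hgq ((‹q.IsPrime›.comap (sMap R₀ S₀ B.val)).mem_of_pow_mem k (by rwa [map_pow] at h))
    rw [mul_smul, algebraMap_smul]
    clear hy
    generalize g ^ k • y = y' at hk ⊢
    induction hk using Submodule.span_induction with
    | mem w hw =>
      obtain ⟨x, hx, rfl⟩ := hw
      have hxmem : x ∈ Submodule.span S₀ (t : Set (M₀ ⊗[R₀] p)) := ht ▸ LinearMap.mem_ker.mpr hx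
      clear hx
      induction hxmem using Submodule.span_induction with
      | mem x hx =>
        rw [← Finset.prod_erase_mul _ _ hx, mul_smul, hσz x hx, smul_zero]
      | zero => rw [map_zero, smul_zero]
      | add x z _ _ hx hz => rw [map_add, smul_add, hx, hz, add_zero]
      | smul r x hxs hx =>
        have : tensorIdealMap B (betaOf R₀ S₀ M₀ B) p (r • x) =
            algebraMap S₀ (SOf R₀ S₀ B) r • tensorIdealMap B (betaOf R₀ S₀ M₀ B) p x := by
          clear hx hxs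
          induction x using TensorProduct.induction_on with
          | zero => simp
          | tmul m b => simp [smul_tmul', betaOf]
          | add x z hx hz =>
            rw [smul_add, map_add, map_add, smul_add]
            exact congrArg₂ (· + ·) hx hz
        rw [this, smul_comm, hx, smul_zero]
    | zero => rw [smul_zero]
    | add x z _ _ hx hz => rw [smul_add, hx, hz, add_zero]
    | smul r x _ hx => rw [smul_comm, hx, smul_zero]
  · let e := fun (N : Type u) [AddCommGroup N] [Module R₀ N] [Module B N] [IsScalarTower R₀ B N] =>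
      baseChangeTensorEquiv (isBaseChange_betaOf R₀ S₀ M₀ B) N
    let f := (Submodule.map (Submodule.mkQ (p.map (algebraMap R₀ B))) J).subtype
    obtain ⟨w, rfl⟩ := (e _).symm.surjective z
    have hnat : ∀ w, (e _).symm ((f.restrictScalars R₀).lTensor M₀ w) =
        f.lTensor (MOf R₀ S₀ M₀ B) ((e _).symm w) := by
      intro w
      induction w with
      | zero => simp
      | tmul m j => simp [e, baseChangeTensorEquiv_symm_tmul]
      | add a b ha hb => simp only [map_add, ha, hb]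
    obtain ⟨k, hk⟩ := exists_pow_smul_eq_zero_of_killed p g Ψ hinj hsurj (f.restrictScalars R₀)
      Subtype.val_injective (fun b hb y => by
        obtain ⟨y, rfl⟩ := Submodule.mkQ_surjective _ y
        rw [← algebraMap_smul B b, ← map_smul, Submodule.mkQ_apply, Submodule.Quotient.mk_eq_zero,
          smul_eq_mul]
        exact Ideal.mul_mem_right _ _ (Ideal.mem_map_of_mem _ hb))
      w ((e _).symm.injective (by rw [hnat, map_zero]; exact hz))
    refine ⟨algebraMap R₀ _ (g ^ k), fun h => hgq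
      ((‹q.IsPrime›.comap (sMap R₀ S₀ B.val)).mem_of_pow_mem k (by rwa [map_pow] at h)), ?_⟩
    rw [algebraMap_smul, ← map_smul, hk, map_zero]

end Stage

end Groth.FlatMorOne
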