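import Groth.Agent.FlatMorOne.FlatLocusScheme
import Groth.Agent.GenericFree.Presentation

/-! Generic flatness for a module over an integral base. -/

universe u

open TensorProduct CategoryTheory AlgebraicGeometry Groth.Flatmor4

namespace Groth.FlatMorOne

/-- The obstruction to injectivity is killed by the submonoid at which `M` becomes flat. -/
theorem exists_smul_eq_zero_of_flat_submonoid {R S M : Type u} [CommRing R] [CommRing S]
    [Algebra R S] [AddCommGroup M] [Module R M] [Module S M] [IsScalarTower R S M]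
    (T : Submonoid S) [Module.Flat R (LocalizedModule T M)]
    {A B : Type u} [AddCommGroup A] [Module R A] [AddCommGroup B] [Module R B] (f : A →ₗ[R] B)
    (hf : Function.Injective f) (z : M ⊗[R] A) (hz : f.lTensor M z = 0) :
    ∃ s ∈ T, s • z = 0 := by
  have h0 : AlgebraTensorModule.rTensor R A (LocalizedModule.mkLinearMap T M) z = 0 := by
    refine Module.Flat.lTensor_preserves_injective_linearMap f hf ?_
    have key : ∀ z : M ⊗[R] A,
        f.lTensor _ (AlgebraTensorModule.rTensor R A (LocalizedModule.mkLinearMap T M) z) =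
          AlgebraTensorModule.rTensor R B (LocalizedModule.mkLinearMap T M) (f.lTensor M z) := by
      intro z
      induction z with
      | zero => simp
      | tmul m x => simp
      | add x y hx hy => simp only [map_add, hx, hy]
    rw [key, hz, map_zero, map_zero]
  obtain ⟨⟨s, hs⟩, hsz⟩ := (IsLocalizedModule.eq_zero_iff T
    (AlgebraTensorModule.rTensor R A (LocalizedModule.mkLinearMap T M))).mp h0
  exact ⟨s, hs, hsz⟩

/-- Over a domain, a finite module over a finite type algebra is flat at all primes above some `D(f)`. -/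
theorem exists_flat_localized_above_basicOpen {R : Type u} [CommRing R] [IsDomain R] (S : Type u) [CommRing S]
    [Algebra R S] [Algebra.FiniteType R S] (M : Type u) [AddCommGroup M] [Module R M] [Module S M]
    [IsScalarTower R S M] [Module.Finite S M] :
    ∃ f : R, f ≠ 0 ∧ ∀ q : PrimeSpectrum S, algebraMap R S f ∉ q.asIdeal →
      Module.Flat R (LocalizedModule q.asIdeal.primeCompl M) := by
  obtain ⟨f, hf, hfree, -⟩ := (Groth.GenericFree.gf_of_finiteType (R := R) S M).exists_free
  have := hfree f hf dvd_rfl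
  have : Module.Flat R (LocalizedModule (Submonoid.powers f) M) := Module.Flat.trans R (Localization.Away f) _
  refine ⟨f, hf, fun q hq => ?_⟩
  rw [Module.Flat.iff_lTensor_preserves_injective_linearMap]
  intro N Y _ _ _ _ φ hφ
  refine lTensor_localized_injective_of_killed _ _ fun z hz => ?_
  obtain ⟨_, ⟨k, rfl⟩, hsz⟩ := exists_smul_eq_zero_of_flat_submonoid (S := R) (Submonoid.powers f) φ hφ z hz
  exact ⟨algebraMap R S (f ^ k), fun h => hq (q.isPrime.mem_of_pow_mem k (map_pow (algebraMap R S) f k ▸ h)),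
    by rw [algebraMap_smul]; exact hsz⟩

theorem exists_open_isFlatOverAt {X Y : Scheme.{u}} (u : X ⟶ Y) [IsIntegral Y]
    [LocallyOfFiniteType u] [QuasiCompact u] (F : X.Modules) [F.IsQuasicoherent]
    (hfin : ∀ (U : X.Opens), IsAffineOpen U → Module.Finite Γ(X, U) Γ(F, U)) :
    ∃ U : Y.Opens, (U : Set Y).Nonempty ∧ ∀ x : X, u.base x ∈ U → FlatMod.IsFlatOverAt u F x := by
  classical
  obtain ⟨_, ⟨V : Y.Opens, hV, rfl⟩, hyV, -⟩ :=
    Y.isBasis_affineOpens.exists_subset_of_mem_open (Set.mem_univ (genericPoint Y)) isOpen_univ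
  have : Nonempty V.toScheme := ⟨⟨_, hyV⟩⟩
  have hdom : IsDomain Γ(Y, V) := inferInstance
  obtain ⟨T, hTfin, hTeq⟩ := isCompact_and_isOpen_iff_finite_and_eq_biUnion_affineOpens.mp
    ⟨QuasiCompact.isCompact_preimage (f := u) _ V.2 (IsAffineOpen.isCompact hV), (u ⁻¹ᵁ V).2⟩
  have hle : ∀ W ∈ T, (W : X.affineOpens).1 ≤ u ⁻¹ᵁ V := fun W hW x hx => by
    show x ∈ ⇑u ⁻¹' V.carrier
    rw [hTeq]
    exact Set.mem_biUnion hW hx
  have hex : ∀ W ∈ T, ∃ f : Γ(Y, V), f ≠ 0 ∧ ∀ z : (W : X.affineOpens).1, u.base z.1 ∈ Y.basicOpen f →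
      FlatMod.IsFlatOverAt u F z.1 := by
    intro W hW
    letI := (u.appLE V W (hle W hW)).hom.toAlgebra
    letI := sectionModule u F (hle W hW)
    haveI : IsScalarTower Γ(Y, V) Γ(X, W) Γ(F, W) := .of_algebraMap_smul fun _ _ => rfl
    have : Algebra.FiniteType Γ(Y, V) Γ(X, W) := u.finiteType_appLE hV W.2 (hle W hW)
    have := hfin W W.2
    obtain ⟨f, hf, hflat⟩ := exists_flat_localized_above_basicOpen (R := Γ(Y, V)) Γ(X, W) Γ(F, W)
    refine ⟨f, hf, fun z hz => (isFlatOverAt_iff_localized u F W.2 hV (hle W hW) z).mpr (hflat _ ?_)⟩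
    intro hmem
    have h1 : z.1 ∈ X.basicOpen (u.appLE V W (hle W hW) f) := by
      rw [Scheme.basicOpen_appLE]; exact ⟨z.2, hz⟩
    rw [← W.2.fromSpec_primeIdealOf z] at h1
    change W.2.primeIdealOf z ∈ W.2.fromSpec ⁻¹ᵁ X.basicOpen _ at h1
    rw [IsAffineOpen.fromSpec_preimage_basicOpen] at h1
    exact (PrimeSpectrum.mem_basicOpen _ _).mp h1 hmem
  choose! f hf hflat using hex
  let g := ∏ W ∈ hTfin.toFinset, f W
  have hg : g ≠ 0 := Finset.prod_ne_zero_iff.mpr fun W hW => hf W (hTfin.mem_toFinset.mp hW)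
  refine ⟨Y.basicOpen g, ?_, fun x hx => ?_⟩
  · rw [Set.nonempty_iff_ne_empty]
    intro h
    exact hg ((AlgebraicGeometry.basicOpen_eq_bot_iff g).mp (TopologicalSpace.Opens.coe_eq_empty.mp h))
  · have hxV : x ∈ ⇑u ⁻¹' V.carrier := Y.basicOpen_le g hx
    rw [hTeq] at hxV
    simp only [Set.mem_iUnion] at hxV
    obtain ⟨W, hW, hxW⟩ := hxV
    refine hflat W hW ⟨x, hxW⟩ ?_
    have hdvd : g = f W * ∏ W' ∈ hTfin.toFinset.erase W, f W' :=
      (Finset.mul_prod_erase _ _ (hTfin.mem_toFinset.mpr hW)).symm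
    rw [hdvd, Scheme.basicOpen_mul] at hx
    exact hx.1

end Groth.FlatMorOne
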