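import Mathlib.AlgebraicGeometry.AffineScheme

/-! Prime avoidance: a finite set of points in an open of an affine scheme lies in a basic open contained in it. -/

universe u

open AlgebraicGeometry CategoryTheory TopologicalSpace

namespace Groth.FlatMorOne

theorem exists_basicOpen_finset {Z : Scheme.{u}} [IsAffine Z] (W : Z.Opens) (T : Finset Z)
    (hT : ∀ z ∈ T, z ∈ W) : ∃ h : Γ(Z, ⊤), (∀ z ∈ T, z ∈ Z.basicOpen h) ∧ Z.basicOpen h ≤ W := by
  classical
  have hZ : IsAffineOpen (⊤ : Z.Opens) := isAffineOpen_top Z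
  let K : Set (PrimeSpectrum Γ(Z, ⊤)) := {p | hZ.fromSpec p ∉ W}
  have hK : IsClosed K := W.2.isClosed_compl.preimage hZ.fromSpec.continuous
  let P (z : Z) : Ideal Γ(Z, ⊤) := (hZ.primeIdealOf ⟨z, trivial⟩).asIdeal
  have hnot : ¬ ((PrimeSpectrum.vanishingIdeal K : Set Γ(Z, ⊤)) ⊆ ⋃ z ∈ (T : Set Z), (P z : Set Γ(Z, ⊤))) := by
    intro hsub
    cases T.eq_empty_or_nonempty with
    | inl he => simpa [he] using hsub (zero_mem _)
    | inr hne =>
      obtain ⟨a, ha⟩ := hne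
      rw [Ideal.subset_union_prime a a (fun i _ _ _ => (hZ.primeIdealOf ⟨i, trivial⟩).2)] at hsub
      obtain ⟨z, hz, hle⟩ := hsub
      have hzK : hZ.primeIdealOf ⟨z, trivial⟩ ∈ K := by
        rw [← hK.closure_eq, ← PrimeSpectrum.zeroLocus_vanishingIdeal_eq_closure,
          PrimeSpectrum.mem_zeroLocus]
        exact hle
      apply hzK
      exact (congrArg (· ∈ W) (hZ.fromSpec_primeIdealOf ⟨z, trivial⟩)).mpr (hT z hz)
  obtain ⟨h, hhK, hhT⟩ := Set.not_subset.mp hnot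
  simp only [Set.mem_iUnion, not_exists] at hhT
  have key (z : Z) : z ∈ Z.basicOpen h ↔ h ∉ P z := by
    refine Iff.trans ?_ (PrimeSpectrum.mem_basicOpen h (hZ.primeIdealOf ⟨z, trivial⟩))
    refine Iff.trans ?_ (Iff.of_eq (congrArg (hZ.primeIdealOf ⟨z, trivial⟩ ∈ ·)
      (hZ.fromSpec_preimage_basicOpen h)))
    exact Iff.of_eq (congrArg (· ∈ Z.basicOpen h) (hZ.fromSpec_primeIdealOf ⟨z, trivial⟩).symm)
  refine ⟨h, fun z hz => (key z).mpr (hhT z hz), fun z hz => ?_⟩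
  by_contra hzW
  refine (key z).mp hz ((PrimeSpectrum.mem_vanishingIdeal _ _).mp hhK _ ?_)
  exact fun hmem => hzW ((congrArg (· ∈ W) (hZ.fromSpec_primeIdealOf ⟨z, trivial⟩)).mp hmem)

end Groth.FlatMorOne
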