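import Mathlib.AlgebraicGeometry.Morphisms.WeaklyEtale
import Mathlib.AlgebraicGeometry.Morphisms.FormallyUnramified
import Mathlib.RingTheory.Etale.Weakly
import Mathlib.LinearAlgebra.TensorProduct.Quotient
import Mathlib.RingTheory.Flat.Basic

/-! Weakly etale morphisms are formally unramified. -/

universe u

open TensorProduct CategoryTheory Limits AlgebraicGeometry

namespace Groth.FlatMorOne

/-- An ideal with flat quotient is idempotent. -/
theorem sq_eq_of_flat_quotient {T : Type*} [CommRing T] (I : Ideal T) [Module.Flat T (T ⧸ I)] :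
    I ^ 2 = I := by
  refine le_antisymm (Ideal.pow_le_self two_ne_zero) fun a ha => ?_
  have h0 : I.subtype.rTensor (T ⧸ I) ((⟨a, ha⟩ : I) ⊗ₜ[T] Ideal.Quotient.mk I 1) = 0 := by
    apply (TensorProduct.lid T (T ⧸ I)).injective
    simp [Algebra.smul_def, Ideal.Quotient.eq_zero_iff_mem.mpr ha]
  have h1 := Module.Flat.rTensor_preserves_injective_linearMap (M := T ⧸ I) I.subtype
    Subtype.val_injective (h0.trans (map_zero _).symm)
  have h2 := congrArg (TensorProduct.tensorQuotEquivQuotSMul I I) h1
  rw [map_zero, TensorProduct.tensorQuotEquivQuotSMul_tmul_mk, one_smul,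
    Submodule.Quotient.mk_eq_zero, Submodule.mem_smul_top_iff] at h2
  rwa [pow_two, ← smul_eq_mul]

theorem formallyUnramified_of_flat_lmul {R S : Type*} [CommRing R] [CommRing S] [Algebra R S]
    (h : (Algebra.TensorProduct.lmul' R (S := S)).toRingHom.Flat) :
    Algebra.FormallyUnramified R S := by
  let F := (Algebra.TensorProduct.lmul' R (S := S)).toRingHom
  letI : Algebra (S ⊗[R] S) S := F.toAlgebra
  have hS : Module.Flat (S ⊗[R] S) S := h
  let q : S ⊗[R] S →ₗ[S ⊗[R] S] S := Algebra.linearMap (S ⊗[R] S) S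
  have hq : Function.Surjective q := fun x => ⟨x ⊗ₜ 1, show F (x ⊗ₜ 1) = x by simp [F]⟩
  have hk : LinearMap.ker q = KaehlerDifferential.ideal R S := by
    ext x; rfl
  have : Module.Flat (S ⊗[R] S) ((S ⊗[R] S) ⧸ KaehlerDifferential.ideal R S) :=
    Module.Flat.of_linearEquiv ((Submodule.quotEquivOfEq _ _ hk.symm).trans
      (q.quotKerEquivOfSurjective hq))
  refine ⟨(Ideal.cotangent_subsingleton_iff _).mpr ?_⟩
  rw [IsIdempotentElem, ← pow_two]
  exact sq_eq_of_flat_quotient _

theorem formallyUnramified_of_weaklyEtale {R S : Type*} [CommRing R] [CommRing S] [Algebra R S]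
    [Algebra.WeaklyEtale R S] : Algebra.FormallyUnramified R S :=
  formallyUnramified_of_flat_lmul (Algebra.WeaklyEtale.flat_lmul' R S)

/-- A morphism with flat diagonal is formally unramified. -/
theorem formallyUnramified_of_flat_diagonal {X Y : Scheme.{u}} (f : X ⟶ Y)
    [Flat (pullback.diagonal f)] : FormallyUnramified f := by
  wlog hY : ∃ R, Y = Spec R
  · rw [IsZariskiLocalAtTarget.iff_of_openCover (P := @FormallyUnramified) Y.affineCover]
    intro i
    have inst : Flat (pullback.diagonal (pullback.snd f (Y.affineCover.f i))) :=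
      MorphismProperty.pullback_snd (P := .diagonal @Flat) _ _ ‹_›
    exact this (pullback.snd _ _) ⟨_, rfl⟩
  obtain ⟨R, rfl⟩ := hY
  wlog hX : ∃ S, X = Spec S generalizing X
  · rw [IsZariskiLocalAtSource.iff_of_openCover (P := @FormallyUnramified) X.affineCover]
    intro i
    have inst : Flat (pullback.diagonal (X.affineCover.f i ≫ f)) :=
      MorphismProperty.comp_mem (.diagonal @Flat) _ _
        (inferInstanceAs (Flat _)) ‹_›
    exact this (_ ≫ _) ⟨_, rfl⟩
  obtain ⟨S, rfl⟩ := hX
  obtain ⟨φ, rfl : Spec.map φ = f⟩ := Spec.homEquiv.symm.surjective f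
  rw [HasRingHomProperty.Spec_iff (P := @FormallyUnramified)]
  algebraize [φ.hom]
  let F := (Algebra.TensorProduct.lmul' R (S := S)).toRingHom
  have : Flat (Spec.map (CommRingCat.ofHom F)) := by
    rwa [← MorphismProperty.cancel_right_of_respectsIso (P := @Flat) _
      (pullbackSpecIso R S S).inv, ← AlgebraicGeometry.diagonal_SpecMap R S]
  rw [HasRingHomProperty.Spec_iff (P := @Flat)] at this
  exact formallyUnramified_of_flat_lmul this

end Groth.FlatMorOne
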