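import Groth.Agent.FlatMorOne.FlatLocusOpen

/-! Flatness of a module at the primes of an algebra below. -/

universe u

open TensorProduct

namespace Groth.FlatMorOne

variable {A B C M : Type u} [CommRing A] [CommRing B] [CommRing C] [Algebra A B] [Algebra B C] [Algebra A C]
  [IsScalarTower A B C] [AddCommGroup M] [Module C M] [Module B M] [Module A M]
  [IsScalarTower B C M] [IsScalarTower A C M] [IsScalarTower A B M]

/-- `M_q` is flat over `A` iff `M` is flat at every prime of `C` over a generization of `q`. -/
theorem flat_localized_iff_forall_above (q : Ideal B) [q.IsPrime] :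
    Module.Flat A (LocalizedModule q.primeCompl M) ↔
      ∀ r : PrimeSpectrum C, r.asIdeal.comap (algebraMap B C) ≤ q →
        Module.Flat A (LocalizedModule r.asIdeal.primeCompl M) := by
  constructor
  · intro h r hr
    rw [Module.Flat.iff_lTensor_preserves_injective_linearMap]
    intro N Y _ _ _ _ f hf
    refine lTensor_localized_injective_of_killed _ _ fun z hz => ?_
    obtain ⟨s, hs, hsz⟩ := exists_smul_eq_zero_of_flat_localized q f hf z hz
    exact ⟨algebraMap B C s, fun h => hs (hr h), by rw [algebraMap_smul]; exact hsz⟩
  · intro h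
    rw [Module.Flat.iff_lTensor_preserves_injective_linearMap]
    intro N Y _ _ _ _ f hf
    refine lTensor_localized_injective_of_killed _ _ fun z hz => ?_
    by_contra hno
    push Not at hno
    let ann : Ideal C := (Submodule.span C {z}).annihilator
    have hdis : Disjoint (ann : Set C) (q.primeCompl.map (algebraMap B C) : Submonoid C) := by
      rw [Set.disjoint_left]
      rintro c hc ⟨s, hs, rfl⟩
      exact hno s hs (by rw [← algebraMap_smul C]; exact Submodule.mem_annihilator_span_singleton _ _ |>.mp hc)
    obtain ⟨r, hr, hann, hdisj⟩ := Ideal.exists_le_prime_disjoint ann _ hdis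
    have hrq : r.comap (algebraMap B C) ≤ q := fun b hb => by
      by_contra hbq
      exact Set.disjoint_left.mp hdisj hb ⟨b, hbq, rfl⟩
    have := h ⟨r, hr⟩ hrq
    obtain ⟨c, hc, hcz⟩ := exists_smul_eq_zero_of_flat_localized r f hf z hz
    exact hc (hann ((Submodule.mem_annihilator_span_singleton _ _).mpr hcz))

/-- Openness of the locus of primes of `B` where a finitely presented module over a finitely presented
`B`-algebra is flat over `A`. -/
theorem isOpen_flatLocus_below (C : Type u) [CommRing C] [Algebra B C] [Algebra A C] [IsScalarTower A B C]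
    [Module C M] [IsScalarTower B C M] [IsScalarTower A C M]
    [Algebra.FinitePresentation A B] [Algebra.FinitePresentation B C] [Module.FinitePresentation C M] :
    IsOpen {q : PrimeSpectrum B | Module.Flat A (LocalizedModule q.asIdeal.primeCompl M)} := by
  have : Algebra.FinitePresentation A C := Algebra.FinitePresentation.trans A B C
  obtain ⟨J, hJ⟩ := (PrimeSpectrum.isClosed_iff_zeroLocus_ideal _).mp (isOpen_flatLocus A C M).isClosed_compl
  have hmem : ∀ r : PrimeSpectrum C, ¬ Module.Flat A (LocalizedModule r.asIdeal.primeCompl M) ↔ J ≤ r.asIdeal :=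
    fun r => Set.ext_iff.mp hJ r
  have : {q : PrimeSpectrum B | Module.Flat A (LocalizedModule q.asIdeal.primeCompl M)} =
      (PrimeSpectrum.zeroLocus (J.comap (algebraMap B C) : Set B))ᶜ := by
    ext q
    simp only [Set.mem_setOf_eq, Set.mem_compl_iff, PrimeSpectrum.mem_zeroLocus, SetLike.coe_subset_coe]
    rw [flat_localized_iff_forall_above (C := C)]
    constructor
    · intro h hle
      have hdis : Disjoint (J : Set C) (q.asIdeal.primeCompl.map (algebraMap B C) : Submonoid C) := by
        rw [Set.disjoint_left]
        rintro c hc ⟨s, hs, rfl⟩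
        exact hs (hle hc)
      obtain ⟨r, hr, hJr, hdisj⟩ := Ideal.exists_le_prime_disjoint J _ hdis
      refine (hmem ⟨r, hr⟩).mpr hJr (h ⟨r, hr⟩ fun b hb => ?_)
      by_contra hbq
      exact Set.disjoint_left.mp hdisj hb ⟨b, hbq, rfl⟩
    · intro h r hr
      by_contra hno
      exact h ((Ideal.comap_mono ((hmem r).mp hno)).trans hr)
  rw [this]
  exact (PrimeSpectrum.isClosed_zeroLocus _).isOpen_compl

end Groth.FlatMorOne
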