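import Groth.Agent.FlatMorOne.FlatLocusScheme
import Groth.Agent.FlatMorOne.FlatLocusRestrict

/-! Openness of the set of points of the base over whose generizations a module is flat. -/

universe u

open CategoryTheory AlgebraicGeometry Groth.Flatmor4

namespace Groth.FlatMorOne

theorem primeIdealOf_le_iff_specializes {Y : Scheme.{u}} {W : Y.Opens} (hW : IsAffineOpen W) (a b : W) :
    (hW.primeIdealOf a).asIdeal ≤ (hW.primeIdealOf b).asIdeal ↔ a.1 ⤳ b.1 := by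
  rw [PrimeSpectrum.asIdeal_le_asIdeal, PrimeSpectrum.le_iff_specializes]
  refine (hW.fromSpec.isOpenEmbedding.isInducing.specializes_iff).symm.trans ?_
  rw [hW.fromSpec_primeIdealOf, hW.fromSpec_primeIdealOf]

theorem comap_primeIdealOf_appLE' {X Y : Scheme.{u}} (f : X ⟶ Y) {W : Y.Opens} (hW : IsAffineOpen W)
    {U : X.Opens} (hU : IsAffineOpen U) (e : U ≤ f ⁻¹ᵁ W) (z : U) :
    (hU.primeIdealOf z).asIdeal.comap (f.appLE W U e).hom = (hW.primeIdealOf ⟨f z.1, e z.2⟩).asIdeal :=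
  congrArg PrimeSpectrum.asIdeal (IsAffineOpen.comap_primeIdealOf_appLE W hW U hU e z.2)

theorem isOpen_flat_over_all_generizations {X Y Z : Scheme.{u}} (f : X ⟶ Y) (g : Y ⟶ Z)
    [LocallyOfFinitePresentation f] [QuasiCompact f] [LocallyOfFinitePresentation g]
    (F : X.Modules) [F.IsQuasicoherent] (hF : CohB1.IsFP F) :
    IsOpen {y : Y | ∀ y' : Y, y' ⤳ y → ∀ x : X, f x = y' → FlatMod.IsFlatOverAt (f ≫ g) F x} := by
  rw [isOpen_iff_forall_mem_open]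
  intro y hy
  obtain ⟨_, ⟨V : Z.Opens, hV, rfl⟩, hgy, -⟩ :=
    Z.isBasis_affineOpens.exists_subset_of_mem_open (Set.mem_univ (g y)) isOpen_univ
  obtain ⟨_, ⟨W : Y.Opens, hW, rfl⟩, hyW, hle⟩ :=
    Y.isBasis_affineOpens.exists_subset_of_mem_open (show y ∈ g ⁻¹ᵁ V from hgy) (g ⁻¹ᵁ V).2
  have e1 : W ≤ g ⁻¹ᵁ V := hle
  obtain ⟨T, hTfin, hTeq⟩ := isCompact_and_isOpen_iff_finite_and_eq_biUnion_affineOpens.mp
    ⟨QuasiCompact.isCompact_preimage (f := f) _ W.2 (IsAffineOpen.isCompact hW), (f ⁻¹ᵁ W).2⟩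
  have e2 : ∀ U ∈ T, (U : X.affineOpens).1 ≤ f ⁻¹ᵁ W := fun U hU x hx => by
    show x ∈ ⇑f ⁻¹' W.carrier
    rw [hTeq]
    exact Set.mem_biUnion hU hx
  -- the condition on each piece is open
  have hpiece : ∀ U ∈ T, ∃ O : Set (PrimeSpectrum Γ(Y, W)), IsOpen O ∧ ∀ w : W,
      hW.primeIdealOf w ∈ O ↔ ∀ x ∈ (U : X.affineOpens).1, f x ⤳ w.1 → FlatMod.IsFlatOverAt (f ≫ g) F x := by
    intro U hU
    have e : U.1 ≤ (f ≫ g) ⁻¹ᵁ V := (e2 U hU).trans (f.preimage_mono e1)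
    letI := (g.appLE V W e1).hom.toAlgebra
    letI := (f.appLE W U (e2 U hU)).hom.toAlgebra
    letI := ((f ≫ g).appLE V U e).hom.toAlgebra
    haveI : IsScalarTower Γ(Z, V) Γ(Y, W) Γ(X, U) := IsScalarTower.of_algebraMap_eq' (by
      show _ = (g.appLE V W e1 ≫ f.appLE W U (e2 U hU)).hom
      rw [Scheme.Hom.appLE_comp_appLE]
      rfl)
    letI := sectionModule (f ≫ g) F e
    letI := sectionModule f F (e2 U hU)
    haveI : IsScalarTower Γ(Z, V) Γ(X, U) Γ(F, U) := .of_algebraMap_smul fun _ _ => rfl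
    haveI : IsScalarTower Γ(Y, W) Γ(X, U) Γ(F, U) := .of_algebraMap_smul fun _ _ => rfl
    haveI : IsScalarTower Γ(Z, V) Γ(Y, W) Γ(F, U) := IsScalarTower.of_algebraMap_smul fun r m => by
      rw [← algebraMap_smul Γ(X, U) (algebraMap Γ(Z, V) Γ(Y, W) r) m, ← IsScalarTower.algebraMap_apply,
        algebraMap_smul]
    have : Algebra.FinitePresentation Γ(Z, V) Γ(Y, W) := g.finitePresentation_appLE hV hW e1
    have : Algebra.FinitePresentation Γ(Y, W) Γ(X, U) := f.finitePresentation_appLE hW U.2 (e2 U hU)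
    have : Module.FinitePresentation Γ(X, U) Γ(F, U) :=
      Groth.PropsBasic.FPSections.finitePresentation_sections F hF U.2
    refine ⟨_, isOpen_flatLocus_below (A := Γ(Z, V)) (B := Γ(Y, W)) (M := Γ(F, U)) Γ(X, U), fun w => ?_⟩
    have hcomp : ∀ z : U.1, (U.2.primeIdealOf z).asIdeal.comap (algebraMap Γ(Y, W) Γ(X, U)) =
        (hW.primeIdealOf ⟨f z.1, e2 U hU z.2⟩).asIdeal :=
      fun z => comap_primeIdealOf_appLE' f hW U.2 (e2 U hU) z
    have hspec := primeIdealOf_le_iff_specializes hW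
    show Module.Flat Γ(Z, V) (LocalizedModule (hW.primeIdealOf w).asIdeal.primeCompl Γ(F, U)) ↔ _
    rw [flat_localized_iff_forall_above (C := Γ(X, U))]
    constructor
    · intro h x hx hsp
      refine (isFlatOverAt_iff_localized (f ≫ g) F U.2 hV e ⟨x, hx⟩).mpr (h _ ?_)
      rw [hcomp ⟨x, hx⟩]
      exact (hspec ⟨f x, _⟩ w).mpr hsp
    · intro h r hr
      obtain ⟨z, rfl⟩ : ∃ z : U.1, U.2.primeIdealOf z = r :=
        ⟨⟨U.2.fromSpec r, (U.2.range_fromSpec.le (Set.mem_range_self _) : U.2.fromSpec r ∈ U.1)⟩,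
          U.2.fromSpec.isOpenEmbedding.injective (U.2.fromSpec_primeIdealOf _)⟩
      rw [hcomp z] at hr
      exact (isFlatOverAt_iff_localized (f ≫ g) F U.2 hV e z).mp (h z.1 z.2 ((hspec _ w).mp hr))
  choose! O hO hOiff using hpiece
  refine ⟨Subtype.val '' ((fun w : W => hW.primeIdealOf w) ⁻¹' ⋂ U ∈ T, O U), ?_, ?_, ⟨⟨y, hyW⟩, ?_, rfl⟩⟩
  · rintro _ ⟨w, hw, rfl⟩ y' hy' x rfl
    have hxW : f x ∈ W := hy'.mem_open W.2 w.2
    have hxU : x ∈ ⇑f ⁻¹' W.carrier := hxW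
    rw [hTeq] at hxU
    simp only [Set.mem_iUnion] at hxU
    obtain ⟨U, hU, hxU⟩ := hxU
    exact (hOiff U hU w).mp (Set.mem_iInter₂.mp hw U hU) x hxU hy'
  · exact W.2.isOpenMap_subtype_val _ ((hTfin.isOpen_biInter hO).preimage hW.isoSpec.hom.continuous)
  · exact Set.mem_iInter₂.mpr fun U hU => (hOiff U hU ⟨y, hyW⟩).mpr fun x _ hsp => hy _ hsp x rfl

end Groth.FlatMorOne
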