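import Groth.Agent.FlatMorOne.GenFlatAlgebra
import Groth.Agent.FlatMorOne.FlatLocusModels
import Mathlib.RingTheory.Noetherian.Basic

/-! The flattening stratification by generic flatness, for rings. -/

universe u

open TensorProduct

namespace Groth.FlatMorOne

attribute [local instance] Algebra.TensorProduct.rightAlgebra

variable (A : Type u) [CommRing A] (M : Type u) [AddCommGroup M] [Module A M]

/-- `M` becomes flat on every algebra where `I` dies and `J` becomes the unit ideal. -/
def AlgStratFlat (I J : Ideal A) : Prop :=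
  ∀ (A' : Type u) [CommRing A'] [Algebra A A'], I.map (algebraMap A A') = ⊥ →
    J.map (algebraMap A A') = ⊤ → Module.Flat A' (A' ⊗[A] M)

/-- A chain of finitely generated ideals from `I` to the unit ideal with flat strata. -/
inductive AlgChain : Ideal A → Prop
  | top : AlgChain ⊤
  | cons (I J : Ideal A) : I.FG → I ≤ J → AlgStratFlat A M I J → AlgChain J → AlgChain I

variable {A M}

theorem algStratFlat_of_le_radical {I J J' : Ideal A} (hJ : J' ≤ J.radical)
    (h : AlgStratFlat A M I J) : AlgStratFlat A M I J' := by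
  intro A' _ _ hI hJ'
  refine h A' hI (Ideal.radical_eq_top.mp (top_le_iff.mp ?_))
  exact hJ'.ge.trans ((Ideal.map_mono hJ).trans (Ideal.map_radical_le _))

theorem exists_notMem_algStratFlat (B : Type u) [CommRing B] [Algebra A B] [Algebra.FiniteType A B]
    [Module B M] [IsScalarTower A B M] [Module.Finite B M] (I : Ideal A) (hI : I.IsRadical) (hne : I ≠ ⊤) :
    ∃ f ∉ I, AlgStratFlat A M I (I ⊔ Ideal.span {f}) := by
  classical
  let R := A ⧸ I
  have : IsReduced R := (Ideal.isRadical_iff_quotient_reduced I).mp hI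
  have : Nontrivial R := Ideal.Quotient.nontrivial_iff.mpr hne
  let S := R ⊗[A] B
  obtain ⟨n, φ, hφ⟩ := Algebra.FiniteType.iff_quotient_mvPolynomial''.mp
    (inferInstance : Algebra.FiniteType R S)
  let P := MvPolynomial (Fin n) R
  let N := S ⊗[B] M
  let _ : Algebra P S := φ.toRingHom.toAlgebra
  have : IsScalarTower R P S := IsScalarTower.of_algebraMap_eq fun r => (φ.commutes r).symm
  have : Module.Finite P S := Module.Finite.of_surjective (Algebra.linearMap P S) hφ
  have : Module.Finite P N := Module.Finite.trans S N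
  obtain ⟨f, hf, -, hfree, -⟩ := exists_good_mvPolynomial n N (1 : R) one_ne_zero
  obtain ⟨a, rfl⟩ := Ideal.Quotient.mk_surjective f
  refine ⟨a, fun h => hf (Ideal.Quotient.eq_zero_iff_mem.mpr h), fun A' _ _ hIA hJA => ?_⟩
  let Rf := Localization.Away (Ideal.Quotient.mk I a)
  let e : N ≃ₗ[R] R ⊗[A] M := Algebra.IsPushout.cancelBaseChange A R B S M
  have hflat : Module.Flat Rf (Rf ⊗[R] (R ⊗[A] M)) := by
    have := hfree.free_localized
    have : Module.Flat Rf (Rf ⊗[R] N) :=
      Module.Flat.of_linearEquiv (LocalizedModule.equivTensorProduct (Submonoid.powers _) N).symm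
    exact Module.Flat.of_linearEquiv (LinearEquiv.baseChange R Rf _ _ e).symm
  let ρ : R →+* A' := Ideal.Quotient.lift I (algebraMap A A') fun x hx => by
    have h := Ideal.mem_map_of_mem (algebraMap A A') hx
    rw [hIA] at h
    exact h
  have hu : IsUnit (ρ (Ideal.Quotient.mk I a)) := by
    rw [Ideal.map_sup, hIA, bot_sup_eq, Ideal.map_span, Set.image_singleton,
      Ideal.span_singleton_eq_top] at hJA
    exact hJA
  let _ : Algebra Rf A' := (IsLocalization.Away.lift (Ideal.Quotient.mk I a) hu).toAlgebra
  let _ : Algebra R A' := ρ.toAlgebra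
  have : IsScalarTower A R A' := IsScalarTower.of_algebraMap_eq fun x => (Ideal.Quotient.lift_mk I _ _).symm
  have : IsScalarTower R Rf A' := IsScalarTower.of_algebraMap_eq fun x =>
    (IsLocalization.Away.lift_eq (Ideal.Quotient.mk I a) hu x).symm
  exact Module.Flat.of_linearEquiv
    (AlgebraTensorModule.cancelBaseChange R Rf A' A' (R ⊗[A] M) ≪≫ₗ
      AlgebraTensorModule.cancelBaseChange A R A' A' M).symm

theorem exists_algChain_of_isNoetherianRing (B : Type u) [CommRing B] [Algebra A B] [Algebra.FiniteType A B]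
    [Module B M] [IsScalarTower A B M] [Module.Finite B M] [IsNoetherianRing A] (I : Ideal A)
    (hI : I.IsRadical) : AlgChain A M I := by
  induction I using IsNoetherian.induction with
  | _ I ih =>
    rcases eq_or_ne I ⊤ with rfl | hne
    · exact .top
    obtain ⟨f, hf, hflat⟩ := exists_notMem_algStratFlat (M := M) B I hI hne
    refine .cons I (Ideal.radical (I ⊔ Ideal.span {f})) (IsNoetherian.noetherian I)
      (le_sup_left.trans Ideal.le_radical) (algStratFlat_of_le_radical le_rfl hflat) (ih _ ?_ ?_)
    · refine lt_of_le_of_ne (le_sup_left.trans Ideal.le_radical) fun h => hf ?_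
      exact h ▸ Ideal.le_radical (Ideal.mem_sup_right (Ideal.mem_span_singleton_self f))
    · exact Ideal.radical_isRadical _

/-- Chains pull back along ring maps. -/
theorem AlgChain.map {A₀ : Type u} [CommRing A₀] [Algebra A₀ A] {M₀ : Type u} [AddCommGroup M₀]
    [Module A₀ M₀] (e : A ⊗[A₀] M₀ ≃ₗ[A] M) {I : Ideal A₀} (h : AlgChain A₀ M₀ I) :
    AlgChain A M (I.map (algebraMap A₀ A)) := by
  induction h with
  | top => rw [Ideal.map_top]; exact .top
  | cons I J hfg hle hflat _ ih =>
    refine .cons _ _ (hfg.map _) (Ideal.map_mono hle) (fun A' _ _ hI hJ => ?_) ih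
    let _ : Algebra A₀ A' := ((algebraMap A A').comp (algebraMap A₀ A)).toAlgebra
    have : IsScalarTower A₀ A A' := IsScalarTower.of_algebraMap_eq fun _ => rfl
    have := hflat A' (by rwa [Ideal.map_map] at hI) (by rwa [Ideal.map_map] at hJ)
    exact Module.Flat.of_linearEquiv
      ((LinearEquiv.baseChange A A' _ _ e).symm ≪≫ₗ AlgebraTensorModule.cancelBaseChange A₀ A A' A' M₀)

/-- Every finitely presented module over a finitely presented algebra has a chain with flat strata
starting in the nilradical. -/
theorem exists_algChain (R : Type u) [CommRing R] (S : Type u) [CommRing S] [Algebra R S]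
    [Algebra.FinitePresentation R S] (N : Type u) [AddCommGroup N] [Module R N] [Module S N]
    [IsScalarTower R S N] [Module.FinitePresentation S N] :
    ∃ I : Ideal R, I ≤ nilradical R ∧ AlgChain R N I := by
  obtain ⟨R₀, hR₀, S₀, _, _, _, _, hS₀, hpush, N₀, _, _, _, _, _, _, g, hN₀, hg⟩ := exists_models R S N
  have : IsNoetherianRing R₀ := Algebra.FiniteType.isNoetherianRing ℤ R₀
  let e : R ⊗[R₀] N₀ ≃ₗ[R] N :=
    (Algebra.IsPushout.cancelBaseChange R₀ R S₀ S N₀).symm ≪≫ₗ hg.equiv.restrictScalars R
  refine ⟨(nilradical R₀).map (algebraMap R₀ R), Ideal.map_le_iff_le_comap.mpr ?_,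
    (exists_algChain_of_isNoetherianRing (M := N₀) S₀ _ (Ideal.radical_isRadical _)).map e⟩
  exact fun x hx => (mem_nilradical.mp hx).map (algebraMap R₀ R)

end Groth.FlatMorOne
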