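import Mathlib

/-! Generators of minimal generic fibre rank over a reduced base. -/

universe u

open TensorProduct

namespace Groth.FlatMorOne

open MvPolynomial

/-- The prime of polynomials with all coefficients in `q`. -/
noncomputable def extPrime {R : Type u} [CommRing R] (n : ℕ) (q : PrimeSpectrum R) :
    PrimeSpectrum (MvPolynomial (Fin n) R) :=
  ⟨RingHom.ker (MvPolynomial.map (Ideal.Quotient.mk q.asIdeal)), RingHom.ker_isPrime _⟩

theorem mem_extPrime_iff {R : Type u} [CommRing R] {n : ℕ} (q : PrimeSpectrum R)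
    (p : MvPolynomial (Fin n) R) :
    p ∈ (extPrime n q).asIdeal ↔ ∀ v, coeff v p ∈ q.asIdeal := by
  show MvPolynomial.map (Ideal.Quotient.mk q.asIdeal) p = 0 ↔ _
  simp [MvPolynomial.ext_iff, coeff_map, Ideal.Quotient.eq_zero_iff_mem]

/-- For a finite module over a polynomial ring over a reduced ring and a nonzero `g`: generators of
`M` up to one polynomial `d`, all of whose coefficients are multiples of `g` and kill all relations. -/
theorem exists_generators_minimal_rank {R : Type u} [CommRing R] [IsReduced R] {n : ℕ}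
    (M : Type u) [AddCommGroup M] [Module (MvPolynomial (Fin n) R) M]
    [Module.Finite (MvPolynomial (Fin n) R) M] {g : R} (hg : g ≠ 0) :
    ∃ (r : ℕ) (m : Fin r → M) (d : MvPolynomial (Fin n) R), d ≠ 0 ∧ (∀ v, g ∣ coeff v d) ∧
      (∀ x, d • x ∈ LinearMap.range (Fintype.linearCombination (MvPolynomial (Fin n) R) m)) ∧
      ∀ v a, Fintype.linearCombination (MvPolynomial (Fin n) R) m a = 0 → ∀ i, C (coeff v d) * a i = 0 := by
  classical
  let P := MvPolynomial (Fin n) R
  let K := fun q : PrimeSpectrum R => (extPrime n q).asIdeal.ResidueField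
  let ρ := fun q : PrimeSpectrum R => Module.finrank (K q) (K q ⊗[P] M)
  have hne : ∃ q : PrimeSpectrum R, g ∉ q.asIdeal := by
    by_contra h
    push Not at h
    exact hg ((nilpotent_iff_mem_prime.mpr fun J hJ => h ⟨J, hJ⟩).eq_zero)
  have hex : ∃ r, ∃ q : PrimeSpectrum R, g ∉ q.asIdeal ∧ ρ q = r :=
    ⟨_, hne.choose, hne.choose_spec, rfl⟩
  obtain ⟨q, hgq, hq⟩ := Nat.find_spec hex
  have hmin : ∀ q' : PrimeSpectrum R, g ∉ q'.asIdeal → ρ q ≤ ρ q' := fun q' h =>
    hq.le.trans (Nat.find_min' hex ⟨q', h, rfl⟩)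
  let s : Set (K q ⊗[P] M) := Set.range fun x : M => (1 : K q) ⊗ₜ[P] x
  have hs : Submodule.span (K q) s = ⊤ := by
    refine eq_top_iff.mpr fun z _ => ?_
    induction z with
    | zero => exact zero_mem _
    | tmul a x =>
      rw [show a ⊗ₜ[P] x = a • ((1 : K q) ⊗ₜ[P] x) by rw [smul_tmul', smul_eq_mul, mul_one]]
      exact Submodule.smul_mem _ _ (Submodule.subset_span ⟨x, rfl⟩)
    | add a b ha hb => exact add_mem (ha trivial) (hb trivial)
  obtain ⟨e, he, hspan, -⟩ := Submodule.exists_fun_fin_finrank_span_eq (K q) s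
  choose m hm using he
  have hr : Module.finrank (K q) (Submodule.span (K q) s) = ρ q := by rw [hs, finrank_top]
  let L := Fintype.linearCombination P m
  -- the cokernel vanishes at `q`
  have hsupp : extPrime n q ∉ Module.support P (M ⧸ LinearMap.range L) := by
    rw [Module.mem_support_iff_nontrivial_residueField_tensorProduct, not_nontrivial_iff_subsingleton]
    refine subsingleton_of_forall_eq 0 fun z => ?_
    let π : K q ⊗[P] M →ₗ[K q] K q ⊗[P] (M ⧸ LinearMap.range L) := (LinearMap.range L).mkQ.baseChange (K q)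
    obtain ⟨w, rfl⟩ : ∃ w, π w = z := LinearMap.lTensor_surjective (K q) (Submodule.mkQ_surjective _) z
    have hw : w ∈ Submodule.span (K q) (Set.range e) := by rw [hspan, hs]; trivial
    induction hw using Submodule.span_induction with
    | mem y hy =>
      obtain ⟨i, rfl⟩ := hy
      rw [← hm i, LinearMap.baseChange_tmul, Submodule.mkQ_apply,
        (Submodule.Quotient.mk_eq_zero (LinearMap.range L)).mpr ⟨Pi.single i 1, by simp [L]⟩, tmul_zero]
    | zero => exact map_zero π
    | add a b _ _ ha hb => rw [map_add, ha, hb, add_zero]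
    | smul c a _ ha => rw [map_smul, ha, smul_zero]
  rw [Module.mem_support_iff_of_finite] at hsupp
  obtain ⟨d₀, hd₀, hd₀q⟩ := SetLike.not_le_iff_exists.mp hsupp
  refine ⟨_, m, C g * d₀, ?_, fun v => ?_, fun x => ?_, fun v a ha i => ?_⟩
  · intro h
    have : C g * d₀ ∈ (extPrime n q).asIdeal := h ▸ zero_mem _
    rcases (extPrime n q).isPrime.mem_or_mem this with h' | h'
    · exact hgq (by simpa using (mem_extPrime_iff q _).mp h' 0)
    · exact hd₀q h'
  · rw [coeff_C_mul]; exact dvd_mul_right _ _
  · have h0 : d₀ • (Submodule.Quotient.mk x : M ⧸ LinearMap.range L) = 0 := Module.mem_annihilator.mp hd₀ _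
    rw [← Submodule.Quotient.mk_smul, Submodule.Quotient.mk_eq_zero] at h0
    rw [mul_smul]
    exact Submodule.smul_mem _ _ h0
  · refine MvPolynomial.ext _ _ fun w => ?_
    rw [coeff_zero]
    refine (nilpotent_iff_mem_prime.mpr fun J hJ => ?_).eq_zero
    let q' : PrimeSpectrum R := ⟨J, hJ⟩
    rw [coeff_C_mul, coeff_C_mul]
    by_cases hc : g * coeff v d₀ ∈ J
    · exact J.mul_mem_right _ hc
    refine J.mul_mem_left _ ?_
    have hd' : d₀ ∉ (extPrime n q').asIdeal := fun h => hc (J.mul_mem_left _ ((mem_extPrime_iff q' _).mp h v))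
    have hgq' : g ∉ q'.asIdeal := fun h => hc (J.mul_mem_right _ h)
    have hu : algebraMap P (K q') d₀ ≠ 0 := fun h => hd' (Ideal.algebraMap_residueField_eq_zero.mp h)
    let e' : Fin _ → K q' ⊗[P] M := fun i => (1 : K q') ⊗ₜ[P] m i
    have htop : ⊤ ≤ Submodule.span (K q') (Set.range e') := by
      intro z _
      induction z with
      | zero => exact zero_mem _
      | add a b ha hb => exact add_mem (ha trivial) (hb trivial)
      | tmul c x =>
        obtain ⟨b, hb⟩ : d₀ • x ∈ LinearMap.range L := by
          have h0 : d₀ • (Submodule.Quotient.mk x : M ⧸ LinearMap.range L) = 0 := Module.mem_annihilator.mp hd₀ _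
          rwa [← Submodule.Quotient.mk_smul, Submodule.Quotient.mk_eq_zero] at h0
        have h1 : c ⊗ₜ[P] x = (c * (algebraMap P (K q') d₀)⁻¹) • ((1 : K q') ⊗ₜ[P] (d₀ • x)) := by
          rw [tmul_smul, ← algebraMap_smul (K q') d₀, smul_smul, mul_assoc, inv_mul_cancel₀ hu, mul_one,
            smul_tmul', smul_eq_mul, mul_one]
        rw [h1, ← hb, Fintype.linearCombination_apply, tmul_sum]
        refine Submodule.smul_mem _ _ (Submodule.sum_mem _ fun j _ => ?_)
        rw [tmul_smul, ← algebraMap_smul (K q') (b j)]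
        exact Submodule.smul_mem _ _ (Submodule.subset_span ⟨j, rfl⟩)
    have hcard : Fintype.card (Fin (Module.finrank (K q) (Submodule.span (K q) s))) = Module.finrank (K q') (K q' ⊗[P] M) := by
      refine le_antisymm ?_ ?_
      · rw [Fintype.card_fin, hr]; exact hmin q' hgq'
      · calc _ = Module.finrank (K q') (⊤ : Submodule (K q') (K q' ⊗[P] M)) := (finrank_top _ _).symm
          _ = (Set.range e').finrank (K q') := by rw [Set.finrank, top_le_iff.mp htop]
          _ ≤ _ := finrank_range_le_card e'
    have hli := Fintype.linearIndependent_iff.mp (linearIndependent_of_top_le_span_of_card_eq_finrank htop hcard)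
      (fun j => algebraMap P (K q') (a j)) (by
        simp only [e', algebraMap_smul, ← tmul_smul, ← tmul_sum]
        rw [← Fintype.linearCombination_apply P m, ha, tmul_zero]) i
    exact (mem_extPrime_iff q' _).mp (Ideal.algebraMap_residueField_eq_zero.mp hli) w

end Groth.FlatMorOne
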