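import Groth.Agent.GenericFree.VarChange

/-! Nagata's change of variables over an arbitrary ring. -/

universe u

namespace Groth.FlatMorOne

open MvPolynomial

variable {k : Type u} [CommRing k] {n : ℕ} (f : MvPolynomial (Fin (n + 1)) k)

/-- After the change of variables `T f`, some nonzero coefficient of `f` is the leading coefficient of
`f` in the first variable. -/
theorem exists_T_leadingCoeff [Nontrivial k] (fne : f ≠ 0) :
    ∃ v : Fin (n + 1) →₀ ℕ, coeff v f ≠ 0 ∧
      (finSuccEquiv k n (Groth.GenericFree.T f f)).leadingCoeff = C (coeff v f) := by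
  classical
  let e := (Groth.GenericFree.T f).trans (finSuccEquiv k n)
  let b := 2 + f.totalDegree
  let N : (Fin (n + 1) →₀ ℕ) → ℕ := fun v => ∑ i : Fin (n + 1), b ^ i.1 * v i
  let μ : (Fin (n + 1) →₀ ℕ) → Polynomial (MvPolynomial (Fin n) k) := fun v => ∏ i, e (X i) ^ v i
  have hX : ∀ i, (e (X i)).Monic ∧ (e (X i)).natDegree = b ^ i.1 := by
    intro i
    cases i using Fin.cases with
    | zero => simp [e, b, finSuccEquiv_X_zero, Polynomial.monic_X]
    | succ i =>
      have h : e (X i.succ) = Polynomial.X ^ (b ^ (i.succ : Fin (n + 1)).1) + Polynomial.C (X i) := by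
        simp [e, b, finSuccEquiv_X_succ, finSuccEquiv_X_zero, add_comm, Fin.succ_ne_zero]
      rw [h]
      exact ⟨Polynomial.monic_X_pow_add_C _ (pow_ne_zero _ (by simp [b])), Polynomial.natDegree_X_pow_add_C⟩
  have hμ : ∀ v, (μ v).Monic ∧ (μ v).natDegree = N v := fun v => by
    have hm : ∀ i ∈ (Finset.univ : Finset (Fin (n + 1))), (e (X i) ^ v i).Monic := fun i _ => (hX i).1.pow _
    refine ⟨Polynomial.monic_prod_of_monic _ _ hm, ?_⟩
    rw [Polynomial.natDegree_prod_of_monic _ _ hm]
    exact Finset.sum_congr rfl fun i _ => by rw [(hX i).1.natDegree_pow, (hX i).2, mul_comm]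
  have hsum : e f = ∑ v ∈ f.support, Polynomial.C (C (coeff v f)) * μ v := by
    conv_lhs => rw [f.as_sum]
    rw [map_sum]
    refine Finset.sum_congr rfl fun v _ => ?_
    rw [monomial_eq, map_mul, Finsupp.prod_fintype _ _ (fun i => pow_zero _), map_prod]
    congr 1
    · exact e.commutes (coeff v f)
    · exact Finset.prod_congr rfl fun i _ => map_pow _ _ _
  have hlt : ∀ v ∈ f.support, ∀ i, v i < b := fun v hv i =>
    lt_of_le_of_lt ((monomial_le_degreeOf i hv).trans (degreeOf_le_totalDegree f i)) (by simp [b])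
  have hinj : ∀ v ∈ f.support, ∀ w ∈ f.support, N v = N w → v = w := by
    intro v hv w hw h
    refine Finsupp.ext <| congrFun <| List.ofFn_inj.mp ?_
    apply Nat.ofDigits_inj_of_len_eq (b := b) (by simp [b]; omega) (by simp)
      (fun l hl => by obtain ⟨i, rfl⟩ := List.mem_ofFn.mp hl; exact hlt v hv i)
      (fun l hl => by obtain ⟨i, rfl⟩ := List.mem_ofFn.mp hl; exact hlt w hw i)
    simpa only [N, Nat.ofDigits_eq_sum_mapIdx, List.mapIdx_eq_ofFn, List.get_ofFn, List.length_ofFn,
      Fin.val_cast, mul_comm, List.sum_ofFn] using! h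
  obtain ⟨v, hv, hmax⟩ := Finset.exists_max_image f.support N (support_nonempty.mpr fne)
  refine ⟨v, mem_support_iff.mp hv, ?_⟩
  show (e f).leadingCoeff = _
  have hdeg : (e f).natDegree ≤ N v := by
    rw [hsum]
    exact Polynomial.natDegree_sum_le_of_forall_le _ _ fun w hw =>
      (Polynomial.natDegree_C_mul_le _ _).trans ((hμ w).2.le.trans (hmax w hw))
  have hcoeff : (e f).coeff (N v) = C (coeff v f) := by
    rw [hsum, Polynomial.finsetSum_coeff, Finset.sum_eq_single_of_mem v hv]
    · rw [Polynomial.coeff_C_mul, ← (hμ v).2, (hμ v).1.coeff_natDegree, mul_one]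
    · intro w hw hne
      rw [Polynomial.coeff_C_mul, Polynomial.coeff_eq_zero_of_natDegree_lt, mul_zero]
      rw [(hμ w).2]
      exact lt_of_le_of_ne (hmax w hw) fun h => hne (hinj w hw v hv h)
  have hne : C (coeff v f) ≠ (0 : MvPolynomial (Fin n) k) := by
    simpa using mem_support_iff.mp hv
  have : (e f).natDegree = N v :=
    le_antisymm hdeg (Polynomial.le_natDegree_of_ne_zero (hcoeff ▸ hne))
  rw [Polynomial.leadingCoeff, this, hcoeff]

end Groth.FlatMorOne
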