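import Groth.Agent.FlatMorOne.GenFlatGood
import Groth.Agent.FlatMorOne.GenFlatRank
import Groth.Agent.FlatMorOne.GenFlatVarChange
import Groth.Agent.GenericFree.Basic

/-! Generic flatness and finite presentation over a reduced base. -/

universe u

namespace Groth.FlatMorOne

open MvPolynomial

variable {R : Type u} [CommRing R]

theorem goodFree_range {n r : ℕ} {M : Type u} [AddCommGroup M] [Module (MvPolynomial (Fin n) R) M]
    [Module R M] [IsScalarTower R (MvPolynomial (Fin n) R) M]
    (θ : (Fin r → MvPolynomial (Fin n) R) →ₗ[MvPolynomial (Fin n) R] M) (c : R)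
    (hc : ∀ a, θ a = 0 → ∀ i, C c * a i = 0) :
    GoodFree c (LinearMap.range θ) ∧ GoodPres c (MvPolynomial (Fin n) R) (LinearMap.range θ) := by
  have hker : ∀ a, θ a = 0 → c • a = 0 := fun a ha => funext fun i => by
    rw [Pi.smul_apply, smul_eq_C_mul, hc a ha i]; rfl
  constructor
  · let b := Module.Free.chooseBasis R (Fin r → MvPolynomial (Fin n) R)
    refine ⟨_, (θ.rangeRestrict.restrictScalars R) ∘ₗ b.repr.symm.toLinearMap, fun x hx => ⟨1, ?_⟩,
      top_le_iff.mp fun y _ => le_satPow ?_⟩
    · rw [Submodule.mem_bot]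
      apply b.repr.symm.injective
      rw [map_smul, pow_one, map_zero]
      exact hker _ (congrArg Subtype.val (LinearMap.mem_ker.mp hx))
    · obtain ⟨a, ha⟩ := LinearMap.surjective_rangeRestrict θ y
      exact ⟨b.repr a, by simp [ha]⟩
  · refine ⟨r, θ.rangeRestrict, ⊥, Submodule.fg_bot, bot_le,
      top_le_iff.mp (le_trans (by rw [LinearMap.range_rangeRestrict]) le_satPow), fun u hu => ⟨1, ?_⟩⟩
    rw [Submodule.mem_bot, pow_one]
    exact hker u (congrArg Subtype.val (LinearMap.mem_ker.mp hu))

/-- Gluing along a submodule. -/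
theorem good_of_submodule {P M : Type u} [CommRing P] [Algebra R P] [AddCommGroup M] [Module R M]
    [Module P M] [IsScalarTower R P M] (f : R) (U : Submodule P M) (h1 : GoodFree f U) (h2 : GoodPres f P U)
    (h3 : GoodFree f (M ⧸ U)) (h4 : GoodPres f P (M ⧸ U)) : GoodFree f M ∧ GoodPres f P M :=
  ⟨GoodFree.of_exact (U.subtype.restrictScalars R) (U.mkQ.restrictScalars R) Subtype.val_injective
      (Submodule.mkQ_surjective _) (LinearMap.exact_subtype_mkQ U) h1 h3,
    GoodPres.of_exact U.subtype U.mkQ Subtype.val_injective (Submodule.mkQ_surjective _)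
      (LinearMap.exact_subtype_mkQ U) h2 h4⟩

set_option maxHeartbeats 1000000 in
/-- Over a reduced ring, every finite module over a polynomial ring is free and finitely presented after
inverting some nonzero multiple of a given nonzero element. -/
theorem exists_good_mvPolynomial [IsReduced R] :
    ∀ (n : ℕ) (M : Type u) [AddCommGroup M] [Module R M] [Module (MvPolynomial (Fin n) R) M]
      [IsScalarTower R (MvPolynomial (Fin n) R) M] [Module.Finite (MvPolynomial (Fin n) R) M]
      (g : R), g ≠ 0 → ∃ f : R, f ≠ 0 ∧ g ∣ f ∧ GoodFree f M ∧ GoodPres f (MvPolynomial (Fin n) R) M := by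
  intro n
  induction n with
  | zero =>
    intro M _ _ _ _ _ g hg
    obtain ⟨r, m, d, hd, hgd, hcok, hrel⟩ := exists_generators_minimal_rank (n := 0) M hg
    let θ := Fintype.linearCombination (MvPolynomial (Fin 0) R) m
    have hd' : d = C (coeff 0 d) := eq_C_of_isEmpty d
    have hc : coeff 0 d ≠ 0 := fun h => hd (by rw [hd', h, map_zero])
    obtain ⟨h1, h2⟩ := goodFree_range θ (coeff 0 d) (fun a ha i => hrel 0 a ha i)
    have hZ : ∀ z : M ⧸ LinearMap.range θ, ∃ k : ℕ, coeff 0 d ^ k • z = 0 := fun z => by
      refine ⟨1, ?_⟩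
      induction z using Submodule.Quotient.induction_on with
      | _ z =>
        rw [pow_one, ← Submodule.Quotient.mk_smul, Submodule.Quotient.mk_eq_zero,
          ← algebraMap_smul (MvPolynomial (Fin 0) R), MvPolynomial.algebraMap_eq, ← hd']
        exact hcok z
    exact ⟨coeff 0 d, hc, hgd 0, good_of_submodule (coeff 0 d) (LinearMap.range θ) h1 h2 (.of_killed hZ) (.of_killed hZ)⟩
  | succ n ih =>
    intro M _ _ _ _ _ g hg
    classical
    have : Nontrivial R := ⟨⟨g, 0, hg⟩⟩
    set P := MvPolynomial (Fin (n + 1)) R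
    set P' := MvPolynomial (Fin n) R
    obtain ⟨r, m, d, hd, hgd, hcok, hrel⟩ := exists_generators_minimal_rank (n := n + 1) M hg
    obtain ⟨v, hv, hlead⟩ := exists_T_leadingCoeff d hd
    let c := coeff v d
    let θ := Fintype.linearCombination P m
    let U := LinearMap.range θ
    obtain ⟨h1, h2⟩ := goodFree_range θ c (fun a ha i => hrel v a ha i)
    have hdC : ∀ z : M ⧸ U, d • z = 0 := fun z => by
      induction z using Submodule.Quotient.induction_on with
      | _ z => exact (Submodule.Quotient.mk_eq_zero U).mpr (hcok z)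
    let e : P ≃ₐ[R] Polynomial P' := (Groth.GenericFree.T d).trans (finSuccEquiv R n)
    let φ : P' →+* P := e.symm.toAlgHom.toRingHom.comp (Polynomial.C : P' →+* Polynomial P')
    let _ : Algebra P' P := φ.toAlgebra
    let _ : Module P' (M ⧸ U) := Module.compHom _ φ
    have hsm : ∀ (a : P') (z : M ⧸ U), a • z = e.symm (Polynomial.C a) • z := fun a z => rfl
    have : IsScalarTower P' P (M ⧸ U) := IsScalarTower.of_algebraMap_smul fun _ _ => rfl
    have : IsScalarTower R P' P := IsScalarTower.of_algebraMap_eq fun r => by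
      show _ = e.symm (Polynomial.C (algebraMap R P' r))
      rw [← Polynomial.algebraMap_apply, AlgEquiv.commutes]
    have : IsScalarTower R P' (M ⧸ U) := IsScalarTower.of_algebraMap_smul fun r z => by
      rw [hsm, ← Polynomial.algebraMap_apply, AlgEquiv.commutes, algebraMap_smul]
    have hX : Algebra.adjoin P' {e.symm Polynomial.X} = ⊤ := by
      refine Algebra.eq_top_iff.mpr fun p => ?_
      obtain ⟨q, rfl⟩ := e.symm.surjective p
      induction q using Polynomial.induction_on' with
      | add a b ha hb => rw [map_add]; exact add_mem ha hb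
      | monomial i a =>
        rw [← Polynomial.C_mul_X_pow_eq_monomial, map_mul, map_pow]
        exact mul_mem (Subalgebra.algebraMap_mem _ a) (pow_mem (Algebra.subset_adjoin (Set.mem_singleton _)) i)
    obtain ⟨s, hs⟩ := (Module.Finite.fg_top : (⊤ : Submodule P (M ⧸ U)).FG)
    let N : Submodule P' (M ⧸ U) := Submodule.span P'
      ↑((s ×ˢ Finset.range (e d).natDegree).image fun p => e.symm (Polynomial.X ^ p.2) • p.1)
    have : Module.Finite P' N := Module.Finite.span_finset P' _
    have hN := Groth.GenericFree.exists_pow_smul_mem (R := R) N e.symm.toAlgHom e.symm.surjective hsm (e d) c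
      hlead s hs
      (fun m _ => by simpa using hdC m)
      (fun m hm i hi => Submodule.subset_span (Finset.mem_coe.mpr (Finset.mem_image.mpr
        ⟨(m, i), Finset.mem_product.mpr ⟨hm, Finset.mem_range.mpr hi⟩, rfl⟩)))
    obtain ⟨f, hf, hcf, hNfree, hNpres⟩ := ih N c hv
    have hsat : satPow f (LinearMap.range (N.subtype.restrictScalars R)) = ⊤ :=
      top_le_iff.mp fun z _ => satPow_dvd hcf <| (hN z).imp fun k hk => ⟨⟨_, hk⟩, rfl⟩
    have hsat' : satPow f (LinearMap.range N.subtype) = ⊤ :=
      top_le_iff.mp fun z _ => satPow_dvd hcf <| (hN z).imp fun k hk => ⟨⟨_, hk⟩, rfl⟩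
    have hZfree : GoodFree f (M ⧸ U) := hNfree.of_cofinal (N.subtype.restrictScalars R) N.subtype_injective hsat
    have hZpres : GoodPres f P (M ⧸ U) :=
      GoodPres.extend (e.symm Polynomial.X) hX (hNpres.of_cofinal N.subtype N.subtype_injective hsat')
    exact ⟨f, hf, (hgd v).trans hcf, good_of_submodule f U (h1.mono hcf) (h2.mono hcf) hZfree hZpres⟩

end Groth.FlatMorOne
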