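import Groth.Agent.FlatMorOne.FlatnessCriteria

/-! A module over a local ring with nilpotent maximal ideal is free as soon as its base change
along an injective ring map is flat. -/

open TensorProduct

namespace Groth.FlatMorOne

theorem eq_top_of_top_le_sup_smul {A M : Type*} [CommRing A] [AddCommGroup M] [Module A M]
    {J : Ideal A} (hJ : IsNilpotent J) {N : Submodule A M}
    (h : (⊤ : Submodule A M) ≤ N ⊔ J • ⊤) : N = ⊤ := by
  have : ∀ n : ℕ, (⊤ : Submodule A M) ≤ N ⊔ J ^ n • ⊤ := by
    intro n
    induction n with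
    | zero => simp
    | succ n ih =>
      calc (⊤ : Submodule A M) ≤ N ⊔ J ^ n • ⊤ := ih
        _ ≤ N ⊔ J ^ n • (N ⊔ J • ⊤) := sup_le_sup_left (Submodule.smul_mono le_rfl h) _
        _ ≤ N ⊔ J ^ (n + 1) • ⊤ := by
            rw [Submodule.smul_sup, ← Submodule.smul_assoc, smul_eq_mul, ← pow_succ, ← sup_assoc]
            exact sup_le_sup_right (sup_le le_rfl Submodule.smul_le_right) _
  obtain ⟨n, hn⟩ := hJ
  have h' := this n
  rw [hn, Submodule.zero_eq_bot, Submodule.bot_smul, sup_bot_eq] at h'
  exact top_le_iff.mp h'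

theorem free_of_injective_of_flat_baseChange {A B : Type*} [CommRing A] [IsLocalRing A]
    [CommRing B] [Algebra A B] (hm : IsNilpotent (IsLocalRing.maximalIdeal A))
    (hinj : Function.Injective (algebraMap A B)) (M : Type*) [AddCommGroup M] [Module A M]
    [Module.Flat B (B ⊗[A] M)] : Module.Free A M := by
  classical
  let k := IsLocalRing.ResidueField A
  let w := Module.Free.chooseBasis k (k ⊗[A] M)
  obtain ⟨v, hv⟩ := (TensorProduct.mk_surjective A M k IsLocalRing.residue_surjective).comp_left w
  have hv' : ∀ i, (1 : k) ⊗ₜ[A] v i = w i := fun i => congrFun hv i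
  let π := Finsupp.linearCombination A v
  have hπ : Function.Surjective π := by
    rw [← LinearMap.range_eq_top, Finsupp.range_linearCombination]
    refine eq_top_of_top_le_sup_smul hm ?_
    rw [← LinearMap.ker_tensorProductMk, ← Submodule.comap_map_eq]
    intro x _
    rw [Submodule.mem_comap, Submodule.map_span, ← Set.range_comp]
    have : (TensorProduct.mk A k M 1) x ∈ (Submodule.span k (Set.range w)).restrictScalars A := by
      rw [w.span_eq]; trivial
    rw [Submodule.restrictScalars_span A k IsLocalRing.residue_surjective] at this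
    have e : ⇑(TensorProduct.mk A k M 1) ∘ v = ⇑w := funext hv'
    rw [← e] at this
    exact this
  have hk : Function.Injective (π.lTensor k) := by
    let π' : k ⊗[A] (_ →₀ A) →ₗ[k] k ⊗[A] M := π.baseChange k
    have : π' = ((Finsupp.basisSingleOne.baseChange k).equiv w (Equiv.refl _)).toLinearMap := by
      refine (Finsupp.basisSingleOne.baseChange k).ext fun i => ?_
      rw [LinearEquiv.coe_coe, Module.Basis.equiv_apply, Module.Basis.baseChange_apply]
      simp [π', π, hv']
    show Function.Injective π'
    rw [this]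
    exact LinearEquiv.injective _
  let πB := π.baseChange B
  let K := LinearMap.ker πB
  let J := (IsLocalRing.maximalIdeal A).map (algebraMap A B)
  have hPJ : ∀ a ∈ IsLocalRing.maximalIdeal A, ∀ x : B ⧸ J, a • x = 0 := by
    intro a ha x
    obtain ⟨x, rfl⟩ := Ideal.Quotient.mk_surjective x
    rw [Algebra.smul_def, IsScalarTower.algebraMap_apply A B (B ⧸ J), Ideal.Quotient.algebraMap_eq,
      Ideal.Quotient.eq_zero_iff_mem.mpr (Ideal.mem_map_of_mem _ ha), zero_mul]
  have h2 : Function.Injective (πB.lTensor (B ⧸ J)) :=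
    (lTensor_baseChange_injective_iff π).mpr (lTensor_injective_of_residueField π hk _ hPJ)
  have h1 : Function.Injective (K.subtype.lTensor (B ⧸ J)) :=
    lTensor_injective_of_exact_of_exact_of_rTensor_injective (N₁ := K)
      (LinearMap.exact_subtype_mkQ J) (Submodule.mkQ_surjective J)
      (LinearMap.exact_subtype_ker_map πB) (LinearMap.lTensor_surjective B hπ)
      (Module.Flat.rTensor_preserves_injective_linearMap _ Subtype.val_injective)
      (Module.Flat.lTensor_preserves_injective_linearMap _ Subtype.val_injective)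
  have hK : K = ⊥ := by
    have hz : ∀ x : (B ⧸ J) ⊗[B] K, x = 0 := fun x => by
      apply h1
      apply h2
      rw [map_zero, map_zero, ← LinearMap.lTensor_comp_apply,
        (LinearMap.exact_subtype_ker_map πB).linearMap_comp_eq_zero, LinearMap.lTensor_zero,
        LinearMap.zero_apply]
    have htop : (⊤ : Submodule B K) ≤ ⊥ ⊔ J • ⊤ := by
      intro x _
      rw [bot_sup_eq]
      have hx : TensorProduct.mk B (B ⧸ J) K 1 x = 0 := hz _
      exact (LinearMap.ker_tensorProductMk (Q := K) (I := J)).le (LinearMap.mem_ker.mpr hx)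
    have hJn : IsNilpotent J := by
      obtain ⟨n, hn⟩ := hm
      exact ⟨n, by rw [← Ideal.map_pow, hn, Submodule.zero_eq_bot, Ideal.map_bot]; rfl⟩
    have h3 := eq_top_of_top_le_sup_smul (M := K) hJn htop
    rw [Submodule.eq_bot_iff]
    intro x hx
    have h4 : (⟨x, hx⟩ : K) ∈ (⊥ : Submodule B K) := h3 ▸ Submodule.mem_top
    simpa using h4
  have hπi : Function.Injective π := by
    intro x y hxy
    have h4 : πB (1 ⊗ₜ x) = πB (1 ⊗ₜ y) := by simp [πB, hxy]
    have h5 := LinearMap.ker_eq_bot.mp hK h4
    apply (TensorProduct.lid A _).symm.injective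
    apply Module.Flat.rTensor_preserves_injective_linearMap (Algebra.linearMap A B) hinj
    simpa using h5
  exact Module.Free.of_equiv (LinearEquiv.ofBijective π ⟨hπi, hπ⟩)

end Groth.FlatMorOne
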