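import Groth.Agent.FlatMorOne.FTIdeal
import Groth.Agent.BlowUpBasics.IdealComap
import Groth.Prelude.Def_BlowUp2

/-! Closures of preimages in blow-ups. -/

universe u

open CategoryTheory Limits AlgebraicGeometry TopologicalSpace

namespace Groth.FlatMorOne

/-- If `I ≤ E` have the same inverse image near `y` along `p ≫ c`, and the inverse image of `E` by
`c` is invertible, then a point `y` lying over the closure of a set `A` on which `I` vanishes and `E`
is the unit ideal is not in the closure of a set on which the inverse image of `E` is the unit ideal. -/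
theorem not_mem_closure_of_comap_eq {X' X P : Scheme.{u}} (c : X' ⟶ X) (p : P ⟶ X')
    {I E : X.IdealSheafData} (hIE : I ≤ E) (hE : BlowUp.IsEffCartierIdeal (E.comap c))
    (O : P.Opens) (hO : ((E.comap c).comap p).comap O.ι = ((I.comap c).comap p).comap O.ι)
    {A : Set X'} (hA : A ⊆ ((I.comap c).support : Set X')) (hA' : Disjoint A ((E.comap c).support : Set X'))
    {B : Set P} (hB : ∀ z ∈ B, p z ∉ ((E.comap c).support : Set X'))
    {y : P} (hyO : y ∈ O) (hy : p y ∈ closure A) : y ∉ closure B := by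
  obtain ⟨W, hyW, e, -, hW⟩ := hE (p y)
  obtain ⟨_, ⟨W₂, hW₂, rfl⟩, hyW₂, hW₂le⟩ := P.isBasis_affineOpens.exists_subset_of_mem_open
    (show y ∈ O ⊓ p ⁻¹ᵁ W.1 from ⟨hyO, hyW⟩) (O ⊓ p ⁻¹ᵁ W.1).2
  have hW₂O : W₂ ≤ O := le_trans hW₂le inf_le_left
  have hW₂W : W₂ ≤ p ⁻¹ᵁ W.1 := le_trans hW₂le inf_le_right
  let φ := (p.appLE W.1 W₂ hW₂W).hom
  have hIe : (I.comap c).ideal W ≤ Ideal.span {e} := hW ▸ Scheme.IdealSheafData.comap_mono c hIE W
  let J : Ideal Γ(X', W.1) := ((I.comap c).ideal W).colon {e}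
  have hJ : ∀ j ∈ J, p y ∉ X'.basicOpen j := by
    intro j hj hyj
    obtain ⟨z, hzj, hzA⟩ := mem_closure_iff.mp hy _ (X'.basicOpen j).2 hyj
    have hzW : z ∈ W.1 := X'.basicOpen_le j hzj
    have hze : z ∈ X'.basicOpen e := by
      have := Set.disjoint_left.mp hA' hzA
      rw [SetLike.mem_coe, Scheme.IdealSheafData.mem_support_iff_of_mem hzW, hW,
        Scheme.zeroLocus_span, Scheme.mem_zeroLocus_iff] at this
      simpa using this
    have hzI := hA hzA
    rw [SetLike.mem_coe, Scheme.IdealSheafData.mem_support_iff_of_mem hzW, Scheme.mem_zeroLocus_iff] at hzI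
    refine hzI (j * e) (Submodule.mem_colon_singleton.mp hj) ?_
    rw [Scheme.basicOpen_mul]
    exact ⟨hzj, hze⟩
  have heq : ((E.comap c).comap p).ideal ⟨W₂, hW₂⟩ = ((I.comap c).comap p).ideal ⟨W₂, hW₂⟩ :=
    ideal_eq_of_comap_eq hO hW₂O
  rw [BlowUpBasics.ideal_comap p (E.comap c) W ⟨W₂, hW₂⟩ hW₂W, hW,
    BlowUpBasics.ideal_comap p (I.comap c) W ⟨W₂, hW₂⟩ hW₂W] at heq
  have hle : ((I.comap c).ideal W).map φ ≤ Ideal.span {φ e} * J.map φ := by
    rw [← Set.image_singleton, ← Ideal.map_span, ← Ideal.map_mul]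
    refine Ideal.map_mono fun a ha => ?_
    obtain ⟨j, rfl⟩ := Ideal.mem_span_singleton.mp (hIe ha)
    refine Ideal.mem_span_singleton_mul.mpr ⟨j, Submodule.mem_colon_singleton.mpr ?_, rfl⟩
    rwa [smul_eq_mul, mul_comm]
  have he : φ e ∈ Ideal.span {φ e} * J.map φ :=
    hle (heq ▸ Ideal.mem_map_of_mem _ (Ideal.mem_span_singleton_self e))
  obtain ⟨j', hj', hj'e⟩ := Ideal.mem_span_singleton_mul.mp he
  -- `j'` vanishes at `y`
  have hyj' : y ∉ P.basicOpen j' := by
    rw [P.mem_basicOpen _ _ hyW₂]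
    have hJy : ∀ b ∈ J.map φ, P.presheaf.germ W₂ y hyW₂ b ∈ IsLocalRing.maximalIdeal _ := by
      suffices J.map φ ≤ (IsLocalRing.maximalIdeal (P.presheaf.stalk y)).comap (P.presheaf.germ W₂ y hyW₂).hom from
        fun b hb => this hb
      rw [Ideal.map_le_iff_le_comap]
      intro j hj
      show _ ∈ nonunits _
      intro hu
      have : y ∈ P.basicOpen (φ j) := (P.mem_basicOpen _ _ hyW₂).mpr hu
      rw [show P.basicOpen (φ j) = W₂ ⊓ p ⁻¹ᵁ X'.basicOpen j from Scheme.basicOpen_appLE p W₂ W.1 hW₂W j] at this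
      exact hJ j hj this.2
    exact hJy j' hj'
  have hy1 : y ∈ P.basicOpen (1 - j') := by
    rw [P.mem_basicOpen _ _ hyW₂] at hyj' ⊢
    rcases IsLocalRing.isUnit_or_isUnit_of_add_one (show
      P.presheaf.germ W₂ y hyW₂ j' + P.presheaf.germ W₂ y hyW₂ (1 - j') = 1 by
        rw [← map_add, add_sub_cancel, map_one]) with h | h
    · exact absurd h hyj'
    · exact h
  intro hyB
  obtain ⟨z, hz1, hzB⟩ := mem_closure_iff.mp hyB _ (P.basicOpen (1 - j')).2 hy1
  have hzW₂ : z ∈ W₂ := P.basicOpen_le _ hz1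
  have hze : z ∈ P.basicOpen (φ e) := by
    have h := hB z hzB
    rw [SetLike.mem_coe, Scheme.IdealSheafData.mem_support_iff_of_mem (hW₂W hzW₂), hW,
      Scheme.zeroLocus_span, Scheme.mem_zeroLocus_iff] at h
    rw [show P.basicOpen (φ e) = W₂ ⊓ p ⁻¹ᵁ X'.basicOpen e from Scheme.basicOpen_appLE p W₂ W.1 hW₂W e]
    exact ⟨hzW₂, show p z ∈ X'.basicOpen e by simpa using h⟩
  have h0 : φ e * (1 - j') = 0 := by rw [mul_sub, mul_one, hj'e, sub_self]
  have : z ∈ P.basicOpen (φ e * (1 - j')) := by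
    rw [Scheme.basicOpen_mul]; exact ⟨hze, hz1⟩
  rw [h0, Scheme.basicOpen_zero] at this
  exact this

end Groth.FlatMorOne
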