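import Mathlib.AlgebraicGeometry.Morphisms.Finite
import Mathlib.RingTheory.Nakayama

/-! A finite morphism which becomes a closed immersion over a thickening is a closed immersion. -/

universe u

open CategoryTheory Limits AlgebraicGeometry TensorProduct

namespace Groth.FlatMorOne

theorem surjective_algebraMap_of_nil {A A' B : Type u} [CommRing A] [CommRing A'] [CommRing B]
    [Algebra A A'] [Algebra A B] [Module.Finite A B] (hA' : Function.Surjective (algebraMap A A'))
    (hnil : RingHom.ker (algebraMap A A') ≤ nilradical A)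
    (h : Function.Surjective (Algebra.TensorProduct.includeRight : A' →ₐ[A] B ⊗[A] A')) :
    Function.Surjective (algebraMap A B) := by
  set I := RingHom.ker (algebraMap A A')
  let J : Submodule A B := I • ⊤
  have hker : ∀ c : B, c ⊗ₜ[A] (1 : A') = 0 → c ∈ J := by
    intro c hc
    have hex : Function.Exact (Submodule.subtype I) (Algebra.linearMap A A') := fun x => by simp [I]
    obtain ⟨y, hy⟩ := (lTensor_exact B hex hA' (c ⊗ₜ[A] (1 : A))).mp (by
      rw [LinearMap.lTensor_tmul]; simpa using hc)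
    have : c = TensorProduct.rid A B (LinearMap.lTensor B (Submodule.subtype I) y) := by
      rw [hy]; simp
    rw [this]
    clear hy this hc
    induction y with
    | zero => simp
    | tmul b z => simpa [J] using Submodule.smul_mem_smul z.2 (Submodule.mem_top (x := b))
    | add y z hy hz => rw [map_add, map_add]; exact add_mem hy hz
  have hle : (⊤ : Submodule A B) ≤ LinearMap.range (Algebra.linearMap A B) ⊔ J := by
    intro b _
    obtain ⟨a', ha'⟩ := h (b ⊗ₜ 1)
    obtain ⟨a, rfl⟩ := hA' a'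
    have hmem : algebraMap A B a - b ∈ J := hker _ (by
      rw [TensorProduct.sub_tmul, ← ha', Algebra.TensorProduct.includeRight_apply,
        Algebra.algebraMap_eq_smul_one, Algebra.algebraMap_eq_smul_one, TensorProduct.smul_tmul,
        sub_self])
    have h2 : algebraMap A B a - (algebraMap A B a - b) = b := sub_sub_cancel _ _
    rw [← h2]
    exact Submodule.sub_mem _ (Submodule.mem_sup_left ⟨a, rfl⟩) (Submodule.mem_sup_right hmem)
  have htop : (⊤ : Submodule A B) ≤ LinearMap.range (Algebra.linearMap A B) :=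
    Submodule.le_of_le_smul_of_le_jacobson_bot Module.Finite.fg_top
      (hnil.trans (Ideal.radical_le_jacobson)) hle
  exact fun b => htop (x := b) trivial

theorem isClosedImmersion_of_isFinite_of_nil {X S S' : Scheme.{u}} (f : X ⟶ S) (i : S' ⟶ S)
    [IsAffine S] [IsFinite f] [IsClosedImmersion i] [Surjective i]
    [h : IsClosedImmersion (pullback.snd f i)] : IsClosedImmersion f := by
  have : IsAffine X := isAffine_of_isAffineHom f
  have : IsAffine S' := isAffine_of_isAffineHom i
  refine IsClosedImmersion.of_surjective_of_isAffine f ?_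
  letI : Algebra Γ(S, ⊤) Γ(X, ⊤) := f.appTop.hom.toAlgebra
  letI : Algebra Γ(S, ⊤) Γ(S', ⊤) := i.appTop.hom.toAlgebra
  have : Module.Finite Γ(S, ⊤) Γ(X, ⊤) := f.finite_appTop
  have hsurj : Function.Surjective (algebraMap Γ(S, ⊤) Γ(S', ⊤)) := i.app_surjective ⊤ (isAffineOpen_top S)
  have hi : Surjective (Spec.map i.appTop) := by
    rwa [← MorphismProperty.arrow_mk_iso_iff @Surjective (arrowIsoSpecΓOfIsAffine i)]
  have hnil : RingHom.ker (algebraMap Γ(S, ⊤) Γ(S', ⊤)) ≤ nilradical Γ(S, ⊤) := by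
    intro a ha
    rw [mem_nilradical, nilpotent_iff_mem_prime]
    intro P hP
    obtain ⟨Q, hQ⟩ := hi.surj ⟨P, hP⟩
    have hP' : P = Q.asIdeal.comap i.appTop.hom := congr($(hQ.symm).asIdeal)
    rw [hP', Ideal.mem_comap]
    exact (RingHom.mem_ker.mp ha) ▸ zero_mem _
  refine surjective_algebraMap_of_nil (A' := Γ(S', ⊤)) hsurj hnil ?_
  have key : IsClosedImmersion (pullback.snd (Spec.map f.appTop) (Spec.map i.appTop)) := by
    let e : pullback f i ≅ pullback (Spec.map f.appTop) (Spec.map i.appTop) :=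
      asIso (pullback.map f i _ _ X.isoSpec.hom S'.isoSpec.hom S.isoSpec.hom
        (Scheme.isoSpec_hom_naturality f).symm (Scheme.isoSpec_hom_naturality i).symm)
    have : pullback.snd (Spec.map f.appTop) (Spec.map i.appTop) = e.inv ≫ pullback.snd f i ≫ S'.isoSpec.hom := by
      rw [← cancel_epi e.hom, e.hom_inv_id_assoc]; exact pullback.lift_snd _ _ _
    rw [this]; infer_instance
  let ψ : Γ(S', ⊤) ⟶ CommRingCat.of (Γ(X, ⊤) ⊗[Γ(S, ⊤)] Γ(S', ⊤)) :=
    CommRingCat.ofHom (Algebra.TensorProduct.includeRight : Γ(S', ⊤) →ₐ[Γ(S, ⊤)] Γ(X, ⊤) ⊗[Γ(S, ⊤)] Γ(S', ⊤)).toRingHom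
  have h2 : IsClosedImmersion (Spec.map ψ) := by
    refine (pullbackSpecIso_inv_snd Γ(S, ⊤) Γ(X, ⊤) Γ(S', ⊤)) ▸ ?_
    have : IsClosedImmersion (pullback.snd (Spec.map (CommRingCat.ofHom (algebraMap Γ(S, ⊤) Γ(X, ⊤))))
        (Spec.map (CommRingCat.ofHom (algebraMap Γ(S, ⊤) Γ(S', ⊤))))) := key
    infer_instance
  have h3 := (Spec.map ψ).app_surjective ⊤ (isAffineOpen_top _)
  intro t
  obtain ⟨t', ht'⟩ := h3 ((Scheme.ΓSpecIso _).inv t)
  refine ⟨(Scheme.ΓSpecIso Γ(S', ⊤)).hom t', ?_⟩
  have hn := congr($(Scheme.ΓSpecIso_naturality ψ) t')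
  simp only [CommRingCat.hom_comp, RingHom.comp_apply] at hn
  refine (Eq.trans hn.symm ?_)
  erw [ht']
  simp

end Groth.FlatMorOne
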