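import Groth.Agent.FlatMorOne.DVRFibre
import Mathlib.RingTheory.Spectrum.Prime.Topology

/-! Connectedness of the generic fibre of a flat scheme over a discrete valuation ring with reduced
special fibre. -/

universe u

open CategoryTheory Limits AlgebraicGeometry Topology

namespace Groth.FlatMorOne

/-- Idempotents of `A[1/p]` come from `A` when `p` is a nonzerodivisor and `A/p` is reduced. -/
theorem exists_isIdempotentElem_map_eq {A : Type u} [CommRing A] {p : A}
    (hreg : ∀ a, p * a = 0 → a = 0) (hrad : ∀ (a : A) (n : ℕ), p ∣ a ^ n → p ∣ a)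
    (e : Localization.Away p) (he : IsIdempotentElem e) :
    ∃ a : A, IsIdempotentElem a ∧ algebraMap A (Localization.Away p) a = e := by
  have hinj : Function.Injective (algebraMap A (Localization.Away p)) := by
    rw [injective_iff_map_eq_zero]
    intro a ha
    obtain ⟨⟨_, n, rfl⟩, hn⟩ := (IsLocalization.map_eq_zero_iff (Submonoid.powers p) _ a).mp ha
    induction n generalizing a with
    | zero => simpa using hn
    | succ n ih =>
      refine hreg a (ih (p * a) (by rw [map_mul, ha, mul_zero]) ?_)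
      simpa [pow_succ, mul_assoc] using hn
  suffices h : ∀ n : ℕ, ∀ a : A, algebraMap A _ a = e * algebraMap A _ (p ^ n) →
      ∃ b : A, algebraMap A (Localization.Away p) b = e by
    obtain ⟨n, a, ha⟩ := IsLocalization.Away.surj p e
    obtain ⟨b, hb⟩ := h n a (by rw [map_pow]; exact ha.symm)
    exact ⟨b, hinj (by rw [map_mul, hb]; exact he), hb⟩
  intro n
  induction n with
  | zero => intro a ha; exact ⟨a, by simpa using ha⟩
  | succ n ih =>
    intro a ha
    have h2 : a ^ 2 = p ^ (n + 1) * a := hinj (by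
      rw [map_pow, map_mul, ha, mul_pow, sq e, he.eq]; ring)
    obtain ⟨b, rfl⟩ := hrad a 2 ⟨p ^ n * a, by rw [h2, pow_succ]; ring⟩
    refine ih b ?_
    have hu : IsUnit (algebraMap A (Localization.Away p) p) := IsLocalization.Away.algebraMap_isUnit p
    refine hu.mul_left_cancel ?_
    rw [← map_mul, ha, pow_succ, map_mul]; ring

theorem exists_clopen_extension {A : Type u} [CommRing A] {p : A}
    (hreg : ∀ a, p * a = 0 → a = 0) (hrad : ∀ (a : A) (n : ℕ), p ∣ a ^ n → p ∣ a)
    (C : Set (PrimeSpectrum A)) (hC : IsOpen C) (hC' : IsOpen ((PrimeSpectrum.basicOpen p : Set (PrimeSpectrum A)) \ C))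
    (hCs : C ⊆ PrimeSpectrum.basicOpen p) :
    ∃ D : Set (PrimeSpectrum A), IsClopen D ∧ D ∩ PrimeSpectrum.basicOpen p = C := by
  let g := PrimeSpectrum.comap (algebraMap A (Localization.Away p))
  have hr : Set.range g = PrimeSpectrum.basicOpen p :=
    PrimeSpectrum.localization_away_comap_range (Localization.Away p) p
  have hcl : IsClopen (g ⁻¹' C) := by
    refine ⟨⟨?_⟩, hC.preimage (PrimeSpectrum.continuous_comap _)⟩
    have : (g ⁻¹' C)ᶜ = g ⁻¹' ((PrimeSpectrum.basicOpen p : Set (PrimeSpectrum A)) \ C) := by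
      ext x
      simp [← hr]
    rw [this]
    exact hC'.preimage (PrimeSpectrum.continuous_comap _)
  obtain ⟨e, he, hD⟩ := PrimeSpectrum.isClopen_iff.mp hcl
  obtain ⟨a, ha, rfl⟩ := exists_isIdempotentElem_map_eq hreg hrad e he
  refine ⟨PrimeSpectrum.basicOpen a, PrimeSpectrum.isClopen_iff.mpr ⟨a, ha, rfl⟩, Set.ext fun x => ?_⟩
  constructor
  · rintro ⟨h1, h2⟩
    obtain ⟨y, rfl⟩ : x ∈ Set.range g := hr ▸ h2
    have : y ∈ g ⁻¹' C := hD ▸ h1
    exact this
  · intro hx
    obtain ⟨y, rfl⟩ : x ∈ Set.range g := hr ▸ hCs hx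
    refine ⟨?_, hCs hx⟩
    have : y ∈ g ⁻¹' C := hx
    rw [hD] at this
    exact this

theorem connectedSpace_generic_fiber {R : Type u} [CommRing R] [IsDomain R]
    [IsDiscreteValuationRing R] {X : Scheme.{u}} (f : X ⟶ Spec (CommRingCat.of R)) [Flat f]
    [ConnectedSpace X] (hred : IsReduced (f.fiber (IsLocalRing.closedPoint R))) :
    ConnectedSpace (f.fiber (⟨⊥, Ideal.isPrime_bot⟩ : PrimeSpectrum R)) := by
  obtain ⟨ϖ, hϖ⟩ := IsDiscreteValuationRing.exists_irreducible R
  let W : Set X := f ⁻¹' (PrimeSpectrum.basicOpen ϖ : Set (PrimeSpectrum R))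
  have hWo : IsOpen W := (PrimeSpectrum.basicOpen ϖ).2.preimage f.continuous
  have hbo : (PrimeSpectrum.basicOpen ϖ : Set (PrimeSpectrum R)) = {⟨⊥, Ideal.isPrime_bot⟩} := by
    ext q
    rw [SetLike.mem_coe, PrimeSpectrum.mem_basicOpen, Set.mem_singleton_iff, PrimeSpectrum.ext_iff]
    constructor
    · intro hq
      by_contra hne
      have := q.2
      rw [(IsDiscreteValuationRing.iff_pid_with_one_nonzero_prime R).mp ‹_› |>.2.unique
        ⟨hne, q.2⟩ ⟨IsDiscreteValuationRing.not_a_field R, inferInstance⟩] at hq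
      exact hq hϖ.not_isUnit
    · intro hq; rw [hq]; simpa using hϖ.ne_zero
  -- affine local description
  have key : ∀ x : X, ∃ (A : CommRingCat.{u}) (j : Spec A ⟶ X) (_ : IsOpenImmersion j) (p : A),
      x ∈ Set.range j ∧ j ⁻¹' W = (PrimeSpectrum.basicOpen p : Set (PrimeSpectrum A)) ∧
      (∀ a, p * a = 0 → a = 0) ∧ ∀ (a : A) (n : ℕ), p ∣ a ^ n → p ∣ a := by
    intro x
    obtain ⟨U, hU, hxU, -⟩ := exists_isAffineOpen_mem_and_subset (x := x) (U := ⊤) trivial
    obtain ⟨φ, hφ, hreg, hrad⟩ := exists_algebra_of_affine f hred hU.fromSpec hϖ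
    refine ⟨_, hU.fromSpec, inferInstance, φ ϖ, ?_, ?_, hreg, hrad⟩
    · rw [hU.range_fromSpec]; exact hxU
    · ext r
      show (hU.fromSpec ≫ f) r ∈ PrimeSpectrum.basicOpen ϖ ↔ _
      rw [hφ]
      rfl
  have hdense : Dense W := by
    rw [dense_iff_inter_open]
    rintro O hO ⟨x, hx⟩
    obtain ⟨A, j, _, p, ⟨q, rfl⟩, hjW, hreg, -⟩ := key x
    obtain ⟨_, ⟨g, rfl⟩, hqg, hgO⟩ := PrimeSpectrum.isTopologicalBasis_basic_opens.exists_subset_of_mem_open
      (show q ∈ j ⁻¹' O from hx) (hO.preimage j.continuous)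
    by_contra hemp
    rw [Set.not_nonempty_iff_eq_empty] at hemp
    have hnil : IsNilpotent (p * g) := by
      rw [← PrimeSpectrum.basicOpen_eq_bot_iff, PrimeSpectrum.basicOpen_mul]
      rw [eq_bot_iff]
      intro r hr
      exact (hemp.le ⟨hgO hr.2, (Set.ext_iff.mp hjW r).mpr hr.1⟩ : j r ∈ (∅ : Set X)).elim
    have hg : IsNilpotent g := by
      obtain ⟨n, hn⟩ := hnil
      refine ⟨n, ?_⟩
      rw [mul_pow] at hn
      have : ∀ m : ℕ, ∀ c : A, p ^ m * c = 0 → c = 0 := by
        intro m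
        induction m with
        | zero => simp
        | succ m ihm => intro c hc; rw [pow_succ, mul_assoc] at hc; exact hreg c (ihm _ hc)
      exact this _ _ hn
    rw [← PrimeSpectrum.basicOpen_eq_bot_iff] at hg
    exact (show q ∉ (⊥ : TopologicalSpace.Opens (PrimeSpectrum A)) from id) (hg ▸ hqg)
  have hsep : ∀ C : Set X, C ⊆ W → IsOpen C → IsOpen (W \ C) →
      Disjoint (closure C) (closure (W \ C)) := by
    intro C hCW hC hC'
    rw [Set.disjoint_left]
    intro x hx hx'
    obtain ⟨A, j, _, p, ⟨q, rfl⟩, hjW, hreg, hrad⟩ := key x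
    obtain ⟨D, hD, hDC⟩ := exists_clopen_extension hreg hrad (j ⁻¹' C) (hC.preimage j.continuous)
      (by rw [← hjW]; exact hC'.preimage j.continuous)
      (by rw [← hjW]; exact Set.preimage_mono hCW)
    have hcl : j ⁻¹' (closure C) = closure (j ⁻¹' C) :=
      j.isOpenEmbedding.isOpenMap.preimage_closure_eq_closure_preimage j.continuous _
    have hcl' : j ⁻¹' (closure (W \ C)) = closure (j ⁻¹' (W \ C)) :=
      j.isOpenEmbedding.isOpenMap.preimage_closure_eq_closure_preimage j.continuous _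
    have h1 : q ∈ D := hD.1.closure_subset_iff.mpr (hDC ▸ Set.inter_subset_left) (hcl.le (show q ∈ j ⁻¹' closure C from hx))
    have h2 : q ∈ Dᶜ := by
      refine hD.2.isClosed_compl.closure_subset_iff.mpr ?_ (hcl'.le (show q ∈ j ⁻¹' closure (W \ C) from hx'))
      intro r hr hr3
      exact hr.2 (hDC.le ⟨hr3, hjW.le hr.1⟩)
    exact h2 h1
  have hconn : _root_.IsConnected W := by
    refine ⟨hdense.nonempty, ?_⟩
    rintro U V hU hV hUV ⟨a, haW, haU⟩ ⟨b, hbW, hbV⟩
    by_contra hempty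
    rw [Set.not_nonempty_iff_eq_empty] at hempty
    have heq : W \ (W ∩ U) = W ∩ V := by
      ext y
      refine ⟨fun hy => ⟨hy.1, (hUV hy.1).resolve_left fun h => hy.2 ⟨hy.1, h⟩⟩, fun hy => ⟨hy.1, fun h => ?_⟩⟩
      exact hempty.le ⟨hy.1, h.2, hy.2⟩
    have hd := hsep (W ∩ U) Set.inter_subset_left (hWo.inter hU) (heq ▸ hWo.inter hV)
    have hun : closure (W ∩ U) ∪ closure (W \ (W ∩ U)) = Set.univ := by
      rw [← closure_union, Set.union_diff_cancel Set.inter_subset_left, hdense.closure_eq]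
    have hclopen : IsClopen (closure (W ∩ U)) := by
      refine ⟨isClosed_closure, ?_⟩
      have : closure (W ∩ U) = (closure (W \ (W ∩ U)))ᶜ :=
        Set.Subset.antisymm hd.subset_compl_right fun y hy =>
          ((Set.mem_union _ _ _).mp (hun.ge trivial)).resolve_right hy
      rw [this]; exact isClosed_closure.isOpen_compl
    rcases isClopen_iff.mp hclopen with h0 | h0
    · exact h0.le (subset_closure ⟨haW, haU⟩)
    · exact Set.disjoint_left.mp hd (h0.ge trivial) (subset_closure (heq.ge ⟨hbW, hbV⟩))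
  have hW : W = f ⁻¹' {(⟨⊥, Ideal.isPrime_bot⟩ : PrimeSpectrum R)} := by
    show f ⁻¹' _ = _
    rw [hbo]
    rfl
  have : ConnectedSpace W := isConnected_iff_connectedSpace.mp hconn
  exact ((f.fiberHomeo _).trans (Homeomorph.setCongr hW.symm)).connectedSpace_iff.mpr this

end Groth.FlatMorOne
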