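import Mathlib.AlgebraicGeometry.Fiber
import Mathlib.AlgebraicGeometry.Morphisms.Flat
import Mathlib.RingTheory.DiscreteValuationRing.Basic
import Mathlib.RingTheory.Flat.TorsionFree
import Mathlib.Tactic.FieldSimp

/-! Schemes flat over a discrete valuation ring with reduced special fibre. -/

universe u

open CategoryTheory Limits AlgebraicGeometry TensorProduct

namespace Groth.FlatMorOne

theorem isReduced_fiber_of_isOpenImmersion {X Y Z : Scheme.{u}} (j : Z ⟶ X) [IsOpenImmersion j]
    (f : X ⟶ Y) (y : Y) (h : IsReduced (f.fiber y)) : IsReduced ((j ≫ f).fiber y) := by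
  let e : (j ≫ f).fiber y ≅ pullback j (f.fiberι y) :=
    (pullbackRightPullbackFstIso f (Y.fromSpecResidueField y) j).symm
  exact isReduced_of_isOpenImmersion (e.hom ≫ pullback.snd j (f.fiberι y))

variable {R : Type u} [CommRing R]

theorem isReduced_tensor_residueField_of_fiber {A : Type u} [CommRing A] [Algebra R A]
    (x : PrimeSpectrum R)
    (h : IsReduced ((Spec.map (CommRingCat.ofHom (algebraMap R A))).fiber x)) :
    _root_.IsReduced (A ⊗[R] x.asIdeal.ResidueField) := by
  have h0 : (Spec (CommRingCat.of R)).fromSpecResidueField x =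
      Spec.map (Scheme.Spec.residueFieldIso (CommRingCat.of R) x).inv ≫
        Spec.map (CommRingCat.ofHom (algebraMap R x.asIdeal.ResidueField)) :=
    (Scheme.Spec.map_residueFieldIso_inv_eq_fromSpecResidueField (R := CommRingCat.of R) (x := x)).symm
  let m : (Spec.map (CommRingCat.ofHom (algebraMap R A))).fiber x ⟶
      pullback (Spec.map (CommRingCat.ofHom (algebraMap R A)))
        (Spec.map (CommRingCat.ofHom (algebraMap R x.asIdeal.ResidueField))) :=
    pullback.map _ _ _ _ (𝟙 _) (Spec.map (Scheme.Spec.residueFieldIso (CommRingCat.of R) x).inv) (𝟙 _)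
      (by simp) (by rw [Category.comp_id]; exact h0)
  have : IsIso m := pullback.map_isIso _ _ _ _ _ _ _ _ _
  have hs : IsReduced (Spec (CommRingCat.of (A ⊗[R] x.asIdeal.ResidueField))) :=
    isReduced_of_isOpenImmersion ((pullbackSpecIso R A x.asIdeal.ResidueField).inv ≫ inv m)
  exact (affine_isReduced_iff _).mp hs

theorem mem_map_of_pow_mem_of_isReduced {A : Type u} [CommRing A] [Algebra R A] (m : Ideal R)
    [m.IsMaximal] [_root_.IsReduced (A ⊗[R] m.ResidueField)] {a : A} {n : ℕ}
    (ha : a ^ n ∈ m.map (algebraMap R A)) : a ∈ m.map (algebraMap R A) := by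
  let ι : A →ₐ[R] A ⊗[R] m.ResidueField := Algebra.TensorProduct.includeLeft
  have hle : m.map (algebraMap R A) ≤ RingHom.ker ι.toRingHom := by
    rw [Ideal.map_le_iff_le_comap]
    intro r hr
    show ι (algebraMap R A r) = 0
    rw [AlgHom.commutes, ← (Algebra.TensorProduct.includeRight : m.ResidueField →ₐ[R] A ⊗[R] m.ResidueField).commutes,
      Ideal.algebraMap_residueField_eq_zero.mpr hr, map_zero]
  have h0 : ι a = 0 := (IsNilpotent.eq_zero ⟨n, by rw [← map_pow]; exact hle ha⟩)
  have hsurj : Function.Surjective (Algebra.linearMap R m.ResidueField) :=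
    m.algebraMap_residueField_surjective
  have hex : Function.Exact (Submodule.subtype m) (Algebra.linearMap R m.ResidueField) :=
    fun x => by simp [Ideal.algebraMap_residueField_eq_zero]
  obtain ⟨y, hy⟩ := (lTensor_exact A hex hsurj (a ⊗ₜ[R] (1 : R))).mp (by
    rw [LinearMap.lTensor_tmul]; simpa [ι] using h0)
  have : a = TensorProduct.rid R A (LinearMap.lTensor A (Submodule.subtype m) y) := by
    rw [hy]; simp
  rw [this]
  clear hy this h0 ha
  induction y with
  | zero => simp
  | tmul b z =>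
    rw [LinearMap.lTensor_tmul, TensorProduct.rid_tmul, Algebra.smul_def]
    exact Ideal.mul_mem_right _ _ (Ideal.mem_map_of_mem _ z.2)
  | add y z hy hz => rw [map_add, map_add]; exact add_mem hy hz

variable [IsDomain R] [IsDiscreteValuationRing R] {X : Scheme.{u}}
  (f : X ⟶ Spec (CommRingCat.of R))

theorem exists_algebra_of_affine [Flat f] (hred : IsReduced (f.fiber (IsLocalRing.closedPoint R)))
    {A : CommRingCat.{u}} (j : Spec A ⟶ X) [IsOpenImmersion j] {ϖ : R} (hϖ : Irreducible ϖ) :
    ∃ φ : CommRingCat.of R ⟶ A, j ≫ f = Spec.map φ ∧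
      (∀ a : A, φ ϖ * a = 0 → a = 0) ∧ ∀ (a : A) (n : ℕ), φ ϖ ∣ a ^ n → φ ϖ ∣ a := by
  obtain ⟨φ, hφ⟩ := Spec.map_surjective (j ≫ f)
  refine ⟨φ, hφ.symm, ?_, ?_⟩
  · letI : Algebra R A := φ.hom.toAlgebra
    have : Flat (Spec.map φ) := by rw [hφ]; infer_instance
    have hflat : Module.Flat R A := HasRingHomProperty.Spec_iff.mp this
    intro a ha
    have := Module.Flat.isSMulRegular_of_nonZeroDivisors (M := A)
      (mem_nonZeroDivisors_iff_ne_zero.mpr hϖ.ne_zero)
    exact this.right_eq_zero_of_smul (by rw [Algebra.smul_def]; exact ha)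
  · letI : Algebra R A := φ.hom.toAlgebra
    have hf : IsReduced ((j ≫ f).fiber (IsLocalRing.closedPoint R)) :=
      isReduced_fiber_of_isOpenImmersion j f _ hred
    rw [← hφ] at hf
    have : _root_.IsReduced (A ⊗[R] (IsLocalRing.maximalIdeal R).ResidueField) :=
      isReduced_tensor_residueField_of_fiber (IsLocalRing.closedPoint R) hf
    intro a n ha
    have hm : (IsLocalRing.maximalIdeal R).map (algebraMap R A) = Ideal.span {φ ϖ} := by
      rw [hϖ.maximalIdeal_eq, Ideal.map_span, Set.image_singleton]; rfl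
    rw [← Ideal.mem_span_singleton, ← hm] at ha ⊢
    exact mem_map_of_pow_mem_of_isReduced _ ha

theorem isOpenImmersion_fromSpecResidueField_generic :
    IsOpenImmersion ((Spec (CommRingCat.of R)).fromSpecResidueField
      (⟨⊥, Ideal.isPrime_bot⟩ : PrimeSpectrum R)) := by
  obtain ⟨ϖ, hϖ⟩ := IsDiscreteValuationRing.exists_irreducible R
  let K := (⊥ : Ideal R).ResidueField
  have hu : IsUnit (algebraMap R K ϖ) := (IsUnit.mk0 _ (by simpa using hϖ.ne_zero))
  have : IsLocalization.Away ϖ K := by
    refine IsLocalization.Away.mk ϖ hu (fun z => ?_) (fun a b hab => ⟨0, by simpa using hab⟩)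
    obtain ⟨a, b, hb, rfl⟩ := IsFractionRing.div_surjective (A := R) z
    obtain ⟨n, w, rfl⟩ := IsDiscreteValuationRing.eq_unit_mul_pow_irreducible
      (nonZeroDivisors.ne_zero hb) hϖ
    refine ⟨n, a * (↑w⁻¹ : R), ?_⟩
    have : algebraMap R K w ≠ 0 := (w.isUnit.map _).ne_zero
    have h2 : algebraMap R K ϖ ≠ 0 := hu.ne_zero
    have hw : algebraMap R K ↑w⁻¹ = (algebraMap R K ↑w)⁻¹ := map_units_inv (algebraMap R K) w
    rw [map_mul, map_mul, map_pow, hw]
    show algebraMap R K a / (algebraMap R K ↑w * algebraMap R K ϖ ^ n) * algebraMap R K ϖ ^ n =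
      algebraMap R K a * (algebraMap R K ↑w)⁻¹
    rw [div_mul_eq_mul_div, mul_div_mul_right _ _ (pow_ne_zero n h2), div_eq_mul_inv]
  have : IsOpenImmersion (Spec.map (CommRingCat.ofHom (algebraMap R K))) :=
    IsOpenImmersion.of_isLocalization ϖ
  have h0 := Scheme.Spec.map_residueFieldIso_inv_eq_fromSpecResidueField (R := CommRingCat.of R)
    (x := (⟨⊥, Ideal.isPrime_bot⟩ : PrimeSpectrum R))
  refine h0 ▸ ?_
  exact inferInstanceAs (IsOpenImmersion (_ ≫ Spec.map (CommRingCat.ofHom (algebraMap R K))))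

end Groth.FlatMorOne
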