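import Groth.Agent.FlatMorOne.FlatLocusCriterion
import Mathlib.RingTheory.TensorProduct.Basic
import Mathlib.RingTheory.Ideal.Maps

/-! The kernel of `M ⊗ p → M` after base change (surjectivity of `Tor₁(R/p, M) ⊗ R' → Tor₁(R'/pR', M')`
when `M/pM` is free up to powers of one element). -/

universe u

open TensorProduct

namespace Groth.FlatMorOne

section General

variable {R : Type u} [CommRing R] (g : R)

/-- Exactness up to powers of `g` survives tensoring. -/
theorem exists_pow_smul_mem_range_lTensor {A B C : Type u} [AddCommGroup A] [Module R A]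
    [AddCommGroup B] [Module R B] [AddCommGroup C] [Module R C] (Φ : A →ₗ[R] B) (W : B →ₗ[R] C)
    (hker : ∀ b, W b = 0 → ∃ k : ℕ, g ^ k • b ∈ LinearMap.range Φ)
    (hsurj : ∀ c, ∃ k : ℕ, g ^ k • c ∈ LinearMap.range W)
    (X : Type u) [AddCommGroup X] [Module R X] (z : X ⊗[R] B) (hz : W.lTensor X z = 0) :
    ∃ k : ℕ, g ^ k • z ∈ LinearMap.range (Φ.lTensor X) := by
  let T := Submonoid.powers g
  let C' := LinearMap.range W
  let ι : C' →ₗ[R] C := C'.subtype
  let gC := LocalizedModule.mkLinearMap T C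
  have : IsLocalizedModule T (gC ∘ₗ ι) := by
    constructor
    · exact IsLocalizedModule.map_units gC
    · intro x
      obtain ⟨⟨c, t⟩, hct⟩ := IsLocalizedModule.surj T gC x
      obtain ⟨k, hk⟩ := hsurj c
      refine ⟨⟨⟨g ^ k • c, hk⟩, ⟨g ^ k, k, rfl⟩ * t⟩, ?_⟩
      simp only [Submonoid.smul_def, Submonoid.coe_mul, LinearMap.comp_apply] at hct ⊢
      rw [mul_smul, hct, ← map_smul]
      rfl
    · intro c c' hcc
      obtain ⟨t, ht⟩ := IsLocalizedModule.exists_of_eq (S := T) (f := gC) hcc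
      exact ⟨t, Subtype.ext ht⟩
  -- kill the kernel of `C' ⊗ X → C ⊗ X`
  let W' : B →ₗ[R] C' := W.rangeRestrict
  have h1 : gC.lTensor X (ι.lTensor X (W'.lTensor X z)) = 0 := by
    rw [← LinearMap.lTensor_comp_apply X ι W', show ι ∘ₗ W' = W from rfl, hz, map_zero]
  let e₁ := TensorProduct.comm R X C'
  have h2 : AlgebraTensorModule.rTensor R X (gC ∘ₗ ι) (e₁ (W'.lTensor X z)) = 0 := by
    have key : ∀ w : X ⊗[R] C', AlgebraTensorModule.rTensor R X (gC ∘ₗ ι) (e₁ w) =
        TensorProduct.comm R X _ (gC.lTensor X (ι.lTensor X w)) := by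
      intro w
      induction w with
      | zero => simp
      | tmul x c => simp [e₁]
      | add a b ha hb => simp only [map_add, ha, hb]
    rw [key, h1, map_zero]
  obtain ⟨⟨_, l, rfl⟩, hl⟩ := (IsLocalizedModule.eq_zero_iff T
    (AlgebraTensorModule.rTensor R X (gC ∘ₗ ι))).mp h2
  rw [Submonoid.smul_def, ← map_smul, LinearEquiv.map_eq_zero_iff, ← map_smul] at hl
  obtain ⟨w, hw⟩ := (lTensor_exact X (LinearMap.exact_subtype_ker_map W') W.surjective_rangeRestrict _).mp hl
  have hgen : ∀ w : X ⊗[R] (LinearMap.ker W'), ∃ k : ℕ,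
      g ^ k • (LinearMap.ker W').subtype.lTensor X w ∈ LinearMap.range (Φ.lTensor X) := by
    intro w
    induction w with
    | zero => exact ⟨0, by simp⟩
    | tmul x b =>
      obtain ⟨k, a, ha⟩ := hker b.1 (congrArg Subtype.val (LinearMap.mem_ker.mp b.2))
      refine ⟨k, x ⊗ₜ a, ?_⟩
      rw [LinearMap.lTensor_tmul, ha, tmul_smul]
      rfl
    | add a b ha hb =>
      obtain ⟨k, hk⟩ := ha
      obtain ⟨m, hm⟩ := hb
      refine ⟨k + m, ?_⟩
      rw [map_add, smul_add]
      refine add_mem ?_ ?_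
      · rw [add_comm k m, pow_add, mul_smul]; exact Submodule.smul_mem _ _ hk
      · rw [pow_add, mul_smul]; exact Submodule.smul_mem _ _ hm
  obtain ⟨k, hk⟩ := hgen w
  refine ⟨k + l, ?_⟩
  rw [hw, smul_smul, ← pow_add] at hk
  exact hk

end General

section Kernel

variable {R₀ : Type u} [CommRing R₀] {M₀ : Type u} [AddCommGroup M₀] [Module R₀ M₀]
  (R₁ : Type u) [CommRing R₁] [Algebra R₀ R₁] {M₁ : Type u} [AddCommGroup M₁] [Module R₀ M₁]
  [Module R₁ M₁] [IsScalarTower R₀ R₁ M₁] (β : M₀ →ₗ[R₀] M₁) (p : Ideal R₀)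

/-- The natural map `M₀ ⊗ p → M₁ ⊗ pR₁`. -/
noncomputable def tensorIdealMap : M₀ ⊗[R₀] p →ₗ[R₀] M₁ ⊗[R₁] (p.map (algebraMap R₀ R₁)) :=
  TensorProduct.lift
    { toFun := fun m =>
        { toFun := fun a => β m ⊗ₜ[R₁] ⟨algebraMap R₀ R₁ a.1, Ideal.mem_map_of_mem _ a.2⟩
          map_add' := fun a b => by
            rw [← tmul_add]; congr 1; exact Subtype.ext (map_add _ _ _)
          map_smul' := fun r a => by
            rw [RingHom.id_apply, ← tmul_smul]; congr 1
            refine Subtype.ext ?_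
            show algebraMap R₀ R₁ (r • a.1) = r • algebraMap R₀ R₁ a.1
            rw [smul_eq_mul, map_mul, Algebra.smul_def] }
      map_add' := fun m n => by ext a; simp [add_tmul]
      map_smul' := fun r m => by ext a; simp [smul_tmul'] }

@[simp] theorem tensorIdealMap_tmul (m : M₀) (a : p) :
    tensorIdealMap R₁ β p (m ⊗ₜ a) = β m ⊗ₜ[R₁] ⟨algebraMap R₀ R₁ a.1, Ideal.mem_map_of_mem _ a.2⟩ :=
  rfl

set_option maxHeartbeats 1000000 in
/-- If `M₀/pM₀` is free over `R₀/p` up to powers of `g`, then for a base change `M₁` of `M₀` the kernel of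
`M₁ ⊗ pR₁ → M₁` is, up to powers of `g`, spanned by the image of the kernel of `M₀ ⊗ p → M₀`. -/
theorem exists_pow_smul_mem_span_ker (hβ : IsBaseChange R₁ β) {ι : Type u} (g : R₀)
    (Ψ : (ι →₀ R₀) →ₗ[R₀] M₀)
    (hinj : ∀ x, Ψ x ∈ p • (⊤ : Submodule R₀ M₀) → ∃ k : ℕ, g ^ k • x ∈ p • (⊤ : Submodule R₀ (ι →₀ R₀)))
    (hsurj : ∀ m, ∃ k : ℕ, g ^ k • m ∈ LinearMap.range Ψ ⊔ p • ⊤)
    (y : M₁ ⊗[R₁] (p.map (algebraMap R₀ R₁)))
    (hy : (p.map (algebraMap R₀ R₁)).subtype.lTensor M₁ y = 0) :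
    ∃ k : ℕ, g ^ k • y ∈ Submodule.span R₁
      (tensorIdealMap R₁ β p '' {x | p.subtype.lTensor M₀ x = 0}) := by
  let p₁ := p.map (algebraMap R₀ R₁)
  let F := ι →₀ R₀
  let η : M₀ ⊗[R₀] p →ₗ[R₀] M₀ := (TensorProduct.rid R₀ M₀).toLinearMap ∘ₗ p.subtype.lTensor M₀
  let ηF : F ⊗[R₀] p →ₗ[R₀] F := (TensorProduct.rid R₀ F).toLinearMap ∘ₗ p.subtype.lTensor F
  have hη : ∀ x, η x = 0 ↔ p.subtype.lTensor M₀ x = 0 := fun x =>
    (TensorProduct.rid R₀ M₀).map_eq_zero_iff
  have hrange : ∀ (N : Type u) [AddCommGroup N] [Module R₀ N] (m : N), m ∈ p • (⊤ : Submodule R₀ N) →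
      ∃ t, ((TensorProduct.rid R₀ N).toLinearMap ∘ₗ p.subtype.lTensor N) t = m := by
    intro N _ _ m hm
    induction hm using Submodule.smul_induction_on' with
    | smul a ha y _ => exact ⟨y ⊗ₜ ⟨a, ha⟩, by simp⟩
    | add y _ z _ hy hz =>
      obtain ⟨t, ht⟩ := hy
      obtain ⟨t', ht'⟩ := hz
      exact ⟨t + t', by rw [map_add, ht, ht']⟩
  have hηF : ∀ u, Ψ (ηF u) = η (Ψ.rTensor p u) := by
    intro u
    induction u with
    | zero => simp
    | tmul f a => simp [η, ηF]
    | add a b ha hb => simp only [map_add, ha, hb]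
  let Φ : (F ⊗[R₀] p) × (LinearMap.ker η) →ₗ[R₀] F × (M₀ ⊗[R₀] p) :=
    LinearMap.prod (ηF ∘ₗ LinearMap.fst _ _ _)
      (-(Ψ.rTensor p ∘ₗ LinearMap.fst _ _ _) + (LinearMap.ker η).subtype ∘ₗ LinearMap.snd _ _ _)
  let W : F × (M₀ ⊗[R₀] p) →ₗ[R₀] M₀ := Ψ.coprod η
  have hker : ∀ b, W b = 0 → ∃ k : ℕ, g ^ k • b ∈ LinearMap.range Φ := by
    rintro ⟨f, t⟩ hft
    have hft' : Ψ f + η t = 0 := hft
    have hmem : η t ∈ p • (⊤ : Submodule R₀ M₀) := by
      clear hft hft'
      induction t with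
      | zero => simp
      | tmul m a => simpa [η] using Submodule.smul_mem_smul a.2 (Submodule.mem_top (x := m))
      | add a b ha hb => rw [map_add]; exact add_mem ha hb
    obtain ⟨k, hk⟩ := hinj f (by rw [eq_neg_of_add_eq_zero_left hft']; exact neg_mem hmem)
    obtain ⟨u, hu⟩ := hrange F _ hk
    refine ⟨k, (u, ⟨g ^ k • t + Ψ.rTensor p u, ?_⟩), ?_⟩
    · rw [LinearMap.mem_ker, map_add, ← hηF, show ηF u = g ^ k • f from hu, map_smul, map_smul,
        ← smul_add, add_comm, hft', smul_zero]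
    · refine Prod.ext hu ?_
      show -(Ψ.rTensor p u) + (g ^ k • t + Ψ.rTensor p u) = g ^ k • t
      abel
  have hW : ∀ c, ∃ k : ℕ, g ^ k • c ∈ LinearMap.range W := by
    intro c
    obtain ⟨k, hk⟩ := hsurj c
    obtain ⟨_, ⟨f, rfl⟩, b, hb, hab⟩ := Submodule.mem_sup.mp hk
    obtain ⟨t, ht⟩ := hrange M₀ _ hb
    exact ⟨k, (f, t), by show Ψ f + η t = _; rw [show η t = b from ht, hab]⟩
  let θ := tensorIdealMap R₁ β p
  let Θ : R₁ ⊗[R₀] (M₀ ⊗[R₀] p) →ₗ[R₁] M₁ ⊗[R₁] p₁ := θ.liftBaseChange R₁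
  -- `Θ` is surjective
  have hΘ : ∀ y, ∃ z, Θ z = y := by
    intro y
    induction y with
    | zero => exact ⟨0, map_zero _⟩
    | add a b ha hb =>
      obtain ⟨za, rfl⟩ := ha
      obtain ⟨zb, rfl⟩ := hb
      exact ⟨za + zb, map_add _ _ _⟩
    | tmul m a =>
      obtain ⟨a, ha⟩ := a
      have hmem : ∀ m, ∀ a (ha : a ∈ p₁), ∃ z, Θ z = m ⊗ₜ[R₁] (⟨a, ha⟩ : p₁) := by
        intro m
        induction m using hβ.inductionOn with
        | zero => exact fun a ha => ⟨0, by simp⟩
        | smul r m hm =>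
          intro a ha
          obtain ⟨z, hz⟩ := hm a ha
          exact ⟨r • z, by rw [map_smul, hz, smul_tmul']⟩
        | add m n hm hn =>
          intro a ha
          obtain ⟨z, hz⟩ := hm a ha
          obtain ⟨w, hw⟩ := hn a ha
          exact ⟨z + w, by rw [map_add, hz, hw, add_tmul]⟩
        | tmul m =>
          intro a ha
          induction ha using Submodule.span_induction with
          | mem a ha =>
            obtain ⟨b, hb, rfl⟩ := ha
            exact ⟨1 ⊗ₜ (m ⊗ₜ ⟨b, hb⟩), by simp [Θ, θ]⟩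
          | zero => exact ⟨0, by rw [map_zero]; exact (tmul_zero _ _).symm⟩
          | add a b ha hb iha ihb =>
            obtain ⟨z, hz⟩ := iha
            obtain ⟨w, hw⟩ := ihb
            exact ⟨z + w, by rw [map_add, hz, hw, ← tmul_add]; rfl⟩
          | smul r a ha iha =>
            obtain ⟨z, hz⟩ := iha
            exact ⟨r • z, by rw [map_smul, hz, ← tmul_smul]; rfl⟩
      exact hmem m a ha
  obtain ⟨z, rfl⟩ := hΘ y
  -- its image in `R₁ ⊗ M₀`
  let e := hβ.equiv
  have hηz : ∀ z, (TensorProduct.rid R₁ M₁) (p₁.subtype.lTensor M₁ (Θ z)) = e (η.lTensor R₁ z) := by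
    intro z
    induction z with
    | zero => simp
    | tmul r x =>
      induction x with
      | zero => simp
      | tmul m a =>
        simp only [Θ, θ, η, e, LinearMap.liftBaseChange_tmul, tensorIdealMap_tmul, map_smul,
          LinearMap.lTensor_tmul, LinearMap.comp_apply, Submodule.subtype_apply,
          LinearEquiv.coe_coe, TensorProduct.rid_tmul, IsBaseChange.equiv_tmul]
        rw [algebraMap_smul, smul_comm]
      | add a b ha hb => simp only [tmul_add, map_add, ha, hb]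
    | add a b ha hb => simp only [map_add, ha, hb]
  have hz0 : η.lTensor R₁ z = 0 := e.injective (by rw [map_zero, ← hηz, show p₁.subtype.lTensor M₁ (Θ z) = 0 from hy, map_zero])
  have hWz : W.lTensor R₁ ((LinearMap.inr R₀ F _).lTensor R₁ z) = 0 := by
    rw [← LinearMap.lTensor_comp_apply, show W ∘ₗ LinearMap.inr R₀ F _ = η from LinearMap.coprod_inr _ _, hz0]
  obtain ⟨k, c, hc⟩ := exists_pow_smul_mem_range_lTensor (A := (F ⊗[R₀] p) × (LinearMap.ker η)) g Φ W hker hW R₁ _ hWz
  refine ⟨k, ?_⟩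
  let Kθ := Submodule.span R₁ (θ '' {x | p.subtype.lTensor M₀ x = 0})
  -- components
  let u := (LinearMap.fst R₀ (F ⊗[R₀] p) (LinearMap.ker η)).lTensor R₁ c
  let κ := (LinearMap.snd R₀ (F ⊗[R₀] p) (LinearMap.ker η)).lTensor R₁ c
  have hfst : ηF.lTensor R₁ u = 0 := by
    have h := congrArg ((LinearMap.fst R₀ F (M₀ ⊗[R₀] p)).lTensor R₁) hc
    rw [map_smul, ← LinearMap.lTensor_comp_apply, ← LinearMap.lTensor_comp_apply,
      LinearMap.fst_comp_inr, LinearMap.lTensor_zero, LinearMap.zero_apply, smul_zero] at h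
    rw [← LinearMap.lTensor_comp_apply]
    exact h
  have hsnd : g ^ k • z = -((Ψ.rTensor p).lTensor R₁ u) + (LinearMap.ker η).subtype.lTensor R₁ κ := by
    have h := congrArg ((LinearMap.snd R₀ F (M₀ ⊗[R₀] p)).lTensor R₁) hc
    rw [map_smul, ← LinearMap.lTensor_comp_apply, ← LinearMap.lTensor_comp_apply, LinearMap.snd_comp_inr,
      LinearMap.lTensor_id, LinearMap.id_apply] at h
    rw [← h]
    simp only [u, κ, ← LinearMap.lTensor_comp_apply]
    rw [show LinearMap.snd R₀ F (M₀ ⊗[R₀] p) ∘ₗ Φ = -(Ψ.rTensor p ∘ₗ LinearMap.fst _ _ _) +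
      (LinearMap.ker η).subtype ∘ₗ LinearMap.snd _ _ _ from LinearMap.snd_prod _ _, LinearMap.lTensor_add,
      LinearMap.lTensor_neg, LinearMap.add_apply, LinearMap.neg_apply]
  -- the free part maps to zero
  let βF : F →ₗ[R₀] (ι →₀ R₁) := Finsupp.mapRange.linearMap (Algebra.linearMap R₀ R₁)
  let θF := tensorIdealMap R₁ βF p
  let ΨB : (ι →₀ R₁) →ₗ[R₁] M₁ := Finsupp.linearCombination R₁ fun i => β (Ψ (Finsupp.single i 1))
  have hβF : ∀ f, ΨB (βF f) = β (Ψ f) := by
    intro f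
    induction f using Finsupp.induction_linear with
    | zero => simp
    | add f₁ f₂ h₁ h₂ => simp only [map_add, h₁, h₂]
    | single i r =>
      rw [show βF (Finsupp.single i r) = Finsupp.single i (algebraMap R₀ R₁ r) from
        Finsupp.mapRange_single (hf := map_zero (Algebra.linearMap R₀ R₁))]
      refine (Finsupp.linearCombination_single R₁ _ _).trans ?_
      rw [algebraMap_smul, ← map_smul β, ← map_smul Ψ, Finsupp.smul_single', mul_one]
  have hfree : ∀ u, Θ ((Ψ.rTensor p).lTensor R₁ u) = ΨB.rTensor p₁ (θF.liftBaseChange R₁ u) := by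
    intro u
    induction u with
    | zero => simp
    | tmul r x =>
      induction x with
      | zero => simp
      | tmul f a => simp [Θ, θ, θF, hβF, smul_tmul']
      | add a b ha hb => simp only [tmul_add, map_add, ha, hb]
    | add a b ha hb => simp only [map_add, ha, hb]
  have hu0 : θF.liftBaseChange R₁ u = 0 := by
    refine Module.Flat.lTensor_preserves_injective_linearMap (M := ι →₀ R₁) p₁.subtype Subtype.val_injective ?_
    apply (TensorProduct.rid R₁ (ι →₀ R₁)).injective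
    rw [map_zero, map_zero]
    have key : ∀ u, (TensorProduct.rid R₁ (ι →₀ R₁)) (p₁.subtype.lTensor _ (θF.liftBaseChange R₁ u)) =
        (βF.liftBaseChange R₁) (ηF.lTensor R₁ u) := by
      intro u
      induction u with
      | zero => simp
      | tmul r x =>
        induction x with
        | zero => simp
        | tmul f a =>
          simp only [θF, ηF, LinearMap.liftBaseChange_tmul, tensorIdealMap_tmul, map_smul,
            LinearMap.lTensor_tmul, LinearMap.comp_apply, Submodule.subtype_apply,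
            LinearEquiv.coe_coe, TensorProduct.rid_tmul]
          rw [algebraMap_smul]
        | add a b ha hb => simp only [tmul_add, map_add, ha, hb]
      | add a b ha hb => simp only [map_add, ha, hb]
    rw [key, hfst, map_zero]
  have hκ : ∀ κ, Θ ((LinearMap.ker η).subtype.lTensor R₁ κ) ∈ Kθ := by
    intro κ
    induction κ with
    | zero => simp
    | tmul r x =>
      rw [LinearMap.lTensor_tmul]
      show Θ (r ⊗ₜ[R₀] (x : M₀ ⊗[R₀] p)) ∈ Kθ
      rw [LinearMap.liftBaseChange_tmul]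
      exact Submodule.smul_mem _ _ (Submodule.subset_span ⟨x, (hη _).mp x.2, rfl⟩)
    | add a b ha hb => rw [map_add, map_add]; exact add_mem ha hb
  rw [← LinearMap.map_smul_of_tower, hsnd, map_add, map_neg, hfree, hu0, map_zero, neg_zero, zero_add]
  exact hκ κ

end Kernel

end Groth.FlatMorOne
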