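import Groth.Agent.FlatMorOne.GoodLocus

/-! Injectivity with flat cokernel comes from a base of finite presentation. -/

universe u

open CategoryTheory CategoryTheory.Limits AlgebraicGeometry TensorProduct Groth.QCohMod Groth.Flatmor4

namespace Groth.FlatMorOne

/-- An affine scheme of finite presentation over an affine open, from a finitely presented algebra. -/
theorem exists_spec_over {S S' : Scheme.{u}} [IsAffine S'] (h : S' ⟶ S) {V : S.Opens} (hV : IsAffineOpen V)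
    (hSV : ⊤ ≤ h ⁻¹ᵁ V) (R₁ : Type u) [CommRing R₁] [Algebra Γ(S, V) R₁]
    [Algebra.FinitePresentation Γ(S, V) R₁] (π : R₁ →+* Γ(S', ⊤))
    (hπ : π.comp (algebraMap Γ(S, V) R₁) = (h.appLE V ⊤ hSV).hom) :
    ∃ (T : Scheme.{u}) (_ : IsAffine T) (t : T ⟶ S) (htV : ⊤ ≤ t ⁻¹ᵁ V) (a : S' ⟶ T)
      (ρ : R₁ →+* Γ(T, ⊤)), LocallyOfFinitePresentation t ∧ a ≫ t = h ∧
        ρ.comp (algebraMap Γ(S, V) R₁) = (t.appLE V ⊤ htV).hom ∧
        (a.appLE ⊤ ⊤ le_top).hom.comp ρ = π := by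
  let χ : Γ(S, V) ⟶ CommRingCat.of R₁ := CommRingCat.ofHom (algebraMap Γ(S, V) R₁)
  let T := Spec (CommRingCat.of R₁)
  let t : T ⟶ S := Spec.map χ ≫ hV.fromSpec
  have htV : ⊤ ≤ t ⁻¹ᵁ V := fun z _ => by
    show hV.fromSpec (Spec.map χ z) ∈ (V : Set S)
    rw [← hV.range_fromSpec]
    exact ⟨_, rfl⟩
  let a : S' ⟶ T := S'.isoSpec.hom ≫ Spec.map (CommRingCat.ofHom π)
  have : LocallyOfFinitePresentation (Spec.map χ) :=
    (HasRingHomProperty.Spec_iff (P := @LocallyOfFinitePresentation)).mpr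
      (RingHom.finitePresentation_algebraMap.mpr ‹_›)
  refine ⟨T, inferInstance, t, htV, a, (Scheme.ΓSpecIso (CommRingCat.of R₁)).inv.hom, inferInstance, ?_, ?_, ?_⟩
  · show S'.isoSpec.hom ≫ Spec.map (CommRingCat.ofHom π) ≫ Spec.map χ ≫ hV.fromSpec = h
    rw [← Spec.map_comp_assoc, show χ ≫ CommRingCat.ofHom π = h.appLE V ⊤ hSV from CommRingCat.hom_ext hπ,
      IsAffineOpen.SpecMap_appLE_fromSpec h hV (isAffineOpen_top S') hSV, IsAffineOpen.fromSpec_top,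
      Iso.hom_inv_id_assoc]
  · show (χ ≫ (Scheme.ΓSpecIso (CommRingCat.of R₁)).inv).hom = _
    congr 1
    rw [Scheme.ΓSpecIso_inv_naturality]
    simp only [t, Scheme.Hom.appLE]
    have h2 : hV.fromSpec.appLE V ⊤ hV.fromSpec_preimage_self.ge = (Scheme.ΓSpecIso Γ(S, V)).inv := by
      rw [Scheme.Hom.appLE, IsAffineOpen.fromSpec_app_self, Category.assoc, ← Functor.map_comp]
      exact (congrArg (_ ≫ ·) ((congrArg _ (Subsingleton.elim _ (𝟙 _))).trans (CategoryTheory.Functor.map_id _ _))).trans (Category.comp_id _)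
    refine (congrArg (· ≫ (Spec.map χ).appTop) h2.symm).trans ?_
    show _ = (Spec.map χ ≫ hV.fromSpec).appLE V ⊤ htV
    rw [← Scheme.Hom.appLE_comp_appLE _ _ V ⊤ ⊤ hV.fromSpec_preimage_self.ge le_top]
    simp [Scheme.Hom.appLE]
  · show ((Scheme.ΓSpecIso (CommRingCat.of R₁)).inv ≫ a.appLE ⊤ ⊤ le_top).hom = π
    have : a.appLE ⊤ ⊤ le_top = a.appTop := by simp [Scheme.Hom.appLE]
    rw [this]
    simp only [a, Scheme.Hom.comp_appTop, Scheme.isoSpec_hom, Scheme.toSpecΓ_appTop]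
    rw [← Category.assoc, ← Scheme.ΓSpecIso_inv_naturality, Category.assoc, Iso.inv_hom_id, Category.comp_id]
    rfl

variable {X S S' P : Scheme.{u}} {f : X ⟶ S} [LocallyOfFinitePresentation f] [IsAffine S'] {h : S' ⟶ S}
  {V : S.Opens} {p : P ⟶ S'} {q : P ⟶ X}

/-- Flatness at a point comes from a base of finite presentation. -/
theorem exists_factor_flatAt (H : IsPullback q p f h) (hV : IsAffineOpen V) (hSV : ⊤ ≤ h ⁻¹ᵁ V)
    (M : X.Modules) [M.IsQuasicoherent] (hM : CohB1.IsFP M) (x : P)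
    (hx : FlatMod.IsFlatOverAt p ((Scheme.Modules.pullback q).obj M) x) :
    ∃ (T : Scheme.{u}) (_ : IsAffine T) (t : T ⟶ S) (_ : ⊤ ≤ t ⁻¹ᵁ V) (a : S' ⟶ T),
      LocallyOfFinitePresentation t ∧ a ≫ t = h ∧
      ∀ ⦃P₂ : Scheme.{u}⦄ (q₂ : P₂ ⟶ X) (p₂ : P₂ ⟶ T), IsPullback q₂ p₂ f t →
        ∀ L : P ⟶ P₂, L ≫ q₂ = q → L ≫ p₂ = p ≫ a →
          FlatMod.IsFlatOverAt p₂ ((Scheme.Modules.pullback q₂).obj M) (L x) := by
  have hxV : q x ∈ f ⁻¹ᵁ V := by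
    show f (q x) ∈ V
    rw [← Scheme.Hom.comp_apply, H.w, Scheme.Hom.comp_apply]
    exact hSV trivial
  obtain ⟨_, ⟨U : X.Opens, hU, rfl⟩, hxU, eU⟩ :=
    X.isBasis_affineOpens.exists_subset_of_mem_open hxV (f ⁻¹ᵁ V).2
  obtain ⟨hW, hpo⟩ := exists_chart_of H hV hU eU (isAffineOpen_top S') hSV
  let W := q ⁻¹ᵁ U ⊓ p ⁻¹ᵁ ⊤
  have hxW : x ∈ W := ⟨hxU, trivial⟩
  letI := (f.appLE V U eU).hom.toAlgebra
  letI := (h.appLE V ⊤ hSV).hom.toAlgebra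
  letI := sectionsAlg q (inf_le_left : W ≤ q ⁻¹ᵁ U)
  letI := (p.appLE ⊤ W inf_le_right).hom.toAlgebra
  letI : Algebra Γ(S, V) Γ(P, W) := ((q.appLE U W inf_le_left).hom.comp (f.appLE V U eU).hom).toAlgebra
  haveI : IsScalarTower Γ(S, V) Γ(X, U) Γ(P, W) := .of_algebraMap_eq' rfl
  haveI : IsScalarTower Γ(S, V) Γ(S', ⊤) Γ(P, W) := .of_algebraMap_eq fun a => congr($(hpo.w) a)
  haveI : Algebra.IsPushout Γ(S, V) Γ(X, U) Γ(S', ⊤) Γ(P, W) := CommRingCat.isPushout_iff_isPushout.mp hpo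
  haveI : Algebra.IsPushout Γ(S, V) Γ(S', ⊤) Γ(X, U) Γ(P, W) := .symm inferInstance
  let M' := (Scheme.Modules.pullback q).obj M
  haveI : M'.IsQuasicoherent := inferInstance
  letI := sectionModule p M' (inf_le_right : W ≤ p ⁻¹ᵁ ⊤)
  haveI : IsScalarTower Γ(S', ⊤) Γ(P, W) Γ(M', W) := .of_algebraMap_smul fun _ _ => rfl
  letI : Module Γ(X, U) Γ(M', W) := Module.compHom _ (q.appLE U W inf_le_left).hom
  haveI : IsScalarTower Γ(X, U) Γ(P, W) Γ(M', W) := .of_algebraMap_smul fun _ _ => rfl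
  have : Algebra.FinitePresentation Γ(S, V) Γ(X, U) := f.finitePresentation_appLE hV hU eU
  have := Groth.PropsBasic.FPSections.finitePresentation_sections M hM hU
  obtain ⟨R₁, _, _, π, hfp, hstage⟩ := exists_fp_stage_flat (R₀ := Γ(S, V)) (R := Γ(S', ⊤)) (S := Γ(P, W))
    (Groth.LocFree.isBaseChange_pullSecₗ q M (inf_le_left : W ≤ q ⁻¹ᵁ U) hU hW)
    (hW.primeIdealOf ⟨x, hxW⟩).asIdeal
    ((isFlatOverAt_iff_localized p M' hW (isAffineOpen_top S') inf_le_right ⟨x, hxW⟩).mp hx)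
  obtain ⟨T, hT, t, htV, a, ρ, htfp, hat, hρ, hρa⟩ := exists_spec_over h hV hSV R₁ π.toRingHom
    (RingHom.ext fun r => π.commutes r)
  refine ⟨T, hT, t, htV, a, htfp, hat, fun P₂ q₂ p₂ H₂ L hLq hLp => ?_⟩
  obtain ⟨hW₂, hpo₂⟩ := exists_chart_of H₂ hV hU eU (isAffineOpen_top T) htV
  let W₂ := q₂ ⁻¹ᵁ U ⊓ p₂ ⁻¹ᵁ ⊤
  have eL : W ≤ L ⁻¹ᵁ W₂ := fun z hz => ⟨by
    show q₂ (L z) ∈ U
    rw [← Scheme.Hom.comp_apply, hLq]
    exact hz.1, trivial⟩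
  letI := (t.appLE V ⊤ htV).hom.toAlgebra
  letI := sectionsAlg q₂ (inf_le_left : W₂ ≤ q₂ ⁻¹ᵁ U)
  letI := (p₂.appLE ⊤ W₂ inf_le_right).hom.toAlgebra
  letI : Algebra Γ(S, V) Γ(P₂, W₂) := ((q₂.appLE U W₂ inf_le_left).hom.comp (f.appLE V U eU).hom).toAlgebra
  haveI : IsScalarTower Γ(S, V) Γ(X, U) Γ(P₂, W₂) := .of_algebraMap_eq' rfl
  haveI : IsScalarTower Γ(S, V) Γ(T, ⊤) Γ(P₂, W₂) := .of_algebraMap_eq fun a => congr($(hpo₂.w) a)
  haveI : Algebra.IsPushout Γ(S, V) Γ(X, U) Γ(T, ⊤) Γ(P₂, W₂) := CommRingCat.isPushout_iff_isPushout.mp hpo₂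
  haveI : Algebra.IsPushout Γ(S, V) Γ(T, ⊤) Γ(X, U) Γ(P₂, W₂) := .symm inferInstance
  let M₂ := (Scheme.Modules.pullback q₂).obj M
  haveI : M₂.IsQuasicoherent := inferInstance
  letI := sectionModule p₂ M₂ (inf_le_right : W₂ ≤ p₂ ⁻¹ᵁ ⊤)
  haveI : IsScalarTower Γ(T, ⊤) Γ(P₂, W₂) Γ(M₂, W₂) := .of_algebraMap_smul fun _ _ => rfl
  letI : Module Γ(X, U) Γ(M₂, W₂) := Module.compHom _ (q₂.appLE U W₂ inf_le_left).hom
  haveI : IsScalarTower Γ(X, U) Γ(P₂, W₂) Γ(M₂, W₂) := .of_algebraMap_smul fun _ _ => rfl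
  letI := (a.appLE ⊤ ⊤ le_top).hom.toAlgebra
  haveI : IsScalarTower Γ(S, V) Γ(T, ⊤) Γ(S', ⊤) := .of_algebraMap_eq' (by
    show (h.appLE V ⊤ hSV).hom = (t.appLE V ⊤ htV ≫ a.appLE ⊤ ⊤ le_top).hom
    rw [Scheme.Hom.appLE_comp_appLE]
    congr 2
    exact hat.symm)
  let ρ' : R₁ →ₐ[Γ(S, V)] Γ(T, ⊤) := { ρ with commutes' := fun r => RingHom.congr_fun hρ r }
  have := hstage Γ(T, ⊤) ρ' (fun z => RingHom.congr_fun hρa z) Γ(P₂, W₂) Γ(M₂, W₂)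
    (Groth.LocFree.pullSecₗ q₂ M inf_le_left)
    (Groth.LocFree.isBaseChange_pullSecₗ q₂ M (inf_le_left : W₂ ≤ q₂ ⁻¹ᵁ U) hU hW₂)
    (L.appLE W₂ W eL).hom
    (fun r => by
      show (p₂.appLE ⊤ W₂ inf_le_right ≫ L.appLE W₂ W eL).hom r = (a.appLE ⊤ ⊤ le_top ≫ p.appLE ⊤ W inf_le_right).hom r
      simp only [Scheme.Hom.appLE_comp_appLE, hLp])
    (fun s => by
      show (q₂.appLE U W₂ inf_le_left ≫ L.appLE W₂ W eL).hom s = (q.appLE U W inf_le_left).hom s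
      simp only [Scheme.Hom.appLE_comp_appLE, hLq])
  refine (isFlatOverAt_iff_localized p₂ M₂ hW₂ (isAffineOpen_top T) inf_le_right ⟨L x, eL hxW⟩).mpr ?_
  exact flat_localized_of_eq (hq := this)
    (congrArg PrimeSpectrum.asIdeal (IsAffineOpen.comap_primeIdealOf_appLE W₂ hW₂ W hW eL hxW))

/-- Injectivity at a point comes from a base of finite presentation when the cokernel is flat. -/
theorem exists_factor_injective (H : IsPullback q p f h) (hV : IsAffineOpen V) (hSV : ⊤ ≤ h ⁻¹ᵁ V)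
    {F F' : X.Modules} [F.IsQuasicoherent] [F'.IsQuasicoherent] (hF : CohB1.IsFP F) (hF' : CohB1.IsFP F')
    (u : F' ⟶ F) (x : P) (hxf : FlatMod.IsFlatOverAt f (cokernel u) (q x))
    (hx : Function.Injective ((stalk x).map ((Scheme.Modules.pullback q).map u))) :
    ∃ (T : Scheme.{u}) (_ : IsAffine T) (t : T ⟶ S) (_ : ⊤ ≤ t ⁻¹ᵁ V) (a : S' ⟶ T),
      LocallyOfFinitePresentation t ∧ a ≫ t = h ∧
      ∀ ⦃P₂ : Scheme.{u}⦄ (q₂ : P₂ ⟶ X) (p₂ : P₂ ⟶ T), IsPullback q₂ p₂ f t →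
        ∀ L : P ⟶ P₂, L ≫ q₂ = q → L ≫ p₂ = p ≫ a →
          Function.Injective ((stalk (L x)).map ((Scheme.Modules.pullback q₂).map u)) := by
  have hxV : q x ∈ f ⁻¹ᵁ V := by
    show f (q x) ∈ V
    rw [← Scheme.Hom.comp_apply, H.w, Scheme.Hom.comp_apply]
    exact hSV trivial
  let O : X.Opens := ⟨_, isOpen_isFlatOverAt f (cokernel u) (isFP_cokernel u hF hF')⟩
  obtain ⟨_, ⟨U : X.Opens, hU, rfl⟩, hxU, hle⟩ :=
    X.isBasis_affineOpens.exists_subset_of_mem_open (show q x ∈ f ⁻¹ᵁ V ⊓ O from ⟨hxV, hxf⟩) (f ⁻¹ᵁ V ⊓ O).2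
  have eU : U ≤ f ⁻¹ᵁ V := fun y hy => (hle hy).1
  obtain ⟨hW, hpo⟩ := exists_chart_of H hV hU eU (isAffineOpen_top S') hSV
  let W := q ⁻¹ᵁ U ⊓ p ⁻¹ᵁ ⊤
  have hxW : x ∈ W := ⟨hxU, trivial⟩
  letI := (f.appLE V U eU).hom.toAlgebra
  letI := (h.appLE V ⊤ hSV).hom.toAlgebra
  letI := sectionsAlg q (inf_le_left : W ≤ q ⁻¹ᵁ U)
  letI := (p.appLE ⊤ W inf_le_right).hom.toAlgebra
  letI : Algebra Γ(S, V) Γ(P, W) := ((q.appLE U W inf_le_left).hom.comp (f.appLE V U eU).hom).toAlgebra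
  haveI : IsScalarTower Γ(S, V) Γ(X, U) Γ(P, W) := .of_algebraMap_eq' rfl
  haveI : IsScalarTower Γ(S, V) Γ(S', ⊤) Γ(P, W) := .of_algebraMap_eq fun a => congr($(hpo.w) a)
  haveI : Algebra.IsPushout Γ(S, V) Γ(X, U) Γ(S', ⊤) Γ(P, W) := CommRingCat.isPushout_iff_isPushout.mp hpo
  haveI : Algebra.IsPushout Γ(S, V) Γ(S', ⊤) Γ(X, U) Γ(P, W) := .symm inferInstance
  letI := sectionModule f F eU
  letI := sectionModule f F' eU
  letI := sectionModule f (cokernel u) eU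
  haveI : IsScalarTower Γ(S, V) Γ(X, U) Γ(F, U) := .of_algebraMap_smul fun _ _ => rfl
  haveI : IsScalarTower Γ(S, V) Γ(X, U) Γ(F', U) := .of_algebraMap_smul fun _ _ => rfl
  haveI : IsScalarTower Γ(S, V) Γ(X, U) Γ((cokernel u : X.Modules), U) := .of_algebraMap_smul fun _ _ => rfl
  have : Module.Flat Γ(S, V) Γ((cokernel u : X.Modules), U) :=
    (flat_sections_iff f (cokernel u) hU hV eU).mpr fun y hy => (hle hy).2
  have : Algebra.FinitePresentation Γ(S, V) Γ(X, U) := f.finitePresentation_appLE hV hU eU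
  have := Groth.PropsBasic.FPSections.finitePresentation_sections F hF hU
  have := Groth.PropsBasic.FPSections.finitePresentation_sections F' hF' hU
  let φ := appₗ u U
  have hφ : (LinearMap.ker φ).FG := fg_ker_of_flat_coker Γ(S, V) φ (appₗ (cokernel.π u) U)
    (app_surjective_of_epi _ hU) (exact_appₗ_cokernel u hU)
  let N' := (Scheme.Modules.pullback q).obj F'
  let N := (Scheme.Modules.pullback q).obj F
  letI := sectionModule p N' (inf_le_right : W ≤ p ⁻¹ᵁ ⊤)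
  haveI : IsScalarTower Γ(S', ⊤) Γ(P, W) Γ(N', W) := .of_algebraMap_smul fun _ _ => rfl
  letI : Module Γ(X, U) Γ(N', W) := Module.compHom _ (q.appLE U W inf_le_left).hom
  haveI : IsScalarTower Γ(X, U) Γ(P, W) Γ(N', W) := .of_algebraMap_smul fun _ _ => rfl
  letI : Module Γ(X, U) Γ(N, W) := Module.compHom _ (q.appLE U W inf_le_left).hom
  haveI : IsScalarTower Γ(X, U) Γ(P, W) Γ(N, W) := .of_algebraMap_smul fun _ _ => rfl
  obtain ⟨R₁, _, _, π, n, r, s, hfp, hw, hrel⟩ := exists_fp_stage_injective (R := Γ(S, V)) (R' := Γ(S', ⊤))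
    (S' := Γ(P, W)) φ hφ (appₗ ((Scheme.Modules.pullback q).map u) W)
    (Groth.LocFree.isBaseChange_pullSecₗ q F' (inf_le_left : W ≤ q ⁻¹ᵁ U) hU hW)
    (β := Groth.LocFree.pullSecₗ q F (inf_le_left : W ≤ q ⁻¹ᵁ U))
    (fun k => appₗ_pullback q u inf_le_left k)
    (hW.primeIdealOf ⟨x, hxW⟩).asIdeal (fun m hm => by
      obtain ⟨c, hc, hcm⟩ := (injective_stalk_iff _ hW x hxW).mp hx m hm
      exact ⟨c, (mem_basicOpen_iff_notMem_primeIdealOf hW c x hxW).mp hc, hcm⟩)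
  obtain ⟨T, hT, t, htV, a, ρ, htfp, hat, hρ, hρa⟩ := exists_spec_over h hV hSV R₁ π.toRingHom
    (RingHom.ext fun r => π.commutes r)
  refine ⟨T, hT, t, htV, a, htfp, hat, fun P₂ q₂ p₂ H₂ L hLq hLp => ?_⟩
  obtain ⟨hW₂, hpo₂⟩ := exists_chart_of H₂ hV hU eU (isAffineOpen_top T) htV
  let W₂ := q₂ ⁻¹ᵁ U ⊓ p₂ ⁻¹ᵁ ⊤
  have eL : W ≤ L ⁻¹ᵁ W₂ := fun z hz => ⟨by
    show q₂ (L z) ∈ U
    rw [← Scheme.Hom.comp_apply, hLq]
    exact hz.1, trivial⟩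
  letI := (t.appLE V ⊤ htV).hom.toAlgebra
  letI := sectionsAlg q₂ (inf_le_left : W₂ ≤ q₂ ⁻¹ᵁ U)
  letI := (p₂.appLE ⊤ W₂ inf_le_right).hom.toAlgebra
  letI : Algebra Γ(S, V) Γ(P₂, W₂) := ((q₂.appLE U W₂ inf_le_left).hom.comp (f.appLE V U eU).hom).toAlgebra
  haveI : IsScalarTower Γ(S, V) Γ(X, U) Γ(P₂, W₂) := .of_algebraMap_eq' rfl
  haveI : IsScalarTower Γ(S, V) Γ(T, ⊤) Γ(P₂, W₂) := .of_algebraMap_eq fun a => congr($(hpo₂.w) a)
  haveI : Algebra.IsPushout Γ(S, V) Γ(X, U) Γ(T, ⊤) Γ(P₂, W₂) := CommRingCat.isPushout_iff_isPushout.mp hpo₂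
  haveI : Algebra.IsPushout Γ(S, V) Γ(T, ⊤) Γ(X, U) Γ(P₂, W₂) := .symm inferInstance
  let EF : Γ(P₂, W₂) ⊗[Γ(X, U)] Γ(F, U) ≃ₗ[Γ(P₂, W₂)] Γ((Scheme.Modules.pullback q₂).obj F, W₂) :=
    pullSecEquiv q₂ F (inf_le_left : W₂ ≤ q₂ ⁻¹ᵁ U) hU hW₂
  let EG : Γ(P₂, W₂) ⊗[Γ(X, U)] Γ(F', U) ≃ₗ[Γ(P₂, W₂)] Γ((Scheme.Modules.pullback q₂).obj F', W₂) :=
    pullSecEquiv q₂ F' (inf_le_left : W₂ ≤ q₂ ⁻¹ᵁ U) hU hW₂
  let c : Γ(P₂, W₂) := ∑ i, algebraMap Γ(T, ⊤) Γ(P₂, W₂) (ρ (r i)) * algebraMap Γ(X, U) Γ(P₂, W₂) (s i)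
  refine (injective_stalk_iff _ hW₂ (L x) (eL hxW)).mpr fun m hm => ⟨c, ?_, ?_⟩
  · rw [mem_basicOpen_iff_notMem_primeIdealOf hW₂ c (L x) (eL hxW),
      show (hW₂.primeIdealOf ⟨L x, eL hxW⟩).asIdeal = (hW.primeIdealOf ⟨x, hxW⟩).asIdeal.comap
        (L.appLE W₂ W eL).hom from
        (congrArg PrimeSpectrum.asIdeal (IsAffineOpen.comap_primeIdealOf_appLE W₂ hW₂ W hW eL hxW)).symm,
      Ideal.mem_comap]
    convert hw using 2
    simp only [c, map_sum, map_mul]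
    refine Finset.sum_congr rfl fun i _ => ?_
    congr 1
    · show (p₂.appLE ⊤ W₂ inf_le_right ≫ L.appLE W₂ W eL).hom (ρ (r i)) = (p.appLE ⊤ W inf_le_right).hom (π (r i))
      rw [show π (r i) = (a.appLE ⊤ ⊤ le_top).hom (ρ (r i)) from (RingHom.congr_fun hρa (r i)).symm]
      show _ = (a.appLE ⊤ ⊤ le_top ≫ p.appLE ⊤ W inf_le_right).hom (ρ (r i))
      simp only [Scheme.Hom.appLE_comp_appLE, hLp]
    · show (q₂.appLE U W₂ inf_le_left ≫ L.appLE W₂ W eL).hom (s i) = (q.appLE U W inf_le_left).hom (s i)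
      simp only [Scheme.Hom.appLE_comp_appLE, hLq]
  obtain ⟨w, rfl⟩ := EG.surjective m
  obtain ⟨z, rfl⟩ := (Algebra.IsPushout.cancelBaseChange Γ(S, V) Γ(T, ⊤) Γ(X, U) Γ(P₂, W₂) Γ(F', U)).symm.surjective w
  have key : ∀ z : Γ(T, ⊤) ⊗[Γ(S, V)] Γ(F', U),
      appₗ ((Scheme.Modules.pullback q₂).map u) W₂ (EG
        ((Algebra.IsPushout.cancelBaseChange Γ(S, V) Γ(T, ⊤) Γ(X, U) Γ(P₂, W₂) Γ(F', U)).symm z)) =
      EF ((Algebra.IsPushout.cancelBaseChange Γ(S, V) Γ(T, ⊤) Γ(X, U) Γ(P₂, W₂) Γ(F, U)).symm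
        ((φ.restrictScalars Γ(S, V)).lTensor Γ(T, ⊤) z)) := by
    intro z
    induction z using TensorProduct.induction_on with
    | zero => simp
    | tmul c k =>
      simp only [LinearMap.lTensor_tmul, LinearMap.restrictScalars_apply,
        Algebra.IsPushout.cancelBaseChange_symm_tmul]
      show appₗ ((Scheme.Modules.pullback q₂).map u) W₂ (algebraMap Γ(T, ⊤) Γ(P₂, W₂) c •
          Groth.LocFree.pullSecₗ q₂ F' (inf_le_left : W₂ ≤ q₂ ⁻¹ᵁ U) k) =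
        algebraMap Γ(T, ⊤) Γ(P₂, W₂) c • Groth.LocFree.pullSecₗ q₂ F (inf_le_left : W₂ ≤ q₂ ⁻¹ᵁ U) (φ k)
      rw [map_smul, appₗ_pullback]
    | add a b ha hb => simp only [map_add, ha, hb]
  have h0 : (φ.restrictScalars Γ(S, V)).lTensor Γ(T, ⊤) z = 0 := by
    rw [LinearMap.mem_ker, key] at hm
    exact (Algebra.IsPushout.cancelBaseChange Γ(S, V) Γ(T, ⊤) Γ(X, U) Γ(P₂, W₂) Γ(F, U)).symm.map_eq_zero_iff.mp
      (EF.map_eq_zero_iff.mp hm)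
  obtain ⟨w', hw'⟩ := mem_range_lTensor_ker φ (appₗ (cokernel.π u) U) (app_surjective_of_epi _ hU)
    (exact_appₗ_cokernel u hU) Γ(T, ⊤) z h0
  rw [← hw']
  clear hw' hm h0
  induction w' using TensorProduct.induction_on with
  | zero => simp only [map_zero]; exact smul_zero c
  | tmul d k =>
    let ρ' : R₁ →ₐ[Γ(S, V)] Γ(T, ⊤) := { ρ with commutes' := fun r => RingHom.congr_fun hρ r }
    have h1 := congrArg (fun z => d • ρ'.toLinearMap.rTensor Γ(F', U) z) (hrel k.1 k.2)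
    simp only [map_sum, map_zero, smul_zero, LinearMap.rTensor_tmul, Finset.smul_sum, smul_tmul'] at h1
    have h2 := congrArg (fun z => EG
      ((Algebra.IsPushout.cancelBaseChange Γ(S, V) Γ(T, ⊤) Γ(X, U) Γ(P₂, W₂) Γ(F', U)).symm z)) h1
    simp only [map_sum, map_zero, Algebra.IsPushout.cancelBaseChange_symm_tmul] at h2
    refine Eq.trans ?_ h2
    simp only [LinearMap.lTensor_tmul, Algebra.IsPushout.cancelBaseChange_symm_tmul, c, Finset.sum_smul]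
    refine Finset.sum_congr rfl fun i _ => ?_
    rw [← map_smul]
    congr 1
    rw [TensorProduct.tmul_smul, ← algebraMap_smul Γ(P₂, W₂) (s i), smul_tmul', smul_tmul']
    congr 1
    simp only [smul_eq_mul, map_mul]
    show algebraMap _ _ (ρ (r i)) * algebraMap _ _ (s i) * algebraMap _ _ d =
      algebraMap _ _ (s i) * (algebraMap _ _ d * algebraMap _ _ (ρ (r i)))
    ring
  | add a b ha hb => simp only [map_add, smul_add, ha, hb, add_zero]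

/-- A point of injectivity with flat cokernel comes from a base of finite presentation. -/
theorem exists_factor_good (H : IsPullback q p f h) (hV : IsAffineOpen V) (hSV : ⊤ ≤ h ⁻¹ᵁ V)
    {F F' : X.Modules} [F.IsQuasicoherent] [F'.IsQuasicoherent] (hF : CohB1.IsFP F) (hF' : CohB1.IsFP F')
    (u : F' ⟶ F) (x : P) (hx : GoodAt p ((Scheme.Modules.pullback q).map u) x) :
    ∃ (T : Scheme.{u}) (_ : IsAffine T) (t : T ⟶ S) (_ : ⊤ ≤ t ⁻¹ᵁ V) (a : S' ⟶ T),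
      LocallyOfFinitePresentation t ∧ a ≫ t = h ∧
      ∀ ⦃P₂ : Scheme.{u}⦄ (q₂ : P₂ ⟶ X) (p₂ : P₂ ⟶ T), IsPullback q₂ p₂ f t →
        ∀ L : P ⟶ P₂, L ≫ q₂ = q → L ≫ p₂ = p ≫ a →
          GoodAt p₂ ((Scheme.Modules.pullback q₂).map u) (L x) := by
  have hx2 : FlatMod.IsFlatOverAt p ((Scheme.Modules.pullback q).obj (cokernel u)) x :=
    (isFlatOverAt_congr p (PreservesCokernel.iso (Scheme.Modules.pullback q) u) x).mpr hx.2
  obtain ⟨T₁, hT₁, t₁, ht₁V, a₁, ht₁, hat₁, hflat⟩ :=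
    exists_factor_flatAt H hV hSV (cokernel u) (isFP_cokernel u hF hF') x hx2
  let P₁ := pullback f t₁
  let q₁ : P₁ ⟶ X := pullback.fst f t₁
  let p₁ : P₁ ⟶ T₁ := pullback.snd f t₁
  have H₁ : IsPullback q₁ p₁ f t₁ := IsPullback.of_hasPullback f t₁
  let L₁ : P ⟶ P₁ := H₁.lift q (p ≫ a₁) (by rw [H.w, Category.assoc, hat₁])
  have hL₁q : L₁ ≫ q₁ = q := H₁.lift_fst _ _ _
  have hL₁p : L₁ ≫ p₁ = p ≫ a₁ := H₁.lift_snd _ _ _
  have : LocallyOfFinitePresentation p₁ := MorphismProperty.of_isPullback H₁ ‹LocallyOfFinitePresentation f›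
  have H' : IsPullback L₁ p p₁ a₁ :=
    IsPullback.of_right (by rw [hL₁q, hat₁]; exact H) hL₁p H₁
  have hflat₁ : FlatMod.IsFlatOverAt p₁ (cokernel ((Scheme.Modules.pullback q₁).map u)) (L₁ x) :=
    (isFlatOverAt_congr p₁ (PreservesCokernel.iso (Scheme.Modules.pullback q₁) u) _).mp
      (hflat q₁ p₁ H₁ L₁ hL₁q hL₁p)
  have hinj₁ : Function.Injective ((stalk x).map
      ((Scheme.Modules.pullback L₁).map ((Scheme.Modules.pullback q₁).map u))) := by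
    have := (goodAt_pullback_comp p L₁ q₁ u x).mpr (by rw [hL₁q]; exact hx)
    exact this.1
  obtain ⟨T, hT, t, htV, a, ht, hat, hinj⟩ :=
    exists_factor_injective H' (isAffineOpen_top T₁) le_top
      (Groth.QCohMod.isFP_pullback q₁ F hF) (Groth.QCohMod.isFP_pullback q₁ F' hF')
      ((Scheme.Modules.pullback q₁).map u) x hflat₁ hinj₁
  refine ⟨T, hT, t ≫ t₁, fun z _ => ht₁V trivial, a, inferInstance, by rw [← Category.assoc, hat, hat₁],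
    fun P₂ q₂ p₂ H₂ L hLq hLp => ?_⟩
  let b : P₂ ⟶ P₁ := H₁.lift q₂ (p₂ ≫ t) (by rw [H₂.w, Category.assoc])
  have hbq : b ≫ q₁ = q₂ := H₁.lift_fst _ _ _
  have hbp : b ≫ p₁ = p₂ ≫ t := H₁.lift_snd _ _ _
  have Hb : IsPullback b p₂ p₁ t := IsPullback.of_right (by rw [hbq]; exact H₂) hbp H₁
  have hLb : L ≫ b = L₁ := H₁.hom_ext (by rw [Category.assoc, hbq, hLq, hL₁q])
    (by rw [Category.assoc, hbp, reassoc_of% hLp, hat, hL₁p])
  rw [← hbq]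
  refine (goodAt_pullback_comp p₂ b q₁ u (L x)).mp ⟨hinj b p₂ Hb L hLb hLp, ?_⟩
  refine (isFlatOverAt_congr p₂ (PreservesCokernel.iso (Scheme.Modules.pullback b) _) _).mp
    (isFlatOverAt_baseChange Hb _ _ ?_)
  rw [show b (L x) = L₁ x by rw [← Scheme.Hom.comp_apply, hLb]]
  exact hflat₁

end Groth.FlatMorOne
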