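import Groth.Agent.FlatMorOne.FlatBaseChangeScheme
import Groth.Agent.FlatMorOne.FlatStratAlgebra
import Groth.Agent.FlatMorOne.FTIdealExtend
import Groth.Agent.Divisors.IdealComap

/-! The stratification by generic flatness of a quasi-compact quasi-separated scheme. -/

universe u

open CategoryTheory CategoryTheory.Limits AlgebraicGeometry TensorProduct Groth.QCohMod Groth.Flatmor4

namespace Groth.FlatMorOne

variable {X S : Scheme.{u}}

/-- After base change along `j` the module is flat at all points over `U`. -/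
def FlatAbove (f : X ⟶ S) (F : X.Modules) (U : Set X) {T : Scheme.{u}} (j : T ⟶ S) : Prop :=
  ∀ ⦃P : Scheme.{u}⦄ (q : P ⟶ X) (p : P ⟶ T), IsPullback q p f j →
    ∀ x : P, q x ∈ U → FlatMod.IsFlatOverAt p ((Scheme.Modules.pullback q).obj F) x

/-- `F` is flat above `U` on the stratum of `I ≤ J`. -/
def StratFlat (f : X ⟶ S) (F : X.Modules) (U : Set X) (I J : S.IdealSheafData) : Prop :=
  ∀ ⦃T : Scheme.{u}⦄ (j : T ⟶ S), I.comap j = ⊥ → J.comap j = ⊤ → FlatAbove f F U j

/-- A chain of ideal sheaves of finite type with flat strata. -/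
inductive StratChain (f : X ⟶ S) (F : X.Modules) (U : Set X) : S.IdealSheafData → Prop
  | top : StratChain f F U ⊤
  | cons (I J : S.IdealSheafData) : (∀ W : S.affineOpens, (I.ideal W).FG) → I ≤ J →
      StratFlat f F U I J → StratChain f F U J → StratChain f F U I

variable {f : X ⟶ S} {F : X.Modules} {U U' : Set X}

theorem StratChain.fg {I : S.IdealSheafData} (h : StratChain f F U I) (W : S.affineOpens) :
    (I.ideal W).FG := by
  cases h with
  | top => exact ⟨{1}, by simp⟩
  | cons I J hfg => exact hfg W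

/-- Nothing lies over the complement of the whole space. -/
theorem isEmpty_of_comap_eq_top {J : S.IdealSheafData} (hJ : (J.support : Set S) = Set.univ)
    {T : Scheme.{u}} (j : T ⟶ S) (h : J.comap j = ⊤) : IsEmpty T := by
  refine ⟨fun t => ?_⟩
  have h1 := congrArg (fun I : T.IdealSheafData => (I.support : Set T)) h
  simp only [Scheme.IdealSheafData.support_comap, Scheme.IdealSheafData.support_top,
    TopologicalSpace.Closeds.coe_preimage, hJ, Set.preimage_univ, TopologicalSpace.Closeds.coe_bot] at h1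
  exact (Set.ext_iff.mp h1 t).mp trivial

theorem mul_le_left' (I J : S.IdealSheafData) : I * J ≤ I := fun W => by
  simpa using Ideal.mul_le_left

theorem mul_le_right' (I J : S.IdealSheafData) : I * J ≤ J := fun W => by
  simpa using Ideal.mul_le_right

theorem top_mul' {Y : Scheme.{u}} (J : Y.IdealSheafData) : ⊤ * J = J :=
  Scheme.IdealSheafData.ext (funext fun W => by simp)

/-- Two chains combine into a chain for the union. -/
theorem StratChain.union {I J₀ : S.IdealSheafData} (hI : StratChain f F U I)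
    (hJ₀ : StratChain f F U' J₀) (hnil : (J₀.support : Set S) = Set.univ) :
    StratChain f F (U ∪ U') I := by
  induction hI with
  | top => exact .top
  | cons I I' hfg hle hflat hI' ih =>
    have key : ∀ J, StratChain f F U' J → StratChain f F (U ∪ U') (I ⊔ I' * J) := by
      intro J hJ
      induction hJ with
      | top =>
        rw [show I ⊔ I' * ⊤ = I' by
          refine le_antisymm (sup_le hle (mul_le_left' _ _)) (le_sup_of_le_right ?_)
          exact fun W => by simp]
        exact ih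
      | cons J J' hfgJ hleJ hflatJ _ ihJ =>
        refine .cons _ _ (fun W => ?_) (sup_le le_sup_left (le_sup_of_le_right fun W => ?_)) (fun T j h1 h2 => ?_) ihJ
        · rw [Scheme.IdealSheafData.ideal_sup]
          exact Submodule.FG.sup (hfg W) (by rw [Scheme.IdealSheafData.ideal_mul]; exact (hI'.fg W).mul (hfgJ W))
        · simpa using Ideal.mul_mono_right (hleJ W)
        · rw [Scheme.IdealSheafData.comap_sup, Groth.Divisors.comap_mul, sup_eq_bot_iff] at h1
          rw [Scheme.IdealSheafData.comap_sup, h1.1, bot_sup_eq, Groth.Divisors.comap_mul] at h2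
          have hI'top : I'.comap j = ⊤ := top_le_iff.mp (h2.ge.trans (mul_le_left' _ _))
          have hJbot : J.comap j = ⊥ := by rw [← top_mul' (J.comap j), ← hI'top]; exact h1.2
          intro P q p H x hx
          rcases hx with hx | hx
          · exact hflat j h1.1 hI'top q p H x hx
          · exact hflatJ j hJbot (top_le_iff.mp (h2.ge.trans (mul_le_right' _ _))) q p H x hx
    refine .cons _ _ hfg le_sup_left (fun T j h1 h2 => ?_) (key _ hJ₀)
    rw [Scheme.IdealSheafData.comap_sup, h1, bot_sup_eq, Groth.Divisors.comap_mul] at h2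
    have := isEmpty_of_comap_eq_top hnil j (top_le_iff.mp (h2.ge.trans (mul_le_right' _ _)))
    exact fun P q p _ x => isEmptyElim (p x)

variable [F.IsQuasicoherent]

/-- Algebraic strata give strata of schemes. -/
theorem stratFlat_of_algStratFlat {V : S.affineOpens} {W : X.Opens} (hW : IsAffineOpen W)
    (e : W ≤ f ⁻¹ᵁ V.1) {I J : S.IdealSheafData}
    (h : letI := sectionModule f F e; AlgStratFlat Γ(S, V.1) Γ(F, W) (I.ideal V) (J.ideal V)) :
    StratFlat f F W I J := by
  letI := sectionModule f F e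
  intro T j hI hJ P q p H x hx
  have hxV : p x ∈ j ⁻¹ᵁ V.1 := by
    show j (p x) ∈ V.1
    rw [← Scheme.Hom.comp_apply, ← H.w, Scheme.Hom.comp_apply]
    exact e hx
  obtain ⟨_, ⟨T' : T.Opens, hT', rfl⟩, hxT', eT⟩ :=
    T.isBasis_affineOpens.exists_subset_of_mem_open hxV (j ⁻¹ᵁ V.1).2
  let W' := q ⁻¹ᵁ W ⊓ p ⁻¹ᵁ T'
  have : IsAffine _ := V.2
  have : IsAffine _ := hT'
  have : IsAffine _ := hW
  have hW' : IsAffineOpen W' :=
    .of_isIso (Scheme.Hom.isPullback_resLE H eT e (rfl : W' = _)).isoPullback.hom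
  have hpo := (isIso_pushoutSection_iff H eT e rfl).mp
    (isIso_pushoutSection_of_isAffineOpen H eT e rfl V.2 hT' hW)
  have eWU : W' ≤ q ⁻¹ᵁ W := inf_le_left
  have eWV : W' ≤ p ⁻¹ᵁ T' := inf_le_right
  let F' := (Scheme.Modules.pullback q).obj F
  haveI : F'.IsQuasicoherent := inferInstance
  letI := (f.appLE V.1 W e).hom.toAlgebra
  letI := (j.appLE V.1 T' eT).hom.toAlgebra
  letI := sectionsAlg q eWU
  letI := (p.appLE T' W' eWV).hom.toAlgebra
  letI : Algebra Γ(S, V.1) Γ(P, W') := ((q.appLE W W' eWU).hom.comp (f.appLE V.1 W e).hom).toAlgebra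
  haveI : IsScalarTower Γ(S, V.1) Γ(X, W) Γ(P, W') := .of_algebraMap_eq' rfl
  haveI : IsScalarTower Γ(S, V.1) Γ(T, T') Γ(P, W') := .of_algebraMap_eq fun a => congr($(hpo.w) a)
  haveI : Algebra.IsPushout Γ(S, V.1) Γ(X, W) Γ(T, T') Γ(P, W') := CommRingCat.isPushout_iff_isPushout.mp hpo
  haveI : Algebra.IsPushout Γ(S, V.1) Γ(T, T') Γ(X, W) Γ(P, W') := .symm inferInstance
  haveI : IsScalarTower Γ(S, V.1) Γ(X, W) Γ(F, W) := .of_algebraMap_smul fun _ _ => rfl
  letI := sectionModule p F' eWV
  haveI : IsScalarTower Γ(T, T') Γ(P, W') Γ(F', W') := .of_algebraMap_smul fun _ _ => rfl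
  have := h Γ(T, T')
    ((Groth.Divisors.ideal_comap_affine I j V ⟨T', hT'⟩ eT).symm.trans (by rw [hI]; simp))
    ((Groth.Divisors.ideal_comap_affine J j V ⟨T', hT'⟩ eT).symm.trans (by rw [hJ]; simp))
  let Q := pullSecEquiv q F eWU hW hW'
  refine (flat_sections_iff p F' hW' hT' eWV).mp ?_ x ⟨hx, hxT'⟩
  exact Module.Flat.of_linearEquiv
    ((Algebra.IsPushout.cancelBaseChange Γ(S, V.1) Γ(T, T') Γ(X, W) Γ(P, W') Γ(F, W)).symm ≪≫ₗ
      Q.restrictScalars Γ(T, T')).symm

variable [CompactSpace S] [QuasiSeparatedSpace S] [LocallyOfFinitePresentation f]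

/-- A chain for a single affine open above an affine open of the base. -/
theorem exists_stratChain_affine (hF : CohB1.IsFP F) {V : S.affineOpens} {W : X.Opens} (hW : IsAffineOpen W)
    (e : W ≤ f ⁻¹ᵁ V.1) :
    ∃ J : S.IdealSheafData, (J.support : Set S) = Set.univ ∧ StratChain f F W J := by
  letI := (f.appLE V.1 W e).hom.toAlgebra
  letI := sectionModule f F e
  haveI : IsScalarTower Γ(S, V.1) Γ(X, W) Γ(F, W) := .of_algebraMap_smul fun _ _ => rfl
  have : Algebra.FinitePresentation Γ(S, V.1) Γ(X, W) := f.finitePresentation_appLE V.2 hW e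
  have := Groth.PropsBasic.FPSections.finitePresentation_sections F hF hW
  obtain ⟨I₀, hI₀, hchain⟩ := exists_algChain Γ(S, V.1) Γ(X, W) Γ(F, W)
  let N := Scheme.IdealSheafData.vanishingIdeal (⊤ : TopologicalSpace.Closeds S)
  have hN : nilradical Γ(S, V.1) ≤ N.ideal V := by
    intro a ha
    show a ∈ PrimeSpectrum.vanishingIdeal _
    rw [PrimeSpectrum.mem_vanishingIdeal]
    exact fun z _ => nilradical_le_prime z.asIdeal ha
  have main : ∀ I, AlgChain Γ(S, V.1) Γ(F, W) I → ∀ B : S.IdealSheafData, I ≤ B.ideal V →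
      ∃ K, K ≤ B ∧ K.ideal V = I ∧ StratChain f F W K := by
    intro I hI
    induction hI with
    | top =>
      intro B hB
      obtain ⟨K, hKB, hKfg, hK⟩ := exists_ftIdeal_eq B V ⊤ ⟨{1}, by simp⟩ hB
      refine ⟨K, hKB, hK, .cons K ⊤ hKfg le_top (stratFlat_of_algStratFlat hW e ?_) .top⟩
      intro A' _ _ hI _
      rw [hK, Ideal.map_top] at hI
      have : Subsingleton A' := subsingleton_of_zero_eq_one
        (Ideal.mem_bot.mp (hI ▸ (Submodule.mem_top : (1 : A') ∈ (⊤ : Ideal A')))).symm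
      have : Subsingleton (A' ⊗[Γ(S, V.1)] Γ(F, W)) := Module.subsingleton A' _
      infer_instance
    | cons I J hfg hle hflat _ ih =>
      intro B hB
      obtain ⟨K', -, hK'V, hK'⟩ := ih ⊤ (by simp)
      obtain ⟨K, hKB, hKfg, hK⟩ := exists_ftIdeal_eq (B ⊓ K') V I hfg (by
        show I ≤ (B.ideal ⊓ K'.ideal) V
        rw [Pi.inf_apply, hK'V]
        exact le_inf hB hle)
      refine ⟨K, hKB.trans inf_le_left, hK,
        .cons K K' hKfg (hKB.trans inf_le_right) (stratFlat_of_algStratFlat hW e ?_) hK'⟩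
      rwa [hK, hK'V]
  obtain ⟨K, hKN, -, hK⟩ := main I₀ hchain N (hI₀.trans hN)
  refine ⟨K, Set.univ_subset_iff.mp ?_, hK⟩
  have := Scheme.IdealSheafData.support_antitone hKN
  exact (Scheme.IdealSheafData.coe_support_vanishingIdeal (⊤ : TopologicalSpace.Closeds S)).ge.trans
    (SetLike.coe_subset_coe.mpr this)

theorem exists_stratChain [QuasiCompact f] (hF : CohB1.IsFP F) :
    ∃ I : S.IdealSheafData, (I.support : Set S) = Set.univ ∧ StratChain f F Set.univ I := by
  classical
  have : CompactSpace X := QuasiCompact.compactSpace_of_compactSpace f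
  obtain ⟨s, hs⟩ := isCompact_univ.elim_finite_subcover
    (fun U : {U : X.Opens // IsAffineOpen U ∧ ∃ V : S.affineOpens, U ≤ f ⁻¹ᵁ V.1} => (U.1 : Set X))
    (fun U => U.1.isOpen) (fun x _ => by
      obtain ⟨_, ⟨V : S.Opens, hV, rfl⟩, hxV, -⟩ :=
        S.isBasis_affineOpens.exists_subset_of_mem_open (Set.mem_univ (f x)) isOpen_univ
      obtain ⟨_, ⟨U : X.Opens, hU, rfl⟩, hxU, hle⟩ :=
        X.isBasis_affineOpens.exists_subset_of_mem_open (show x ∈ f ⁻¹ᵁ V from hxV) (f ⁻¹ᵁ V).2
      exact Set.mem_iUnion.mpr ⟨⟨U, hU, ⟨V, hV⟩, hle⟩, hxU⟩)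
  suffices h : ∀ t : Finset {U : X.Opens // IsAffineOpen U ∧ ∃ V : S.affineOpens, U ≤ f ⁻¹ᵁ V.1},
      ∃ I : S.IdealSheafData, (I.support : Set S) = Set.univ ∧
        StratChain f F (⋃ U ∈ t, (U.1 : Set X)) I by
    obtain ⟨I, hI, hchain⟩ := h s
    exact ⟨I, hI, (Set.univ_subset_iff.mp hs) ▸ hchain⟩
  intro t
  induction t using Finset.induction with
  | empty =>
    refine ⟨⊥, by simp, .cons ⊥ ⊤ (fun W => ?_) le_top (fun T j _ _ P q p _ x hx => ?_) .top⟩
    · exact (show (⊥ : S.IdealSheafData).ideal W = ⊥ by simp) ▸ ⟨∅, by simp⟩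
    · simp at hx
  | insert U t _ ih =>
    obtain ⟨I, hI, hchain⟩ := ih
    obtain ⟨V, e⟩ := U.2.2
    obtain ⟨J, hJ, hJchain⟩ := exists_stratChain_affine hF U.2.1 e
    refine ⟨I, hI, ?_⟩
    rw [Finset.set_biUnion_insert, Set.union_comm]
    exact hchain.union hJchain hJ

omit [F.IsQuasicoherent] [CompactSpace S] [QuasiSeparatedSpace S] [LocallyOfFinitePresentation f] in
theorem StratChain.exists_fin {I : S.IdealSheafData} (h : StratChain f F U I) :
    ∃ (t : ℕ) (J : Fin (t + 1) → S.IdealSheafData), Monotone J ∧ J 0 = I ∧ J (Fin.last t) = ⊤ ∧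
      (∀ i, ∀ W : S.affineOpens, ((J i).ideal W).FG) ∧
      ∀ i : Fin t, StratFlat f F U (J i.castSucc) (J i.succ) := by
  induction h with
  | top => exact ⟨0, fun _ => ⊤, monotone_const, rfl, rfl,
      fun _ W => (StratChain.top (f := f) (F := F) (U := U)).fg W, fun i => i.elim0⟩
  | cons I I' hfg hle hflat _ ih =>
    obtain ⟨t, J, hmono, h0, hlast, hJfg, hJflat⟩ := ih
    refine ⟨t + 1, Fin.cons I J, ?_, rfl, ?_, ?_, ?_⟩
    · refine Fin.monotone_iff_le_succ.mpr fun i => ?_
      refine Fin.cases ?_ (fun i => ?_) i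
      · simpa [h0] using hle
      · rw [← Fin.succ_castSucc, Fin.cons_succ, Fin.cons_succ]
        exact Fin.monotone_iff_le_succ.mp hmono i
    · rw [← Fin.succ_last, Fin.cons_succ, hlast]
    · exact Fin.cases hfg hJfg
    · refine Fin.cases ?_ fun i => ?_
      · simpa [h0] using hflat
      · rw [← Fin.succ_castSucc, Fin.cons_succ, Fin.cons_succ]
        exact hJflat i

end Groth.FlatMorOne
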