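import Groth.Agent.FlatMorOne.GenFlatReduced
import Groth.Agent.GenericFree.Presentation

/-! Generic flatness of a finite type algebra over a reduced ring. -/

universe u

open TensorProduct

namespace Groth.FlatMorOne

variable {R : Type u} [CommRing R]

theorem GoodFree.free_localized {M : Type u} [AddCommGroup M] [Module R M] {f : R} (h : GoodFree f M) :
    Module.Free (Localization.Away f) (LocalizedModule (Submonoid.powers f) M) := by
  obtain ⟨ι, φ, hφ, hs⟩ := h
  let S := Submonoid.powers f
  have hb : Function.Bijective (LocalizedModule.map S φ) := by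
    refine ⟨(injective_iff_map_eq_zero _).mpr fun z hz => ?_, fun z => ?_⟩
    · induction z using LocalizedModule.induction_on with
      | h x s =>
        rw [LocalizedModule.map_mk] at hz
        obtain ⟨⟨_, k, rfl⟩, hk⟩ := LocalizedModule.mk_eq.mp (hz.trans (LocalizedModule.zero_mk s).symm)
        simp only [smul_zero, Submonoid.smul_def, ← map_smul] at hk
        obtain ⟨l, hl⟩ := mem_satPow.mp (hφ hk)
        rw [Submodule.mem_bot] at hl
        rw [← LocalizedModule.zero_mk s, LocalizedModule.mk_eq]
        refine ⟨⟨f ^ l * f ^ k, l + k, pow_add _ _ _⟩, ?_⟩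
        simp only [smul_zero, Submonoid.smul_def, mul_smul]
        exact hl
    · induction z using LocalizedModule.induction_on with
      | h m s =>
        obtain ⟨k, x, hx⟩ := mem_satPow.mp (hs.ge (Submodule.mem_top (x := m)))
        refine ⟨LocalizedModule.mk x (⟨f ^ k, k, rfl⟩ * s), ?_⟩
        rw [LocalizedModule.map_mk, hx, LocalizedModule.mk_eq]
        exact ⟨1, by simp only [one_smul, Submonoid.smul_def, Submonoid.coe_mul, smul_smul]; congr 1; ring⟩
  have : Module.Free (Localization.Away f) (LocalizedModule S (ι →₀ R)) :=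
    Module.free_of_isLocalizedModule S (LocalizedModule.mkLinearMap S _)
  exact Module.Free.of_equiv (LinearEquiv.ofBijective _ hb)

/-- After inverting `g`, an algebra with relations saturated by finitely many is finitely presented. -/
theorem finitePresentation_tensor_of_sat {S P : Type u} [CommRing S] [Algebra R S] [CommRing P] [Algebra R P]
    [Algebra.FinitePresentation R P] (φ : P →ₐ[R] S) (hφ : Function.Surjective φ) (g : R) (J : Ideal P)
    (hJ : J.FG) (hle : J ≤ RingHom.ker φ) (hsat : ∀ p, φ p = 0 → ∃ k : ℕ, g ^ k • p ∈ J) :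
    Algebra.FinitePresentation (Localization.Away g) (Localization.Away g ⊗[R] S) := by
  set A := Localization.Away g
  let ψ := Algebra.TensorProduct.map (AlgHom.id A A) φ
  let i : P →ₐ[R] A ⊗[R] P := Algebra.TensorProduct.includeRight
  have hker : RingHom.ker ψ.toRingHom = J.map i := by
    have h0 : RingHom.ker ψ.toRingHom = (RingHom.ker φ).map i := Algebra.TensorProduct.lTensor_ker φ hφ
    rw [h0]
    refine le_antisymm (Ideal.map_le_iff_le_comap.mpr fun p hp => ?_) (Ideal.map_mono hle)
    obtain ⟨k, hk⟩ := hsat p hp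
    have h1 : i (g ^ k • p) ∈ J.map i := Ideal.mem_map_of_mem _ hk
    rw [map_smul, ← algebraMap_smul A] at h1
    replace h1 := Eq.subst (motive := fun z => z ∈ J.map i) (Algebra.smul_def (A := A ⊗[R] P) _ _) h1
    exact Ideal.mem_comap.mpr ((Ideal.unit_mul_mem_iff_mem _
      ((IsLocalization.map_units A (⟨g ^ k, k, rfl⟩ : Submonoid.powers g)).map (algebraMap A _))).mp h1)
  have : Algebra.FinitePresentation A (A ⊗[R] P) := inferInstance
  exact Algebra.FinitePresentation.of_surjective (f := ψ)
    (LinearMap.lTensor_surjective A hφ) (hker ▸ Ideal.FG.map hJ _)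

/-- **Generic flatness** over a reduced ring. -/
theorem exists_flat_finitePresentation_away [IsReduced R] (S : Type u) [CommRing S] [Algebra R S]
    [Algebra.FiniteType R S] {g : R} (hg : g ≠ 0) :
    ∃ f : R, f ≠ 0 ∧ g ∣ f ∧ ∀ f' : R, f ∣ f' →
      Module.Flat (Localization.Away f') (Localization.Away f' ⊗[R] S) ∧
      Algebra.FinitePresentation (Localization.Away f') (Localization.Away f' ⊗[R] S) := by
  classical
  obtain ⟨n, φ, hφ⟩ := Algebra.FiniteType.iff_quotient_mvPolynomial''.mp ‹Algebra.FiniteType R S›
  let P := MvPolynomial (Fin n) R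
  let _ : Algebra P S := φ.toRingHom.toAlgebra
  have : IsScalarTower R P S := IsScalarTower.of_algebraMap_eq fun r => (φ.commutes r).symm
  have : Module.Finite P S := Module.Finite.of_surjective (Algebra.linearMap P S) hφ
  obtain ⟨f, hf, hgf, hfree, hpres⟩ := exists_good_mvPolynomial n S g hg
  refine ⟨f, hf, hgf, fun f' hff' => ⟨?_, ?_⟩⟩
  · have := (hfree.mono hff').free_localized
    exact Module.Flat.of_linearEquiv (LocalizedModule.equivTensorProduct (Submonoid.powers f') S).symm
  obtain ⟨m, π, U', ⟨t, ht⟩, hle, hs, hker⟩ := hpres.mono hff'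
  obtain ⟨k, b, hb⟩ := mem_satPow.mp (hs.ge (Submodule.mem_top (x := (1 : S))))
  choose a ha using fun i : Fin m => hφ (π (Pi.single i 1))
  let L := Fintype.linearCombination P a
  have hL : ∀ x, φ (L x) = π x := fun x => by
    conv_rhs => rw [pi_eq_sum_univ' x]
    rw [Fintype.linearCombination_apply, map_sum, map_sum]
    refine Finset.sum_congr rfl fun i _ => ?_
    rw [smul_eq_mul, map_mul, ha, LinearMap.map_smul]
    rfl
  let J : Ideal P := Ideal.span (L '' (t : Set (Fin m → P)) ∪ {algebraMap R P (f' ^ k) - L b})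
  refine finitePresentation_tensor_of_sat φ hφ f' J (Submodule.fg_span
    ((t.finite_toSet.image _).union (Set.finite_singleton _))) (Ideal.span_le.mpr ?_) fun x hx => ?_
  · rintro _ (⟨y, hy, rfl⟩ | rfl)
    · rw [SetLike.mem_coe, RingHom.mem_ker, hL]
      exact hle (ht ▸ Submodule.subset_span hy)
    · rw [SetLike.mem_coe, RingHom.mem_ker, map_sub, AlgHom.commutes, hL, hb, Algebra.smul_def, mul_one, sub_self]
  · obtain ⟨l, hl⟩ := mem_satPow.mp (hker (show x • b ∈ LinearMap.ker π by
      rw [LinearMap.mem_ker, map_smul, hb, smul_comm, Algebra.smul_def (R := P) (A := S), mul_one]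
      show f' ^ k • φ x = 0
      rw [hx, smul_zero]))
    have h1 : L (f' ^ l • x • b) ∈ J := by
      have hle' : U' ≤ Submodule.comap L J := ht ▸ Submodule.span_le.mpr fun y hy =>
        Ideal.subset_span (Or.inl ⟨y, hy, rfl⟩)
      exact hle' hl
    have h2 : (algebraMap R P (f' ^ l) * x) * (algebraMap R P (f' ^ k) - L b) ∈ J :=
      J.mul_mem_left _ (Ideal.subset_span (Or.inr rfl))
    refine ⟨l + k, ?_⟩
    rw [LinearMap.map_smul_of_tower L, map_smul, smul_eq_mul, Algebra.smul_def] at h1
    convert J.add_mem h1 h2 using 1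
    rw [Algebra.smul_def, pow_add, map_mul]
    ring

end Groth.FlatMorOne
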