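import Mathlib

/-! Modules which are free and finitely presented up to powers of one element of the base. -/

universe u

namespace Groth.FlatMorOne

variable {R : Type u} [CommRing R]

/-- The submodule of elements that land in `N` after multiplication by a power of `f`. -/
def satPow {P M : Type u} [CommRing P] [Algebra R P] [AddCommGroup M] [Module R M] [Module P M]
    [IsScalarTower R P M] (f : R) (N : Submodule P M) : Submodule P M where
  carrier := {x | ∃ k : ℕ, f ^ k • x ∈ N}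
  zero_mem' := ⟨0, by simp⟩
  add_mem' := by
    rintro a b ⟨k, hk⟩ ⟨l, hl⟩
    refine ⟨k + l, ?_⟩
    rw [smul_add]
    refine N.add_mem ?_ ?_
    · rw [add_comm, pow_add, mul_smul]; exact N.smul_of_tower_mem _ hk
    · rw [pow_add, mul_smul]; exact N.smul_of_tower_mem _ hl
  smul_mem' := by
    rintro a x ⟨k, hk⟩
    exact ⟨k, by rw [smul_comm]; exact N.smul_mem _ hk⟩

section

variable {P M : Type u} [CommRing P] [Algebra R P] [AddCommGroup M] [Module R M] [Module P M]
  [IsScalarTower R P M] {f : R} {N : Submodule P M}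

theorem mem_satPow {x : M} : x ∈ satPow f N ↔ ∃ k : ℕ, f ^ k • x ∈ N := Iff.rfl

theorem le_satPow : N ≤ satPow f N := fun x hx => ⟨0, by simpa using hx⟩

theorem satPow_mono {N' : Submodule P M} (h : N ≤ N') : satPow f N ≤ satPow f N' :=
  fun _ ⟨k, hk⟩ => ⟨k, h hk⟩

theorem satPow_idem : satPow f (satPow f N) ≤ satPow f N := fun x ⟨k, l, hl⟩ =>
  ⟨l + k, by rwa [pow_add, mul_smul]⟩

theorem mem_satPow_of_pow_smul_mem {x : M} {k : ℕ} (h : f ^ k • x ∈ satPow f N) : x ∈ satPow f N :=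
  satPow_idem ⟨k, h⟩

theorem satPow_dvd {f' : R} (h : f ∣ f') : satPow f N ≤ satPow f' N := fun x ⟨k, hk⟩ => by
  obtain ⟨a, rfl⟩ := h
  exact ⟨k, by rw [mul_comm f a, mul_pow, mul_smul]; exact N.smul_of_tower_mem _ hk⟩

end

/-- `M` is free up to powers of `f`. -/
def GoodFree (f : R) (M : Type u) [AddCommGroup M] [Module R M] : Prop :=
  ∃ (ι : Type u) (φ : (ι →₀ R) →ₗ[R] M),
    LinearMap.ker φ ≤ satPow f (⊥ : Submodule R (ι →₀ R)) ∧ satPow f (LinearMap.range φ) = ⊤

/-- `M` is finitely presented up to powers of `f`. -/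
def GoodPres (f : R) (P : Type u) [CommRing P] [Algebra R P] (M : Type u) [AddCommGroup M] [Module R M]
    [Module P M] [IsScalarTower R P M] : Prop :=
  ∃ (m : ℕ) (π : (Fin m → P) →ₗ[P] M) (U' : Submodule P (Fin m → P)),
    U'.FG ∧ U' ≤ LinearMap.ker π ∧ satPow f (LinearMap.range π) = ⊤ ∧ LinearMap.ker π ≤ satPow f U'

variable {A M N : Type u} [AddCommGroup A] [Module R A] [AddCommGroup M] [Module R M]
  [AddCommGroup N] [Module R N] {f : R}

theorem GoodFree.mono {f' : R} (h : GoodFree f M) (hf : f ∣ f') : GoodFree f' M := by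
  obtain ⟨ι, φ, h1, h2⟩ := h
  exact ⟨ι, φ, h1.trans (satPow_dvd hf), top_le_iff.mp (h2.ge.trans (satPow_dvd hf))⟩

theorem GoodFree.of_killed (h : ∀ x : M, ∃ k : ℕ, f ^ k • x = 0) : GoodFree f M :=
  ⟨ULift (Fin 0), 0, fun x _ => ⟨0, by simp [Subsingleton.elim x 0]⟩, top_le_iff.mp fun x _ =>
    (h x).imp fun k hk => by rw [hk]; exact zero_mem _⟩

theorem GoodFree.of_cofinal (h : GoodFree f N) (g : N →ₗ[R] M) (hg : Function.Injective g)
    (hs : satPow f (LinearMap.range g) = ⊤) : GoodFree f M := by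
  obtain ⟨ι, φ, h1, h2⟩ := h
  refine ⟨ι, g ∘ₗ φ, fun x hx => h1 (hg (hx.trans (map_zero g).symm)), top_le_iff.mp fun m _ => ?_⟩
  obtain ⟨k, n, hn⟩ := mem_satPow.mp (hs.ge (Submodule.mem_top (x := m)))
  refine mem_satPow_of_pow_smul_mem (k := k) ?_
  rw [← hn]
  obtain ⟨l, x, hx⟩ := mem_satPow.mp (h2.ge (Submodule.mem_top (x := n)))
  exact ⟨l, x, by rw [LinearMap.comp_apply, hx, map_smul]⟩

theorem GoodFree.of_exact (i : A →ₗ[R] M) (p : M →ₗ[R] N) (hi : Function.Injective i)
    (hp : Function.Surjective p) (hex : Function.Exact i p) (hA : GoodFree f A) (hN : GoodFree f N) :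
    GoodFree f M := by
  obtain ⟨ι, φ, hφ, hφs⟩ := hA
  obtain ⟨κ, ψ, hψ, hψs⟩ := hN
  choose s hs using fun j : κ => hp (ψ (Finsupp.single j 1))
  let lft : (κ →₀ R) →ₗ[R] M := Finsupp.linearCombination R s
  have hlft : ∀ y, p (lft y) = ψ y := fun y => by
    induction y using Finsupp.induction_linear with
    | zero => simp
    | add a b ha hb => rw [map_add, map_add, map_add, ha, hb]
    | single j r => rw [Finsupp.linearCombination_single, map_smul, hs, ← map_smul, Finsupp.smul_single, smul_eq_mul, mul_one]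
  let E := Finsupp.sumFinsuppLEquivProdFinsupp (α := ι) (β := κ) (M := R) R
  let χ : ((ι ⊕ κ) →₀ R) →ₗ[R] M := ((i ∘ₗ φ).coprod lft) ∘ₗ E.toLinearMap
  have hχ : ∀ x, χ x = i (φ (E x).1) + lft (E x).2 := fun x => rfl
  refine ⟨ι ⊕ κ, χ, fun x hx => ?_, top_le_iff.mp fun m _ => ?_⟩
  · have h1 : ψ (E x).2 = 0 := by
      have := congrArg p (LinearMap.mem_ker.mp hx)
      rwa [hχ, map_add, hex.apply_apply_eq_zero, zero_add, hlft, map_zero] at this
    obtain ⟨k, hk⟩ := mem_satPow.mp (hψ h1)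
    rw [Submodule.mem_bot] at hk
    refine mem_satPow_of_pow_smul_mem (k := k) ?_
    have h2 : φ (E (f ^ k • x)).1 = 0 := hi (by
      have h3 := congrArg (f ^ k • ·) (LinearMap.mem_ker.mp hx)
      simp only [smul_zero, hχ, smul_add] at h3
      rw [← map_smul lft, hk, map_zero, add_zero] at h3
      rw [map_zero, map_smul, Prod.smul_fst, map_smul, map_smul]
      exact h3)
    obtain ⟨l, hl⟩ := mem_satPow.mp (hφ h2)
    rw [Submodule.mem_bot] at hl
    refine ⟨l, (Submodule.mem_bot R).mpr (E.injective ?_)⟩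
    rw [map_zero, map_smul]
    exact Prod.ext hl (by simp [hk])
  · obtain ⟨k, y, hy⟩ := mem_satPow.mp (hψs.ge (Submodule.mem_top (x := p m)))
    obtain ⟨a, ha⟩ := (hex (f ^ k • m - lft y)).mp (by rw [map_sub, map_smul, hlft, hy, sub_self])
    refine mem_satPow_of_pow_smul_mem (k := k) ?_
    rw [show f ^ k • m = i a + lft y by rw [ha, sub_add_cancel]]
    refine add_mem ?_ (le_satPow ⟨E.symm (0, y), by simp [hχ]⟩)
    obtain ⟨l, x, hx⟩ := mem_satPow.mp (hφs.ge (Submodule.mem_top (x := a)))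
    exact ⟨l, E.symm (x, 0), by simp [hχ, hx]⟩

variable {P : Type u} [CommRing P] [Algebra R P] [Module P A] [IsScalarTower R P A] [Module P M]
  [IsScalarTower R P M] [Module P N] [IsScalarTower R P N]

theorem GoodPres.mono {f' : R} (h : GoodPres f P M) (hf : f ∣ f') : GoodPres f' P M := by
  obtain ⟨m, π, U', h0, h1, h2, h3⟩ := h
  exact ⟨m, π, U', h0, h1, top_le_iff.mp (h2.ge.trans (satPow_dvd hf)), h3.trans (satPow_dvd hf)⟩

theorem GoodPres.of_killed (h : ∀ x : M, ∃ k : ℕ, f ^ k • x = 0) : GoodPres f P M :=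
  ⟨0, 0, ⊥, Submodule.fg_bot, bot_le, top_le_iff.mp fun x _ => (h x).imp fun k hk => by rw [hk]; exact zero_mem _,
    fun x _ => ⟨0, by simp [Subsingleton.elim x 0]⟩⟩

theorem GoodPres.of_cofinal (h : GoodPres f P N) (g : N →ₗ[P] M) (hg : Function.Injective g)
    (hs : satPow f (LinearMap.range g) = ⊤) : GoodPres f P M := by
  obtain ⟨m, π, U', h0, h1, h2, h3⟩ := h
  have hker : LinearMap.ker (g ∘ₗ π) = LinearMap.ker π :=
    LinearMap.ker_comp_of_ker_eq_bot _ (LinearMap.ker_eq_bot.mpr hg)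
  refine ⟨m, g ∘ₗ π, U', h0, hker ▸ h1, top_le_iff.mp fun x _ => ?_, hker ▸ h3⟩
  obtain ⟨k, n, hn⟩ := mem_satPow.mp (hs.ge (Submodule.mem_top (x := x)))
  refine mem_satPow_of_pow_smul_mem (k := k) ?_
  rw [← hn]
  obtain ⟨l, y, hy⟩ := mem_satPow.mp (h2.ge (Submodule.mem_top (x := n)))
  exact ⟨l, y, by rw [LinearMap.comp_apply, hy, LinearMap.map_smul_of_tower]⟩

theorem GoodPres.of_exact (i : A →ₗ[P] M) (p : M →ₗ[P] N) (hi : Function.Injective i)
    (hp : Function.Surjective p) (hex : Function.Exact i p) (hA : GoodPres f P A) (hN : GoodPres f P N) :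
    GoodPres f P M := by
  classical
  obtain ⟨a, πA, UA, hAfg, hAle, hAs, hAker⟩ := hA
  obtain ⟨b, πN, UN, hNfg, hNle, hNs, hNker⟩ := hN
  choose s hs using fun j : Fin b => hp (πN (Pi.single j 1))
  let lft := Fintype.linearCombination P s
  have hlft : ∀ y, p (lft y) = πN y := fun y => by
    conv_rhs => rw [pi_eq_sum_univ' y]
    rw [Fintype.linearCombination_apply, map_sum, map_sum]
    exact Finset.sum_congr rfl fun j _ => by rw [map_smul, map_smul, hs]
  let E : (Fin (a + b) → P) ≃ₗ[P] (Fin a → P) × (Fin b → P) :=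
    (LinearEquiv.funCongrLeft P P finSumFinEquiv).trans (LinearEquiv.sumArrowLequivProdArrow _ _ P P)
  let π : (Fin (a + b) → P) →ₗ[P] M := ((i ∘ₗ πA).coprod lft) ∘ₗ E.toLinearMap
  have hπ : ∀ x, π x = i (πA (E x).1) + lft (E x).2 := fun x => rfl
  obtain ⟨tA, rfl⟩ := hAfg
  obtain ⟨tN, rfl⟩ := hNfg
  have hw : ∀ w ∈ tN, ∃ (k : ℕ) (v : Fin a → P), π (E.symm (v, f ^ k • w)) = 0 := fun w hw => by
    obtain ⟨a', ha'⟩ := (hex (lft w)).mp (by rw [hlft]; exact hNle (Submodule.subset_span hw))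
    obtain ⟨k, v, hv⟩ := mem_satPow.mp (hAs.ge (Submodule.mem_top (x := a')))
    refine ⟨k, -v, ?_⟩
    rw [hπ, LinearEquiv.apply_symm_apply, map_neg, map_neg, hv, LinearMap.map_smul_of_tower i, ha',
      LinearMap.map_smul_of_tower lft, neg_add_cancel]
  choose! kw vw hkvw using hw
  let G : Set (Fin (a + b) → P) := (fun u => E.symm (u, (0 : Fin b → P))) '' (tA : Set (Fin a → P)) ∪
    (fun w => E.symm (vw w, f ^ kw w • w)) '' (tN : Set (Fin b → P))
  let U' := Submodule.span P G
  refine ⟨a + b, π, U', Submodule.fg_span ((tA.finite_toSet.image _).union (tN.finite_toSet.image _)),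
    Submodule.span_le.mpr ?_, top_le_iff.mp fun m _ => ?_, fun u hu => ?_⟩
  · rintro _ (⟨x, hx, rfl⟩ | ⟨w, hw, rfl⟩)
    · rw [SetLike.mem_coe, LinearMap.mem_ker, hπ, LinearEquiv.apply_symm_apply, map_zero, add_zero,
        LinearMap.mem_ker.mp (hAle (Submodule.subset_span hx)), map_zero]
    · exact hkvw w hw
  · obtain ⟨k, y, hy⟩ := mem_satPow.mp (hNs.ge (Submodule.mem_top (x := p m)))
    obtain ⟨a', ha⟩ := (hex (f ^ k • m - lft y)).mp (by
      rw [map_sub, LinearMap.map_smul_of_tower p, hlft, hy, sub_self])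
    refine mem_satPow_of_pow_smul_mem (k := k) ?_
    rw [show f ^ k • m = i a' + lft y by rw [ha, sub_add_cancel]]
    refine add_mem ?_ (le_satPow ⟨E.symm (0, y), by simp [hπ]⟩)
    obtain ⟨l, x, hx⟩ := mem_satPow.mp (hAs.ge (Submodule.mem_top (x := a')))
    exact ⟨l, E.symm (x, 0), by simp [hπ, hx, LinearMap.map_smul_of_tower i]⟩
  · let snd : (Fin (a + b) → P) →ₗ[P] (Fin b → P) := LinearMap.snd P _ _ ∘ₗ E.toLinearMap
    have hN' : Submodule.span P (tN : Set (Fin b → P)) ≤ satPow f (U'.map snd) :=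
      Submodule.span_le.mpr fun w hw =>
        ⟨kw w, _, Submodule.subset_span (Or.inr ⟨w, hw, rfl⟩), by simp [snd]⟩
    have hy : πN (E u).2 = 0 := by
      have := congrArg p (LinearMap.mem_ker.mp hu)
      rwa [hπ, map_add, hex.apply_apply_eq_zero, zero_add, hlft, map_zero] at this
    obtain ⟨k, z, hz, hzk⟩ := mem_satPow.mp (satPow_idem (satPow_mono hN' (hNker hy)))
    refine mem_satPow_of_pow_smul_mem (k := k) ?_
    rw [show f ^ k • u = (f ^ k • u - z) + z by rw [sub_add_cancel]]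
    refine add_mem ?_ (le_satPow hz)
    have hzker : π z = 0 := by
      refine (Submodule.span_le.mpr ?_ : U' ≤ LinearMap.ker π) hz
      rintro _ (⟨x, hx, rfl⟩ | ⟨w, hw, rfl⟩)
      · rw [SetLike.mem_coe, LinearMap.mem_ker, hπ, LinearEquiv.apply_symm_apply, map_zero, add_zero,
          LinearMap.mem_ker.mp (hAle (Submodule.subset_span hx)), map_zero]
      · exact hkvw w hw
    let d := f ^ k • u - z
    have hd2 : (E d).2 = 0 := by
      simp only [d, map_sub, LinearMap.map_smul_of_tower E.toLinearMap, LinearEquiv.coe_coe] at *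
      rw [show E (f ^ k • u) = f ^ k • E u from LinearMap.map_smul_of_tower E.toLinearMap _ u]
      rw [Prod.snd_sub, Prod.smul_snd, ← hzk]
      exact sub_self _
    have hd1 : πA (E d).1 = 0 := hi (by
      have : π d = 0 := by
        rw [map_sub, LinearMap.map_smul_of_tower π, LinearMap.mem_ker.mp hu, hzker, smul_zero, sub_zero]
      rw [hπ, hd2, map_zero, add_zero] at this
      rw [this, map_zero])
    have hle : Submodule.span P (tA : Set (Fin a → P)) ≤ U'.comap (E.symm.toLinearMap ∘ₗ LinearMap.inl P _ _) :=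
      Submodule.span_le.mpr fun x hx => Submodule.subset_span (Or.inl ⟨x, hx, rfl⟩)
    obtain ⟨l, hl⟩ := mem_satPow.mp (hAker hd1)
    refine ⟨l, ?_⟩
    have h := hle hl
    rw [Submodule.mem_comap, LinearMap.map_smul_of_tower] at h
    rw [show f ^ k • u - z = E.symm ((E d).1, 0) by rw [← hd2, Prod.mk.eta, LinearEquiv.symm_apply_apply]]
    exact h

set_option maxHeartbeats 400000 in
/-- Adjoining one element to the acting algebra preserves finite presentation up to powers of `f`. -/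
theorem GoodPres.extend {P' : Type u} [CommRing P'] [Algebra R P'] [Algebra P' P] [IsScalarTower R P' P]
    [Module P' M] [IsScalarTower R P' M] [IsScalarTower P' P M] (X : P)
    (hX : Algebra.adjoin P' {X} = ⊤) (h : GoodPres f P' M) : GoodPres f P M := by
  classical
  obtain ⟨m, π₀, U₀, h0fg, h0le, h0s, h0ker⟩ := h
  let π := Fintype.linearCombination P (fun i => π₀ (Pi.single i 1))
  let ι : (Fin m → P') →ₗ[P'] (Fin m → P) := LinearMap.pi fun i => Algebra.linearMap P' P ∘ₗ LinearMap.proj i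
  have hπι : ∀ v, π (ι v) = π₀ v := fun v => by
    conv_rhs => rw [pi_eq_sum_univ' v]
    rw [Fintype.linearCombination_apply, map_sum]
    refine Finset.sum_congr rfl fun i _ => ?_
    rw [map_smul]
    exact algebraMap_smul P (v i) _
  have hrel : ∀ i, ∃ (k : ℕ) (v : Fin m → P'), π (f ^ k • X • Pi.single i (1 : P) - ι v) = 0 := fun i => by
    obtain ⟨k, v, hv⟩ := mem_satPow.mp (h0s.ge (Submodule.mem_top (x := X • π₀ (Pi.single i 1))))
    refine ⟨k, v, ?_⟩
    rw [map_sub, hπι, hv, LinearMap.map_smul_of_tower π, map_smul, sub_eq_zero]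
    congr 2
    simp [π]
  choose kk vv hkv using hrel
  obtain ⟨t, rfl⟩ := h0fg
  let U' := Submodule.span P (ι '' (t : Set (Fin m → P')) ∪ Set.range fun i => f ^ kk i • X • Pi.single i (1 : P) - ι (vv i))
  have hU' : U' ≤ LinearMap.ker π := Submodule.span_le.mpr <| by
    rintro _ (⟨x, hx, rfl⟩ | ⟨i, rfl⟩)
    · rw [SetLike.mem_coe, LinearMap.mem_ker, hπι]
      exact h0le (Submodule.subset_span hx)
    · exact hkv i
  refine ⟨m, π, U', Submodule.fg_span ((t.finite_toSet.image _).union (Set.finite_range _)), hU',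
    top_le_iff.mp fun x _ => ?_, fun u hu => ?_⟩
  · obtain ⟨k, v, hv⟩ := mem_satPow.mp (h0s.ge (Submodule.mem_top (x := x)))
    exact ⟨k, ι v, by rw [hπι, hv]⟩
  -- every vector is, up to powers of `f`, a vector over `P'` plus a relation
  let W : Submodule P' (Fin m → P) := satPow f (LinearMap.range ι ⊔ U'.restrictScalars P')
  have hXi : ∀ i, X • Pi.single i (1 : P) ∈ W := fun i =>
    ⟨kk i, by
      rw [show f ^ kk i • X • Pi.single i (1 : P) =
        ι (vv i) + (f ^ kk i • X • Pi.single i (1 : P) - ι (vv i)) by rw [add_sub_cancel]]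
      exact add_mem (Submodule.mem_sup_left ⟨_, rfl⟩) (Submodule.mem_sup_right (Submodule.subset_span (Or.inr ⟨i, rfl⟩)))⟩
  have hsum : ∀ v, ι v = ∑ i, v i • Pi.single i (1 : P) := fun v => by
    funext j
    simp [ι, Finset.sum_apply, Pi.single_apply, Algebra.smul_def]
  have hXW : ∀ w ∈ W, X • w ∈ W := by
    rintro w ⟨k, hk⟩
    obtain ⟨_, ⟨v, rfl⟩, z, hz, he⟩ := Submodule.mem_sup.mp hk
    refine mem_satPow_of_pow_smul_mem (k := k) ?_
    rw [smul_comm, ← he, smul_add, hsum, Finset.smul_sum]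
    refine add_mem (W.sum_mem fun i _ => ?_) (le_satPow (Submodule.mem_sup_right (U'.smul_mem _ hz)))
    rw [smul_comm]
    exact W.smul_mem _ (hXi i)
  have htop : ∀ p : P, ∀ w ∈ W, p • w ∈ W := by
    intro p
    have hp : p ∈ Algebra.adjoin P' {X} := hX ▸ trivial
    induction hp using Algebra.adjoin_induction with
    | mem x hx => rw [Set.mem_singleton_iff.mp hx]; exact hXW
    | algebraMap r => exact fun w hw => by rw [algebraMap_smul]; exact W.smul_mem r hw
    | add x y _ _ hx hy => exact fun w hw => by rw [add_smul]; exact add_mem (hx w hw) (hy w hw)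
    | mul x y _ _ hx hy => exact fun w hw => by rw [mul_smul]; exact hx _ (hy w hw)
  have huW : u ∈ W := by
    rw [pi_eq_sum_univ' u]
    refine W.sum_mem fun i _ => htop _ _ (le_satPow (Submodule.mem_sup_left ⟨Pi.single i 1, ?_⟩))
    funext j
    simp [ι, Pi.single_apply, apply_ite (algebraMap P' P)]
  obtain ⟨k, hk⟩ := huW
  obtain ⟨_, ⟨v, rfl⟩, z, hz, he⟩ := Submodule.mem_sup.mp hk
  refine mem_satPow_of_pow_smul_mem (k := k) ?_
  rw [← he]
  refine add_mem ?_ (le_satPow hz)
  have hv : π₀ v = 0 := by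
    have := congrArg π he
    rwa [map_add, hπι, LinearMap.map_smul_of_tower π, LinearMap.mem_ker.mp hu,
      LinearMap.mem_ker.mp (hU' hz), smul_zero, add_zero] at this
  obtain ⟨l, hl⟩ := mem_satPow.mp (h0ker hv)
  refine ⟨l, ?_⟩
  have hle : Submodule.span P' (t : Set (Fin m → P')) ≤ (U'.restrictScalars P').comap ι :=
    Submodule.span_le.mpr fun x hx => Submodule.subset_span (Or.inl ⟨x, hx, rfl⟩)
  have := hle hl
  rwa [Submodule.mem_comap, LinearMap.map_smul_of_tower ι] at this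

end Groth.FlatMorOne
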