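import Groth.Agent.FlatMorOne.FlatStageScheme
import Groth.Agent.Limits.HomDescent
import Groth.Agent.LocFree.FP

/-! Injectivity with flat cokernel at a point descends to a stage of a limit. -/

set_option backward.isDefEq.respectTransparency false
set_option backward.defeqAttrib.useBackward true

universe u

open CategoryTheory CategoryTheory.Limits AlgebraicGeometry Groth.QCohMod Groth.Limits

namespace Groth.FlatMorOne

/-- The kernel of an identity is of finite presentation. -/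
theorem isFP_kernel_id {X : Scheme.{u}} (F : X.Modules) [F.IsQuasicoherent] :
    CohB1.IsFP (kernel (𝟙 F) : X.Modules) :=
  Groth.LocFree.isFP_of_affine_cover _ fun x => by
    obtain ⟨U, hU, hx⟩ := exists_affine_mem x
    have : Subsingleton Γ((kernel (𝟙 F) : X.Modules), U) :=
      AddCommGrpCat.subsingleton_of_isZero ((sec U).map_isZero (isZero_kernel_of_mono (𝟙 F)))
    exact ⟨U, hU, hx, inferInstance⟩

/-- Flatness is goodness for the map from zero. -/
theorem goodAt_kernel_id_iff {X S : Scheme.{u}} (f : X ⟶ S) {Z F : X.Modules} (hZ : IsZero Z)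
    (u : Z ⟶ F) (x : X) : GoodAt f u x ↔ FlatMod.IsFlatOverAt f F x := by
  obtain rfl : u = 0 := hZ.eq_of_src _ _
  have : Subsingleton ((stalk x).obj Z) := AddCommGrpCat.subsingleton_of_isZero ((stalk x).map_isZero hZ)
  exact ⟨fun h => (isFlatOverAt_congr f cokernelZeroIsoTarget x).mp h.2,
    fun h => ⟨Function.injective_of_subsingleton _, (isFlatOverAt_congr f cokernelZeroIsoTarget x).mpr h⟩⟩

variable {I : Type u} [SmallCategory I] [IsCofiltered I] {D : I ⥤ Scheme.{u}} {c : Cone D}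
  [∀ (i j : I) (φ : i ⟶ j), IsAffineHom (D.map φ)] {i₀ : I}

/-- A point of the limit at which the map is injective with flat cokernel is so at some stage. -/
theorem exists_stage_goodAt (hc : IsLimit c)
    {X₀ Y₀ : Scheme.{u}} (f₀ : X₀ ⟶ Y₀) (g₀ : Y₀ ⟶ D.obj i₀) [LocallyOfFinitePresentation f₀]
    {F F' : X₀.Modules} [F.IsQuasicoherent] [F'.IsQuasicoherent] (hF : CohB1.IsFP F) (hF' : CohB1.IsFP F')
    (u : F' ⟶ F) {X Y : Scheme.{u}} {f : X ⟶ Y} {g : Y ⟶ c.pt} {qY : Y ⟶ Y₀} {qX : X ⟶ X₀}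
    (hY : IsPullback qY g g₀ (c.π.app i₀)) (hX : IsPullback qX f f₀ qY) (x : X)
    (hx : GoodAt f ((Scheme.Modules.pullback qX).map u) x) :
    ∃ (i : I) (φ : i ⟶ i₀) (Xi Yi : Scheme.{u}) (fi : Xi ⟶ Yi) (gi : Yi ⟶ D.obj i)
      (pY : Yi ⟶ Y₀) (pX : Xi ⟶ X₀) (vY : Y ⟶ Yi) (vX : X ⟶ Xi),
      IsPullback pY gi g₀ (D.map φ) ∧ IsPullback pX fi f₀ pY ∧
        vY ≫ pY = qY ∧ vY ≫ gi = g ≫ c.π.app i ∧ vX ≫ pX = qX ∧ vX ≫ fi = f ≫ vY ∧
        GoodAt fi ((Scheme.Modules.pullback pX).map u) (vX x) := by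
  obtain ⟨_, ⟨W₀ : Y₀.Opens, hW₀, rfl⟩, hyW, -⟩ :=
    Y₀.isBasis_affineOpens.exists_subset_of_mem_open (Set.mem_univ (qY (f x))) isOpen_univ
  have : IsAffine W₀.toScheme := hW₀
  let x₀ : W₀.toScheme ⟶ D.obj i₀ := W₀.ι ≫ g₀
  let Y' := pullback x₀ (c.π.app i₀)
  have : IsAffineHom (c.π.app i₀) := isAffineHom_π_app D c hc i₀
  have : IsAffineHom (pullback.fst x₀ (c.π.app i₀)) := MorphismProperty.pullback_fst _ _ inferInstance
  have : IsAffine Y' := isAffine_of_isAffineHom (pullback.fst x₀ (c.π.app i₀))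
  let ι' : Y' ⟶ Y := hY.lift (pullback.fst _ _ ≫ W₀.ι) (pullback.snd _ _) (by
    rw [Category.assoc]; exact pullback.condition)
  have hι'q : ι' ≫ qY = pullback.fst x₀ (c.π.app i₀) ≫ W₀.ι := hY.lift_fst _ _ _
  have hι'g : ι' ≫ g = pullback.snd x₀ (c.π.app i₀) := hY.lift_snd _ _ _
  have hι' : IsPullback (pullback.fst x₀ (c.π.app i₀)) ι' W₀.ι qY :=
    IsPullback.of_bot (by rw [hι'g]; exact IsPullback.of_hasPullback x₀ (c.π.app i₀)) hι'q.symm hY
  have : IsOpenImmersion ι' := MorphismProperty.of_isPullback hι' (inferInstance : IsOpenImmersion W₀.ι)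
  let X' := pullback f ι'
  let r : X' ⟶ X := pullback.fst f ι'
  let p' : X' ⟶ Y' := pullback.snd f ι'
  obtain ⟨y', -, hy'⟩ := Scheme.exists_preimage_of_isPullback hι' (⟨qY (f x), hyW⟩ : W₀) (f x) rfl
  obtain ⟨x', hx'r, -⟩ := Scheme.Pullback.exists_preimage_pullback (f := f) (g := ι') x y' hy'.symm
  -- the point on the affine base
  have : LocallyOfFinitePresentation f := MorphismProperty.of_isPullback hX ‹LocallyOfFinitePresentation f₀›
  haveI : ((Scheme.Modules.pullback qX).obj F).IsQuasicoherent := inferInstance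
  haveI : ((Scheme.Modules.pullback qX).obj F').IsQuasicoherent := inferInstance
  have hx' : GoodAt p' ((Scheme.Modules.pullback (r ≫ qX)).map u) x' := by
    refine (goodAt_pullback_comp p' r qX u x').mp ((goodAt_comp_openImmersion p' ι' _ x').mp ?_)
    rw [← (pullback.condition : r ≫ f = p' ≫ ι')]
    refine (goodAt_pullback_openImmersion r f _ x').mpr ?_
    rw [hx'r]
    exact hx
  have H : IsPullback (r ≫ qX) p' f₀ (pullback.fst x₀ (c.π.app i₀) ≫ W₀.ι) := by
    rw [← hι'q]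
    exact (IsPullback.of_hasPullback f ι').paste_horiz hX
  obtain ⟨T, hT, t, htV, a, htfp, hat, hgood⟩ := exists_factor_good H hW₀
    (fun z _ => ((pullback.fst x₀ (c.π.app i₀)) z).2) hF hF' u x' hx'
  -- factor through a stage
  let t' : T ⟶ W₀.toScheme := T.topIso.inv ≫ t.resLE W₀ ⊤ htV
  have ht' : t' ≫ W₀.ι = t := by simp [t']
  have : LocallyOfFinitePresentation t' := inferInstance
  have (k : Over i₀) : CompactSpace ((stages D x₀).obj k) := compactSpace_stage D x₀ k.hom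
  have (k : Over i₀) : QuasiSeparatedSpace ((stages D x₀).obj k) := quasiSeparatedSpace_stage D x₀ k.hom
  let τ : stages D x₀ ⟶ (Functor.const (Over i₀)).obj W₀.toScheme :=
    { app := fun k => pullback.fst x₀ (D.map k.hom)
      naturality := fun k l m => by
        simp only [Functor.const_obj_map, Category.comp_id]
        exact pullback.lift_fst _ _ _ }
  have hat' : a ≫ t' = pullback.fst x₀ (c.π.app i₀) := by
    rw [← cancel_mono W₀.ι, Category.assoc, ht', hat]
  obtain ⟨k, gk, hgk₁, hgk₂⟩ := Scheme.exists_π_app_comp_eq_of_locallyOfFinitePresentation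
    (stages D x₀) τ t' (stagesCone D x₀) (isLimitStagesCone D x₀ hc) a (by
      ext k : 2
      simp only [NatTrans.comp_app, Functor.const_map_app, hat']
      exact pullback.lift_fst _ _ _)
  replace hgk₂ : gk ≫ t' = pullback.fst x₀ (D.map k.hom) := hgk₂
  replace hgk₁ : stageProj D x₀ c k.hom ≫ gk = a := hgk₁
  -- the stage
  let Yi := pullback g₀ (D.map k.hom)
  let pY : Yi ⟶ Y₀ := pullback.fst g₀ (D.map k.hom)
  let gi : Yi ⟶ D.obj k.left := pullback.snd g₀ (D.map k.hom)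
  let Xi := pullback f₀ pY
  let pX : Xi ⟶ X₀ := pullback.fst f₀ pY
  let fi : Xi ⟶ Yi := pullback.snd f₀ pY
  let vY : Y ⟶ Yi := pullback.lift qY (g ≫ c.π.app k.left) (by rw [hY.w, Category.assoc, c.w])
  have hvY : vY ≫ pY = qY := pullback.lift_fst _ _ _
  have hvYg : vY ≫ gi = g ≫ c.π.app k.left := pullback.lift_snd _ _ _
  let vX : X ⟶ Xi := pullback.lift qX (f ≫ vY) (by rw [hX.w, Category.assoc, hvY])
  have hvX : vX ≫ pX = qX := pullback.lift_fst _ _ _
  have hvXf : vX ≫ fi = f ≫ vY := pullback.lift_snd _ _ _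
  refine ⟨k.left, k.hom, Xi, Yi, fi, gi, pY, pX, vY, vX, IsPullback.of_hasPullback _ _,
    IsPullback.of_hasPullback _ _, hvY, hvYg, hvX, hvXf, ?_⟩
  let jk : pullback x₀ (D.map k.hom) ⟶ Yi := pullback.lift (pullback.fst _ _ ≫ W₀.ι) (pullback.snd _ _)
    (by rw [Category.assoc]; exact pullback.condition)
  have hjk₁ : jk ≫ pY = pullback.fst x₀ (D.map k.hom) ≫ W₀.ι := pullback.lift_fst _ _ _
  have hjk₂ : jk ≫ gi = pullback.snd x₀ (D.map k.hom) := pullback.lift_snd _ _ _
  have hjk : IsPullback (pullback.fst x₀ (D.map k.hom)) jk W₀.ι pY :=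
    IsPullback.of_bot (by rw [hjk₂]; exact IsPullback.of_hasPullback x₀ (D.map k.hom)) hjk₁.symm
      (IsPullback.of_hasPullback g₀ (D.map k.hom))
  have : IsOpenImmersion jk := MorphismProperty.of_isPullback hjk (inferInstance : IsOpenImmersion W₀.ι)
  have hjv : stageProj D x₀ c k.hom ≫ jk = ι' ≫ vY := by
    apply pullback.hom_ext
    · show (stageProj D x₀ c k.hom ≫ jk) ≫ pY = (ι' ≫ vY) ≫ pY
      rw [Category.assoc, hjk₁, Category.assoc, hvY, hι'q, ← Category.assoc, pullback.lift_fst]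
    · show (stageProj D x₀ c k.hom ≫ jk) ≫ gi = (ι' ≫ vY) ≫ gi
      rw [Category.assoc, hjk₂, Category.assoc, hvYg, reassoc_of% hι'g, pullback.lift_snd]
  let Xk := pullback fi jk
  let rk : Xk ⟶ Xi := pullback.fst fi jk
  let pk : Xk ⟶ pullback x₀ (D.map k.hom) := pullback.snd fi jk
  let N : X' ⟶ Xk := pullback.lift (r ≫ vX) (p' ≫ stageProj D x₀ c k.hom) (by
    rw [Category.assoc, hvXf, Category.assoc, hjv, pullback.condition_assoc])
  have hNr : N ≫ rk = r ≫ vX := pullback.lift_fst _ _ _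
  have hNp : N ≫ pk = p' ≫ stageProj D x₀ c k.hom := pullback.lift_snd _ _ _
  let PT := pullback f₀ t
  let qT : PT ⟶ X₀ := pullback.fst f₀ t
  let pT : PT ⟶ T := pullback.snd f₀ t
  have HT : IsPullback qT pT f₀ t := IsPullback.of_hasPullback f₀ t
  have hgt : gk ≫ t = jk ≫ pY := by rw [← ht', reassoc_of% hgk₂, hjk₁]
  let L : X' ⟶ PT := HT.lift (r ≫ qX) (p' ≫ a) (by rw [H.w, Category.assoc, hat])
  have hLq : L ≫ qT = r ≫ qX := HT.lift_fst _ _ _
  have hLp : L ≫ pT = p' ≫ a := HT.lift_snd _ _ _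
  have hLgood := hgood qT pT HT L hLq hLp
  let M : Xk ⟶ PT := HT.lift (rk ≫ pX) (pk ≫ gk) (by
    rw [Category.assoc, pullback.condition, pullback.condition_assoc, Category.assoc, hgt])
  have hMq : M ≫ qT = rk ≫ pX := HT.lift_fst _ _ _
  have hMp : M ≫ pT = pk ≫ gk := HT.lift_snd _ _ _
  have HM : IsPullback M pk pT gk := IsPullback.of_right (by
    rw [hMq, hgt]
    exact (IsPullback.of_hasPullback fi jk).paste_horiz (IsPullback.of_hasPullback f₀ pY)) hMp HT
  have hNM : N ≫ M = L := HT.hom_ext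
    (by rw [Category.assoc, hMq, reassoc_of% hNr, hvX, hLq])
    (by rw [Category.assoc, hMp, reassoc_of% hNp, hgk₁, hLp])
  have : LocallyOfFinitePresentation pT := MorphismProperty.of_isPullback HT ‹LocallyOfFinitePresentation f₀›
  have h1 := goodAt_baseChange HM (isFP_pullback qT F hF) (isFP_pullback qT F' hF')
    ((Scheme.Modules.pullback qT).map u) (N x') (by
      rw [← Scheme.Hom.comp_apply, hNM]; exact hLgood)
  rw [goodAt_pullback_comp, hMq, ← goodAt_pullback_comp, ← goodAt_comp_openImmersion pk jk,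
    ← pullback.condition, goodAt_pullback_openImmersion] at h1
  rw [show vX x = rk (N x') by rw [← hx'r, ← Scheme.Hom.comp_apply, ← Scheme.Hom.comp_apply, hNr]]
  exact h1

omit [IsCofiltered I] [∀ (i j : I) (φ : i ⟶ j), IsAffineHom (D.map φ)] in
/-- Goodness at a stage gives goodness at the limit. -/
theorem goodAt_of_stage {X₀ Y₀ : Scheme.{u}} {f₀ : X₀ ⟶ Y₀} {g₀ : Y₀ ⟶ D.obj i₀} [LocallyOfFinitePresentation f₀]
    {F F' : X₀.Modules} [F.IsQuasicoherent] [F'.IsQuasicoherent] (hF : CohB1.IsFP F) (hF' : CohB1.IsFP F')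
    (u : F' ⟶ F) {X Y : Scheme.{u}} {f : X ⟶ Y} {qY : Y ⟶ Y₀} {qX : X ⟶ X₀} (hX : IsPullback qX f f₀ qY)
    {Xi Yi : Scheme.{u}} {fi : Xi ⟶ Yi} {pY : Yi ⟶ Y₀} {pX : Xi ⟶ X₀} (hXi : IsPullback pX fi f₀ pY)
    {vY : Y ⟶ Yi} {vX : X ⟶ Xi} (hY' : vY ≫ pY = qY) (hX' : vX ≫ pX = qX) (hf : vX ≫ fi = f ≫ vY) (x : X)
    (h : GoodAt fi ((Scheme.Modules.pullback pX).map u) (vX x)) :
    GoodAt f ((Scheme.Modules.pullback qX).map u) x := by
  have : LocallyOfFinitePresentation fi := MorphismProperty.of_isPullback hXi ‹LocallyOfFinitePresentation f₀›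
  have H : IsPullback vX f fi vY := IsPullback.of_right (by rw [hX', hY']; exact hX) hf hXi
  have h1 := goodAt_baseChange H (isFP_pullback pX F hF) (isFP_pullback pX F' hF') _ x h
  rwa [goodAt_pullback_comp, hX'] at h1

end Groth.FlatMorOne
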