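import Mathlib.RingTheory.Finiteness.Ideal
import Mathlib.RingTheory.Ideal.Operations
import Mathlib.Tactic.LinearCombination

/-! Helper: an element of all powers of a finitely generated ideal whose closed set contains that
of the element is zero or a unit, in a domain. -/

namespace Groth.FlatMorOne

theorem eq_zero_or_isUnit_of_mem_all_pow {D : Type*} [CommRing D] [IsDomain D] {J : Ideal D}
    (hJ : J.FG) {x : D} (hx : ∀ n : ℕ, 1 ≤ n → x ∈ J ^ n)
    (hrad : ∀ P : Ideal D, P.IsPrime → x ∈ P → J ≤ P) : x = 0 ∨ IsUnit x := by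
  have h1 : J ≤ (Ideal.span {x}).radical := by
    rw [Ideal.radical_eq_sInf]
    exact le_sInf fun P hP => hrad P hP.2 (hP.1 (Ideal.subset_span rfl))
  obtain ⟨N, hN⟩ := Ideal.exists_pow_le_of_le_radical_of_fg h1 hJ
  have h2 : J ^ (N + 1) ≤ Ideal.span {x} := (Ideal.pow_le_pow_right (Nat.le_succ N)).trans hN
  have h3 : x ∈ Ideal.span {x} * Ideal.span {x} := by
    refine Ideal.mul_mono h2 h2 ?_
    rw [← pow_add]
    exact hx _ (by omega)
  rw [Ideal.span_singleton_mul_span_singleton, Ideal.mem_span_singleton'] at h3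
  obtain ⟨c, hc⟩ := h3
  by_cases h0 : x = 0
  · exact .inl h0
  · refine .inr (.of_mul_eq_one c (mul_right_cancel₀ h0 ?_))
    rw [one_mul]
    linear_combination hc

end Groth.FlatMorOne
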