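import Groth.Agent.FlatMorOne.UnivInj
import Mathlib.RingTheory.AdicCompletion.Basic
import Mathlib.RingTheory.OrzechProperty
import Mathlib.RingTheory.Finiteness.Basic
import Mathlib.LinearAlgebra.Projection
import Mathlib.Algebra.DirectSum.Module

/-! Multiplication by an element congruent to `1` modulo `I S` on a tensor product `N ⊗ M`. -/

open TensorProduct

namespace Groth.FlatMorOne

variable {R S : Type*} [CommRing R] [CommRing S] [Algebra R S]
  {N : Type*} [AddCommGroup N] [Module S N] [Module R N] [IsScalarTower R S N]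

theorem smul_mem_smul_top_of_mem_map {I : Ideal R} {a : S} (ha : a ∈ I.map (algebraMap R S))
    (n : N) : a • n ∈ I • (⊤ : Submodule R N) := by
  induction ha using Submodule.span_induction generalizing n with
  | mem x hx =>
    obtain ⟨r, hr, rfl⟩ := hx
    rw [algebraMap_smul]
    exact Submodule.smul_mem_smul hr trivial
  | zero => simp
  | add x y _ _ ih ih' => rw [add_smul]; exact add_mem (ih n) (ih' n)
  | smul s x _ ih => rw [smul_eq_mul, mul_comm, mul_smul]; exact ih _

theorem smul_tensor_eq_rTensor (s : S) {M : Type*} [AddCommGroup M] [Module R M]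
    (x : N ⊗[R] M) : s • x = ((LinearMap.lsmul S N s).restrictScalars R).rTensor M x := by
  induction x with
  | zero => simp
  | tmul n y => simp [smul_tmul']
  | add x y hx hy => simp [smul_add, hx, hy]

/-- The key reduction: an associated prime of `N ⊗ M` cannot be comaximal with `I S` when the
elements congruent to `1` modulo `I S` act injectively. -/
theorem sup_ne_top_of_forall_injective {I : Ideal R} {M : Type*} [AddCommGroup M] [Module R M]
    (H : ∀ s : S, 1 - s ∈ I.map (algebraMap R S) →
      Function.Injective (((LinearMap.lsmul S N s).restrictScalars R).rTensor M))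
    {q : Ideal S} (hq : q.IsPrime) {x : N ⊗[R] M} (hx : q = (Submodule.span S {x}).annihilator) :
    q ⊔ I.map (algebraMap R S) ≠ ⊤ := by
  intro htop
  obtain ⟨s, hs, j, hj, hsj⟩ := Submodule.mem_sup.mp ((Ideal.eq_top_iff_one _).mp htop)
  have hsx : s • x = 0 := by
    rw [hx, Submodule.mem_annihilator] at hs
    exact hs x (Submodule.mem_span_singleton_self x)
  rw [smul_tensor_eq_rTensor] at hsx
  have := H s (by rw [← hsj]; simpa using hj)
  have x0 : x = 0 := this (hsx.trans (map_zero _).symm)
  apply hq.ne_top
  rw [hx, x0, Submodule.span_singleton_eq_bot.mpr rfl, Submodule.annihilator_bot]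

theorem injective_rTensor_smul_of_projective [IsLocalRing R] [Module.Projective R N] {s : S}
    (hs : 1 - s ∈ (IsLocalRing.maximalIdeal R).map (algebraMap R S))
    (M : Type*) [AddCommGroup M] [Module R M] :
    Function.Injective (((LinearMap.lsmul S N s).restrictScalars R).rTensor M) := by
  refine rTensor_injective_of_projective _ ?_ M
  suffices ((LinearMap.lsmul S N s).restrictScalars R).lTensor (IsLocalRing.ResidueField R) =
      LinearMap.id by rw [this]; exact Function.injective_id
  refine TensorProduct.ext' fun c n => ?_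
  obtain ⟨c, rfl⟩ := IsLocalRing.residue_surjective c
  have h0 : TensorProduct.mk R (IsLocalRing.ResidueField R) N 1 ((1 - s) • n) = 0 := by
    have := smul_mem_smul_top_of_mem_map hs n
    rwa [← LinearMap.ker_tensorProductMk, LinearMap.mem_ker] at this
  rw [LinearMap.lTensor_tmul, LinearMap.id_apply]
  have e : IsLocalRing.residue R c = c • (1 : IsLocalRing.ResidueField R) := by
    rw [Algebra.smul_def, mul_one]; rfl
  rw [e, ← TensorProduct.smul_tmul', ← TensorProduct.smul_tmul']
  congr 1
  rw [mk_apply, sub_smul, one_smul, tmul_sub, sub_eq_zero] at h0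
  exact h0.symm

theorem injective_rTensor_smul_of_isAdicComplete {I : Ideal R} [IsAdicComplete I N] {s : S}
    (hs : 1 - s ∈ I.map (algebraMap R S)) (M : Type*) [AddCommGroup M] [Module R M] :
    Function.Injective (((LinearMap.lsmul S N s).restrictScalars R).rTensor M) := by
  let u : N →ₗ[R] N := (LinearMap.lsmul S N s).restrictScalars R
  have hpow : ∀ (k : ℕ) (n : N), (1 - s) ^ k • n ∈ I ^ k • (⊤ : Submodule R N) := fun k n => by
    refine smul_mem_smul_top_of_mem_map ?_ n
    rw [Ideal.map_pow]
    exact Ideal.pow_mem_pow hs k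
  have hgeom : ∀ k : ℕ, s * ∑ i ∈ Finset.range k, (1 - s) ^ i = 1 - (1 - s) ^ k := fun k => by
    have := geom_sum_mul_neg (1 - s) k
    rw [← this]; ring
  have hu : Function.Bijective u := by
    refine ⟨?_, fun y => ?_⟩
    · rw [injective_iff_map_eq_zero]
      intro x hx
      refine IsHausdorff.haus (IsAdicComplete.toIsHausdorff (I := I)) x fun k => ?_
      rw [SModEq.zero]
      have : (1 - s) ^ k • x = x := by
        have e := congrArg (· • x) (hgeom k)
        simp only [sub_smul, one_smul, mul_comm s, mul_smul] at e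
        rw [show s • x = 0 from hx, smul_zero, eq_comm, sub_eq_zero] at e
        exact e.symm
      rw [← this]; exact hpow k x
    · obtain ⟨L, hL⟩ := IsPrecomplete.prec (IsAdicComplete.toIsPrecomplete (I := I) (M := N))
        (f := fun k => (∑ i ∈ Finset.range k, (1 - s) ^ i) • y) (fun {m n} hmn => by
          rw [SModEq.sub_mem, ← neg_mem_iff, neg_sub, ← sub_smul,
            ← Finset.sum_range_add_sum_Ico _ hmn, add_sub_cancel_left, Finset.sum_smul]
          refine sum_mem fun i hi => ?_
          exact Submodule.smul_mono_left (Ideal.pow_le_pow_right (Finset.mem_Ico.mp hi).1)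
            (hpow i y))
      refine ⟨L, ?_⟩
      rw [← sub_eq_zero]
      refine IsHausdorff.haus (IsAdicComplete.toIsHausdorff (I := I)) _ fun k => ?_
      rw [SModEq.zero]
      have h1 : u (L - (∑ i ∈ Finset.range k, (1 - s) ^ i) • y) ∈ I ^ k • (⊤ : Submodule R N) := by
        have h2 : L - (∑ i ∈ Finset.range k, (1 - s) ^ i) • y ∈ I ^ k • (⊤ : Submodule R N) :=
          SModEq.sub_mem.mp (hL k).symm
        exact Submodule.smul_mono le_rfl le_top
          ((Submodule.map_smul'' _ _ u).le ⟨_, h2, rfl⟩)
      have e : u L - y = u (L - (∑ i ∈ Finset.range k, (1 - s) ^ i) • y) - (1 - s) ^ k • y := by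
        simp only [u, LinearMap.coe_restrictScalars, LinearMap.lsmul_apply, smul_sub, smul_smul,
          hgeom, sub_smul, one_smul]
        abel
      rw [e]
      exact sub_mem h1 (hpow k y)
  exact ((LinearEquiv.ofBijective u hu).rTensor M).injective

theorem injective_rTensor_smul_of_isInternal [IsLocalRing R] {ι : Type*} [DecidableEq ι]
    (F : ι → Submodule R N) (hF : DirectSum.IsInternal F) (hfin : ∀ i, Module.Finite R (F i))
    {s : S} (hs : 1 - s ∈ (IsLocalRing.maximalIdeal R).map (algebraMap R S))
    (M : Type*) [AddCommGroup M] [Module R M] :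
    Function.Injective (((LinearMap.lsmul S N s).restrictScalars R).rTensor M) := by
  classical
  let u : N →ₗ[R] N := (LinearMap.lsmul S N s).restrictScalars R
  rw [injective_iff_map_eq_zero]
  intro x hx
  have key : ∀ z : N ⊗[R] M, ∃ T : Finset ι,
      z ∈ LinearMap.range ((⨆ i ∈ T, F i).subtype.rTensor M) := by
    intro z
    induction z with
    | zero => exact ⟨∅, 0, map_zero _⟩
    | tmul n y =>
      have hn : n ∈ ⨆ i, F i := by rw [hF.submodule_iSup_eq_top]; trivial
      obtain ⟨T, hT⟩ := Submodule.mem_iSup_iff_exists_finset.mp hn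
      exact ⟨T, ⟨n, hT⟩ ⊗ₜ y, rfl⟩
    | add a b iha ihb =>
      obtain ⟨T₁, a', rfl⟩ := iha
      obtain ⟨T₂, b', rfl⟩ := ihb
      have l₁ : (⨆ i ∈ T₁, F i) ≤ ⨆ i ∈ T₁ ∪ T₂, F i :=
        biSup_mono fun i hi => Finset.mem_union_left _ hi
      have l₂ : (⨆ i ∈ T₂, F i) ≤ ⨆ i ∈ T₁ ∪ T₂, F i :=
        biSup_mono fun i hi => Finset.mem_union_right _ hi
      refine ⟨T₁ ∪ T₂, (Submodule.inclusion l₁).rTensor M a' +
        (Submodule.inclusion l₂).rTensor M b', ?_⟩
      rw [map_add, ← LinearMap.rTensor_comp_apply, ← LinearMap.rTensor_comp_apply,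
        Submodule.subtype_comp_inclusion, Submodule.subtype_comp_inclusion]
  obtain ⟨T, z, rfl⟩ := key x
  let L : Submodule R N := ⨆ i ∈ T, F i
  let C : Submodule R N := ⨆ i ∈ (↑T : Set ι)ᶜ, F i
  have hLC : IsCompl L C := by
    refine ⟨?_, ?_⟩
    · exact hF.submodule_iSupIndep.disjoint_biSup_biSup
        (s := (↑T : Set ι)) disjoint_compl_right
    · rw [codisjoint_iff, eq_top_iff, ← hF.submodule_iSup_eq_top]
      refine iSup_le fun i => ?_
      by_cases hi : i ∈ T
      · exact le_sup_of_le_left (le_biSup F hi)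
      · exact le_sup_of_le_right (le_biSup (s := (↑T : Set ι)ᶜ) F (by simpa using hi))
  have : Module.Finite R L := by
    rw [Module.Finite.iff_fg]
    exact Submodule.fg_biSup T F fun i _ => Module.Finite.iff_fg.mp (hfin i)
  let π : N →ₗ[R] L := Submodule.projectionOnto L C hLC
  let g : L →ₗ[R] L := π ∘ₗ u ∘ₗ L.subtype
  have hg : Function.Surjective g := by
    rw [← LinearMap.range_eq_top, ← IsLocalRing.map_mkQ_eq_top, eq_top_iff]
    rintro w -
    obtain ⟨l, rfl⟩ := Submodule.mkQ_surjective _ w
    refine ⟨g l, ⟨l, rfl⟩, ?_⟩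
    rw [← sub_eq_zero, ← map_sub, Submodule.mkQ_apply, Submodule.Quotient.mk_eq_zero]
    have : g l - l = -π ((1 - s) • (l : N)) := by
      simp only [g, u, LinearMap.comp_apply, Submodule.subtype_apply, LinearMap.coe_restrictScalars,
        LinearMap.lsmul_apply, sub_smul, one_smul, map_sub, π,
        Submodule.projectionOnto_apply_left, neg_sub]
    rw [this, neg_mem_iff]
    exact Submodule.smul_mono le_rfl le_top
      ((Submodule.map_smul'' _ _ π).le ⟨_, smul_mem_smul_top_of_mem_map hs (l : N), rfl⟩)
  have hg' := OrzechProperty.bijective_of_surjective_endomorphism g hg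
  suffices z = 0 by rw [this, map_zero]
  apply ((LinearEquiv.ofBijective g hg').rTensor M).injective
  show g.rTensor M z = (LinearEquiv.ofBijective g hg').rTensor M 0
  rw [map_zero, LinearMap.rTensor_comp_apply, LinearMap.rTensor_comp_apply, hx, map_zero]

end Groth.FlatMorOne
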