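/-
Tor amplitude along weakly etale ring maps.
-/
import Groth.Agent.DAlg.TorAmpRestrict
import Groth.Agent.EtaleAlgebra.WeaklyEtale

set_option autoImplicit false
set_option linter.style.haveILetI false

universe u

open CategoryTheory CategoryTheory.Limits CategoryTheory.Pretriangulated HomologicalComplex

attribute [local instance] HasDerivedCategory.standard

namespace Groth.FlatMorOne.TorAmpWE

open Groth.DAlg FlatCxBase

variable {A B : Type u} [CommRing A] [CommRing B] [Algebra A B]

/-- A module flat over `A` after restriction is flat over `B`. -/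
theorem flat_of_flat_restrict [Algebra.WeaklyEtale A B] (M : ModuleCat.{u} B)
    (h : Module.Flat A ((ModuleCat.restrictScalars (algebraMap A B)).obj M)) : Module.Flat B M := by
  letI : Module A M := Module.compHom M (algebraMap A B)
  haveI : IsScalarTower A B M := ⟨fun a b x => by
    change (a • b) • x = algebraMap A B a • (b • x)
    rw [Algebra.smul_def, mul_smul]⟩
  haveI : Module.Flat A M := h
  exact EtaleAlgebra.flat_of_flat_mul A B (Algebra.WeaklyEtale.flat_lmul' A B) M

/-- A flat module stays flat after restriction. -/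
theorem flat_restrict [Module.Flat A B] (M : ModuleCat.{u} B) [Module.Flat B M] :
    Module.Flat A ((ModuleCat.restrictScalars (algebraMap A B)).obj M) := by
  letI : Module A M := Module.compHom M (algebraMap A B)
  haveI : IsScalarTower A B M := ⟨fun a b x => by
    change (a • b) • x = algebraMap A B a • (b • x)
    rw [Algebra.smul_def, mul_smul]⟩
  exact Module.Flat.trans A B M

theorem torAmp_restrict [Module.Flat A B] {K : Dual.D B} {a b : ℤ} (h : DRing.HasTorAmplitudeIn B a b K) :
    DRing.HasTorAmplitudeIn A a b ((DRing.restrictD (algebraMap A B)).obj K) := by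
  obtain ⟨E, hE, hEf, ⟨e⟩⟩ := h
  exact ⟨(DRing.restrictCx (algebraMap A B)).obj E,
    fun i hi => Functor.map_isZero (ModuleCat.restrictScalars (algebraMap A B)) (hE i hi),
    fun i => haveI := hEf i; flat_restrict (E.X i),
    ⟨(resQIso (algebraMap A B) E).symm ≪≫ (DRing.restrictD (algebraMap A B)).mapIso e⟩⟩

theorem torAmp_of_restrict [Algebra.WeaklyEtale A B] {K : Dual.D B} {a b : ℤ}
    (h : DRing.HasTorAmplitudeIn A a b ((DRing.restrictD (algebraMap A B)).obj K)) :
    DRing.HasTorAmplitudeIn B a b K := by
  obtain ⟨P, hP, hfree, ⟨e⟩⟩ := exists_free_rep B (K := K) (b := b) fun i hi =>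
    (resHD_subsingleton_iff (algebraMap A B) K i).1 (TorAmp.subsingleton_HD h (Or.inr hi))
  let φ := algebraMap A B
  let P' := (DRing.restrictCx φ).obj P
  have hflat : DRing.TermwiseFlat P := fun i => haveI := hfree i; inferInstance
  haveI : ∀ i, Module.Flat A (P'.X i) := fun i => haveI := hflat i; flat_restrict (P.X i)
  have hP' : DRing.VanishesAbove P' b := fun i hi =>
    Functor.map_isZero (ModuleCat.restrictScalars φ) (hP i hi)
  have h' : DRing.HasTorAmplitudeIn A a b (DRing.toD P') :=
    TorAmp.of_iso h (((DRing.restrictD φ).mapIso e.symm) ≪≫ resQIso φ P)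
  have hz := isZero_of_torAmplitude P' hP' (fun i => inferInstance) h'
  have hQ : Module.Flat A (Coker P' (a - 1) a) :=
    flat_coker_of_isZero P' a fun M => hz M (a - 1) (Or.inl (by omega))
  have hQB : Module.Flat B (ModuleCat.of B (Coker P (a - 1) a)) := by
    refine flat_of_flat_restrict (A := A) _ ?_
    let f : P'.X a →ₗ[A] (ModuleCat.restrictScalars φ).obj (ModuleCat.of B (Coker P (a - 1) a)) :=
      ((ModuleCat.restrictScalars φ).map (ModuleCat.ofHom (cokerπ P (a - 1) a))).hom
    have hf : Function.Surjective f := Submodule.mkQ_surjective (LinearMap.range (P.d (a - 1) a).hom)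
    have hker : LinearMap.ker f = LinearMap.range (P'.d (a - 1) a).hom := by
      ext x
      change cokerπ P (a - 1) a x = 0 ↔ ∃ y, (P'.d (a - 1) a).hom y = x
      revert x
      exact fun (x : P.X a) => Submodule.Quotient.mk_eq_zero (LinearMap.range (P.d (a - 1) a).hom) (x := x)
    exact Module.Flat.of_linearEquiv (M := Coker P' (a - 1) a)
      ((Submodule.quotEquivOfEq _ _ hker.symm).trans (LinearMap.quotKerEquivOfSurjective f hf)).symm
  let Φ : ObjectProperty (ModuleCat.{u} B) := fun X => Module.Flat B X
  have : Φ.IsClosedUnderIsomorphisms :=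
    ⟨fun {X Y} i (hX : Module.Flat B X) => Module.Flat.of_linearEquiv i.toLinearEquiv.symm⟩
  obtain ⟨e'⟩ := nonempty_truncGE_iso (P := P) (a := a) fun i hi => by
    have h1 : Subsingleton (Dual.HD B (DRing.toD P) i) :=
      have := (resHD_subsingleton_iff φ K i).1 (TorAmp.subsingleton_HD h (Or.inl hi))
      (HDCongr e i).toEquiv.subsingleton
    exact isZero_homology_of_subsingleton h1
  exact ⟨P.truncGE a, vanishesOutside_truncGE P a hP,
    truncGE_X_of_prop Φ P a
      (fun X hX => haveI := ModuleCat.subsingleton_of_isZero hX; show Module.Flat B X from inferInstance)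
      (fun i _ => hflat i) hQB, ⟨e' ≪≫ e⟩⟩

theorem torAmp_restrict_iff [Algebra.WeaklyEtale A B] (K : Dual.D B) (a b : ℤ) :
    DRing.HasTorAmplitudeIn A a b ((DRing.restrictD (algebraMap A B)).obj K) ↔
      DRing.HasTorAmplitudeIn B a b K :=
  ⟨torAmp_of_restrict, torAmp_restrict⟩

end Groth.FlatMorOne.TorAmpWE
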