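import Groth.Prelude.Def_Flat
import Mathlib.AlgebraicGeometry.Morphisms.FlatMono
import Mathlib.AlgebraicGeometry.Morphisms.UniversallyInjective
import Mathlib.AlgebraicGeometry.Morphisms.Integral
import Mathlib.AlgebraicGeometry.Morphisms.Immersion

/-! Elementary consequences of being a universal homeomorphism. -/

universe u

open AlgebraicGeometry CategoryTheory Limits

namespace Groth.FlatMorOne

variable {X Y : Scheme.{u}} {f : X ⟶ Y}

theorem isHomeomorph_of_isPullback (h : FlatMor.IsUnivHomeo f) {X' Y' : Scheme.{u}} {i₁ : X' ⟶ X}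
    {i₂ : Y' ⟶ Y} {f' : X' ⟶ Y'} (hp : IsPullback f' i₁ i₂ f) : IsHomeomorph f'.base :=
  h i₁ i₂ f' hp

theorem isHomeomorph_base (h : FlatMor.IsUnivHomeo f) : IsHomeomorph f.base :=
  isHomeomorph_of_isPullback h .of_id_snd

theorem universallyInjective_of_isUnivHomeo (h : FlatMor.IsUnivHomeo f) :
    UniversallyInjective f :=
  ⟨fun _ _ _ _ _ hp => (isHomeomorph_of_isPullback h hp).injective⟩

theorem universallyClosed_of_isUnivHomeo (h : FlatMor.IsUnivHomeo f) : UniversallyClosed f :=
  ⟨fun _ _ _ _ _ hp => (isHomeomorph_of_isPullback h hp).isClosedMap⟩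

theorem surjective_of_isUnivHomeo (h : FlatMor.IsUnivHomeo f) : Surjective f :=
  ⟨(isHomeomorph_base h).surjective⟩

theorem quasiCompact_of_isHomeomorph (h : IsHomeomorph f.base) : QuasiCompact f :=
  ⟨fun _ _ hc => h.homeomorph.isCompact_preimage.mpr hc⟩

theorem quasiCompact_of_isUnivHomeo (h : FlatMor.IsUnivHomeo f) : QuasiCompact f :=
  quasiCompact_of_isHomeomorph (isHomeomorph_base h)

theorem quasiCompact_diagonal_of_isUnivHomeo (h : FlatMor.IsUnivHomeo f) :
    QuasiCompact (pullback.diagonal f) := by
  have := universallyInjective_of_isUnivHomeo h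
  have : Surjective (pullback.diagonal f) := (UniversallyInjective.iff_diagonal f).mp this
  have hfst : IsHomeomorph (pullback.fst f f).base :=
    isHomeomorph_of_isPullback h (.of_hasPullback f f)
  have e : (fun x => pullback.fst f f (pullback.diagonal f x)) = id := by
    funext x; rw [← Scheme.Hom.comp_apply, pullback.diagonal_fst]; rfl
  refine quasiCompact_of_isHomeomorph ⟨(pullback.diagonal f).continuous, ?_,
    (pullback.diagonal f).isEmbedding.injective, (pullback.diagonal f).surjective⟩
  intro U hU
  have hs : (pullback.diagonal f) '' U = (pullback.fst f f) ⁻¹' U := by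
    ext y
    obtain ⟨x, rfl⟩ := (pullback.diagonal f).surjective y
    simp [congrFun e x, (pullback.diagonal f).isEmbedding.injective.eq_iff]
  rw [hs]
  exact hU.preimage (pullback.fst f f).continuous

theorem mono_of_isUnivHomeo_of_flat_diagonal (h : FlatMor.IsUnivHomeo f)
    [Flat (pullback.diagonal f)] : Mono f := by
  have := universallyInjective_of_isUnivHomeo h
  have : Surjective (pullback.diagonal f) := (UniversallyInjective.iff_diagonal f).mp this
  have := quasiCompact_diagonal_of_isUnivHomeo h
  have := Flat.isIso_of_surjective_of_mono (pullback.diagonal f)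
  exact (pullback.isIso_diagonal_iff f).mp this

end Groth.FlatMorOne
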